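import Mathlib
import Cfsg.Agent.Lib.Grp.GrossTwo.Planar

/-!
Isometries supported on the inverted part of a small involution, and the `2`-groups they form there.
-/

set_option autoImplicit false
set_option linter.style.haveILetI false
set_option linter.unusedSectionVars false

namespace Cfsg.Agent.Grp.Bry

open Subgroup
open Cfsg.Agent.Grp.Gross (Form Isom mov mem_mov)

variable {K : Type*} [Field K] {S : Type*} [CommGroup S] {r : ℕ} {β : S → S → K}

/-- An involutory isometry (or the identity) inverting at most `r * r` elements. -/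
structure Small (r : ℕ) (β : S → S → K) (c : MulAut S) : Prop where
  iso : Isom β c
  sq : c * c = 1
  card : Nat.card (mov c) ≤ r * r

/-- `a` is supported on the inverted part of `c`. -/
def Fixes (c a : MulAut S) : Prop := ∀ s, c s = s → a s = s

theorem isom_one : Isom β (1 : MulAut S) := fun _ _ => rfl

theorem isom_mul {a b : MulAut S} (ha : Isom β a) (hb : Isom β b) : Isom β (a * b) := fun s t => by
  rw [MulAut.mul_apply, MulAut.mul_apply, ha, hb]

theorem isom_inv {a : MulAut S} (ha : Isom β a) : Isom β a⁻¹ := fun s t => by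
  rw [← ha (a⁻¹ s) (a⁻¹ t), MulAut.apply_inv_self, MulAut.apply_inv_self]

theorem isom_pow {a : MulAut S} (ha : Isom β a) : ∀ n : ℕ, Isom β (a ^ n)
  | 0 => isom_one
  | n + 1 => isom_mul (isom_pow ha n) ha

theorem Small.conj [Finite S] {c a : MulAut S} (h : Small r β c) (ha : Isom β a) :
    Small r β (a * c * a⁻¹) := by
  refine ⟨isom_mul (isom_mul ha h.iso) (isom_inv ha), ?_, ?_⟩
  · rw [show a * c * a⁻¹ * (a * c * a⁻¹) = a * (c * c) * a⁻¹ by group, h.sq, mul_one, mul_inv_cancel]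
  · exact (Gross.card_mov_conj (MonoidHom.id (MulAut S)) a c).le.trans h.card

theorem Small.inv_eq {c : MulAut S} (h : Small r β c) : c⁻¹ = c := inv_eq_of_mul_eq_one_right h.sq

theorem Fixes.mul {c a b : MulAut S} (ha : Fixes c a) (hb : Fixes c b) : Fixes c (a * b) :=
  fun s hs => by rw [MulAut.mul_apply, hb s hs, ha s hs]

theorem Fixes.inv {c a : MulAut S} (ha : Fixes c a) : Fixes c a⁻¹ := fun s hs => by
  have h := congrArg (a⁻¹ : MulAut S) (ha s hs)
  rwa [MulAut.inv_apply_self, eq_comm] at h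

theorem Fixes.pow {c a : MulAut S} (ha : Fixes c a) : ∀ n : ℕ, Fixes c (a ^ n)
  | 0 => fun _ _ => rfl
  | n + 1 => by rw [pow_succ]; exact (Fixes.pow ha n).mul ha

theorem Fixes.refl (c : MulAut S) : Fixes c c := fun _ hs => hs

theorem Fixes.conj {c a : MulAut S} (h : Fixes c a) (g : MulAut S) :
    Fixes (g * c * g⁻¹) (g * a * g⁻¹) := fun s hs => by
  rw [MulAut.mul_apply, MulAut.mul_apply] at hs ⊢
  have h1 : c (g⁻¹ s) = g⁻¹ s := by
    apply g.injective
    rw [hs, MulAut.apply_inv_self]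
  rw [h _ h1, MulAut.apply_inv_self]

theorem apply_mem_mov {a c : MulAut S} (h : Commute a c) {u : S} (hu : u ∈ mov c) : a u ∈ mov c := by
  rw [mem_mov, ← MulAut.mul_apply, ← h.eq, MulAut.mul_apply, mem_mov.mp hu, map_inv]

theorem apply_fix {a c : MulAut S} (h : Commute a c) {u : S} (hu : c u = u) : c (a u) = a u := by
  rw [← MulAut.mul_apply, ← h.eq, MulAut.mul_apply, hu]

/-- Elements agreeing on the inverted and on the fixed part are equal. -/
theorem ext_split (F : Form r β) (hr : Odd r) {c a b : MulAut S} (hc : c * c = 1)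
    (h1 : ∀ u ∈ mov c, a u = b u) (h2 : ∀ s, c s = s → a s = b s) : a = b :=
  MulEquiv.ext fun s => by
    obtain ⟨u, f, hu, hf, rfl, -⟩ := F.split hr hc s
    rw [map_mul, map_mul, h1 u hu, h2 f hf]

/-- Two supported elements commute when the supports are orthogonal. -/
theorem commute_of_fix (F : Form r β) (hr : Odd r) {a b ca cb : MulAut S} (hca : ca * ca = 1)
    (hcb : cb * cb = 1) (ha : Fixes ca a) (hb : Fixes cb b) (haca : Commute a ca) (hbcb : Commute b cb)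
    (h1 : ∀ u ∈ mov cb, ca u = u) (h2 : ∀ u ∈ mov ca, cb u = u) : Commute a b := by
  refine ext_split F hr hca (fun u hu => ?_) fun s hs => ?_
  · rw [MulAut.mul_apply, MulAut.mul_apply, hb u (h2 u hu), hb _ (h2 _ (apply_mem_mov haca hu))]
  · obtain ⟨v, g, hv, hg, hvg, -⟩ := F.split hr hcb s
    have hgv : ca g = g := by
      have h := hs
      rw [← hvg, map_mul, h1 v hv] at h
      exact mul_left_cancel h
    rw [← hvg, map_mul, map_mul, MulAut.mul_apply, MulAut.mul_apply, MulAut.mul_apply, MulAut.mul_apply,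
      ha v (h1 v hv), hb g hg, ha g hgv, hb g hg, ha _ (h1 _ (apply_mem_mov hbcb hv))]

/-- Commuting small involutions are equal or have orthogonal inverted parts. -/
theorem eq_or_orth (F : Form r β) (hr : Odd r) [Finite S] [Fact r.Prime] {e f : MulAut S}
    (he : Small r β e) (hf : Small r β f) (hc : Commute e f) :
    e = f ∨ ((∀ u ∈ mov e, f u = u) ∧ ∀ u ∈ mov f, e u = u) := by
  rcases F.eq_or_fix hr he.sq hf.sq he.iso hf.iso he.card hf.card hc with h | h
  · exact Or.inl h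
  rcases F.eq_or_fix hr hf.sq he.sq hf.iso he.iso hf.card he.card hc.symm with h' | h'
  · exact Or.inl h'.symm
  exact Or.inr ⟨h, h'⟩

theorem exists_mem_mov_ne_one (F : Form r β) (hr : Odd r) {c : MulAut S} (hc : c * c = 1) (h1 : c ≠ 1) :
    ∃ u ∈ mov c, u ≠ 1 := by
  by_contra h
  push Not at h
  exact h1 (ext_split F hr hc (fun u hu => by rw [h u hu, map_one, map_one]) fun s hs => hs)

section Plane

variable [Finite S] [hp : Fact r.Prime] (F : Form r β) (hr : Odd r)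
include F hr

/-- Two non-orthogonal elements generate the inverted part of a small involution. -/
theorem gen_mov {c : MulAut S} (hc : Small r β c) {u w : S} (hu : u ∈ mov c) (hw : w ∈ mov c)
    (hg : β u w ≠ 1) : ∀ v ∈ mov c, ∃ a b : ℕ, v = u ^ a * w ^ b := by
  intro v hv
  have ho : orderOf (β u w) = r := orderOf_eq_prime (F.pow_r _ _) hg
  have ho' : orderOf (β w u) = r :=
    orderOf_eq_prime (F.pow_r _ _) fun h => hg (F.swap_eq_one h)
  let φ : Fin r × Fin r → ↥(mov c) := fun ij =>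
    ⟨u ^ (ij.1 : ℕ) * w ^ (ij.2 : ℕ), mul_mem (pow_mem hu _) (pow_mem hw _)⟩
  have hφ : Function.Injective φ := by
    rintro ⟨i, j⟩ ⟨i', j'⟩ h
    have h' : u ^ (i : ℕ) * w ^ (j : ℕ) = u ^ (i' : ℕ) * w ^ (j' : ℕ) := congrArg Subtype.val h
    have h1 := congrArg (fun s => β s w) h'
    have h2 := congrArg (fun s => β s u) h'
    simp only [F.mulL, F.pow_left, F.alt, one_pow, mul_one, one_mul] at h1 h2
    refine Prod.ext (Fin.ext ?_) (Fin.ext ?_)
    · exact pow_injOn_Iio_orderOf (show (i : ℕ) ∈ Set.Iio _ by rw [ho]; exact i.2)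
        (show (i' : ℕ) ∈ Set.Iio _ by rw [ho]; exact i'.2) h1
    · exact pow_injOn_Iio_orderOf (show (j : ℕ) ∈ Set.Iio _ by rw [ho']; exact j.2)
        (show (j' : ℕ) ∈ Set.Iio _ by rw [ho']; exact j'.2) h2
  have hcard : Nat.card (Fin r × Fin r) = Nat.card (mov c) := by
    refine le_antisymm (Nat.card_le_card_of_injective φ hφ) ?_
    rw [Nat.card_prod, Nat.card_fin]
    exact hc.card
  obtain ⟨⟨i, j⟩, hij⟩ := ((Nat.bijective_iff_injective_and_card φ).mpr ⟨hφ, hcard⟩).2 ⟨v, hv⟩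
  exact ⟨i, j, (congrArg Subtype.val hij).symm⟩

/-- A `2`-element preserving the plane and fixing a point of it is trivial there. -/
theorem semiregular {c g : MulAut S} (hc : Small r β c) (hg : Isom β g) (hgc : Commute g c) {m : ℕ}
    (hg2 : g ^ 2 ^ m = 1) {u : S} (hu : u ∈ mov c) (hu1 : u ≠ 1) (hfix : g u = u) :
    ∀ v ∈ mov c, g v = v := by
  obtain ⟨w, hw, huw⟩ := F.nd_mov hr hc.sq hc.iso hu hu1
  obtain ⟨a, b, hab⟩ := gen_mov F hr hc hu hw huw (g w) (apply_mem_mov hgc hw)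
  have h1 : β u w ^ b = β u w := by
    have := hg u w
    rw [hfix, hab, F.mulR, F.pow_right, F.pow_right, F.alt, one_pow, one_mul] at this
    exact this
  have hwr : orderOf w ∣ r := orderOf_dvd_of_pow_eq_one (F.exp w)
  have hwb : w ^ b = w := by
    rcases Nat.eq_zero_or_pos b with rfl | hb
    · rw [pow_zero] at h1; exact absurd h1.symm huw
    obtain ⟨b', rfl⟩ : ∃ b', b = b' + 1 := ⟨b - 1, by omega⟩
    have h3 : β u w ^ b' = 1 := mul_right_cancel₀ (F.ne_zero u w) (by rw [← pow_succ, h1, one_mul])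
    have h4 : r ∣ b' := (orderOf_eq_prime (F.pow_r u w) huw) ▸ orderOf_dvd_of_pow_eq_one h3
    rw [pow_succ, orderOf_dvd_iff_pow_eq_one.mp (hwr.trans h4), one_mul]
  rw [hwb] at hab
  have key : ∀ n : ℕ, (g ^ n) w = u ^ (n * a) * w := by
    intro n
    induction n with
    | zero => simp
    | succ n ih =>
      rw [pow_succ', MulAut.mul_apply, ih, map_mul, map_pow, hfix, hab, ← mul_assoc, ← pow_add]
      ring_nf
  have hua : u ^ a = 1 := by
    have h := key (2 ^ m)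
    rw [hg2, MulAut.one_apply, right_eq_mul, mul_comm, pow_mul] at h
    have h3 : Nat.gcd (2 ^ m) r = 1 := (hr.coprime_two_left.pow_left m)
    have := pow_gcd_eq_one.mpr ⟨h, F.exp (u ^ a)⟩
    rwa [h3, pow_one] at this
  intro v hv
  obtain ⟨i, j, rfl⟩ := gen_mov F hr hc hu hw huw v hv
  rw [map_mul, map_pow, map_pow, hfix, hab, hua, one_mul]

/-- The powers of an element of order `2 ^ k` on the plane have index at most two there. -/
theorem exists_pow_eq {k : ℕ} (hk : 2 ≤ k) (hrk : r + 1 = 2 ^ k) {P : Subgroup (MulAut S)}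
    (hP : IsPGroup 2 P) (hiso : ∀ g ∈ P, Isom β g) {z : MulAut S} (hzP : z ∈ P)
    (hz : z ^ 2 ^ k = 1) (hc : Small r β (z ^ 2 ^ (k - 1))) (hc1 : z ^ 2 ^ (k - 1) ≠ 1)
    {w : MulAut S} (hw : w ∈ P) (hwc : Commute w (z ^ 2 ^ (k - 1))) :
    (∃ i : ℕ, ∀ u ∈ mov (z ^ 2 ^ (k - 1)), (w * z * w⁻¹) u = (z ^ i) u) ∧
    (∃ i : ℕ, ∀ u ∈ mov (z ^ 2 ^ (k - 1)), (w * w) u = (z ^ i) u) ∧
    ∀ u ∈ mov (z ^ 2 ^ (k - 1)), (w ^ 2 ^ (k + 1)) u = u := by
  classical
  haveI : Fact (Nat.Prime 2) := ⟨Nat.prime_two⟩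
  set c := z ^ 2 ^ (k - 1) with hcdef
  set Pc := P ⊓ centralizer ({c} : Set (MulAut S)) with hPc
  have hPcm : ∀ g : Pc, Commute (g : MulAut S) c := fun g => mem_centralizer_singleton_iff.mp g.2.2
  let act : Pc →* Equiv.Perm ↥(mov c) :=
    { toFun := fun g =>
        { toFun := fun u => ⟨(g : MulAut S) u, apply_mem_mov (hPcm g) u.2⟩
          invFun := fun u => ⟨(g : MulAut S)⁻¹ u, apply_mem_mov (hPcm g).inv_left u.2⟩
          left_inv := fun u => Subtype.ext (by simp)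
          right_inv := fun u => Subtype.ext (by simp) }
      map_one' := by ext u; rfl
      map_mul' := fun a b => by ext u; rfl }
  set E := act.range with hE
  have hE2 : IsPGroup 2 E := by
    have h1 : IsPGroup 2 Pc := hP.to_le inf_le_left
    exact h1.of_surjective act.rangeRestrict act.rangeRestrict_surjective
  -- semiregular
  let X := {u : ↥(mov c) // u ≠ 1}
  letI : MulAction E X :=
    { smul := fun e u => ⟨(e : Equiv.Perm ↥(mov c)) u.1, fun h => by
        obtain ⟨e, g, rfl⟩ := e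
        refine u.2 (Subtype.ext ((g : MulAut S).injective ?_))
        have h' : (g : MulAut S) (u.1 : S) = 1 := congrArg Subtype.val h
        rw [h', Subgroup.coe_one, map_one]⟩
      one_smul := fun u => rfl
      mul_smul := fun a b u => rfl }
  have hfree : ∀ x : X, MulAction.stabilizer E x = ⊥ := by
    intro x
    refine (Subgroup.eq_bot_iff_forall _).mpr ?_
    rintro ⟨e, g, rfl⟩ he
    have he' : (g : MulAut S) (x.1 : S) = x.1 :=
      congrArg (fun y : X => ((y.1 : ↥(mov c)) : S)) (MulAction.mem_stabilizer_iff.mp he)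
    obtain ⟨m, hm⟩ := hP ⟨g, g.2.1⟩
    refine Subtype.ext (Equiv.ext fun v => Subtype.ext ?_)
    exact semiregular F hr hc (hiso _ g.2.1) (hPcm g) (congrArg Subtype.val hm) x.1.2
      (fun h => x.2 (Subtype.ext h)) he' v v.2
  have hdvd : Nat.card E ∣ Nat.card X :=
    ⟨_, (Nat.card_congr ((MulAction.selfEquivOrbitsQuotientProd hfree).trans (Equiv.prodComm _ _))).trans
      (Nat.card_prod _ _)⟩
  have hX : Nat.card X = r * r - 1 := by
    obtain ⟨u, hu, hu1⟩ := exists_mem_mov_ne_one F hr hc.sq hc1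
    have hU : Nat.card ↥(mov c) = r * r := le_antisymm hc.card
      (F.card_mov hr hc.sq hc.iso fun h => hu1 (by rw [h] at hu; exact hu))
    haveI := Fintype.ofFinite ↥(mov c)
    rw [Nat.card_eq_fintype_card, Fintype.card_subtype_compl, Fintype.card_subtype_eq,
      ← Nat.card_eq_fintype_card, hU]
  obtain ⟨a, ha⟩ := IsPGroup.iff_card.mp hE2
  have ha' : a ≤ k + 1 := by
    rw [hX, ha] at hdvd
    obtain ⟨j, rfl⟩ : ∃ j, k = j + 2 := ⟨k - 2, by omega⟩
    have h4 : r * r - 1 = 2 ^ (j + 3) * (2 ^ (j + 1) - 1) := by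
      have e1 : r = 2 ^ (j + 2) - 1 := by omega
      have e2 : 1 ≤ 2 ^ (j + 1) := Nat.one_le_two_pow
      obtain ⟨t, ht⟩ : ∃ t, 2 ^ (j + 1) = t + 1 := ⟨2 ^ (j + 1) - 1, by omega⟩
      rw [e1, show j + 2 = j + 1 + 1 by ring, show j + 3 = j + 1 + 2 by ring, pow_succ, pow_add _ _ 2, ht]
      rw [show (t + 1) * 2 - 1 = 2 * t + 1 by omega, Nat.add_sub_cancel]
      rw [show (2 * t + 1) * (2 * t + 1) = (t + 1) * 2 ^ 2 * t + 1 by ring, Nat.add_sub_cancel]
    rw [h4] at hdvd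
    have hodd : (2 ^ a).Coprime (2 ^ (j + 1) - 1) := by
      refine Nat.Coprime.pow_left a (Nat.coprime_two_left.mpr ?_)
      exact Nat.Even.sub_odd Nat.one_le_two_pow (Nat.even_pow.mpr ⟨even_two, by omega⟩) odd_one
    exact (Nat.pow_dvd_pow_iff_le_right Nat.one_lt_two).mp (hodd.dvd_of_dvd_mul_right hdvd)
  have hzc : Commute z c := (Commute.refl z).pow_right _
  let zP : Pc := ⟨z, hzP, mem_centralizer_singleton_iff.mpr hzc⟩
  set ζ : E := act.rangeRestrict zP with hζ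
  have hord : orderOf ζ = 2 ^ k := by
    obtain ⟨j, rfl⟩ : ∃ j, k = j + 1 := ⟨k - 1, by omega⟩
    refine orderOf_eq_prime_pow ?_ ?_
    · intro h
      obtain ⟨u, hu, hu1⟩ := exists_mem_mov_ne_one F hr hc.sq hc1
      have h1 := congrArg (fun e : E => (((e : Equiv.Perm ↥(mov c)) ⟨u, hu⟩ : ↥(mov c)) : S)) h
      rw [hζ, ← map_pow] at h1
      have h2 : c u = u := h1
      rw [mem_mov.mp hu] at h2
      exact hu1 (F.eq_one_of_sq hr (inv_eq_iff_mul_eq_one.mp h2))
    · rw [hζ, ← map_pow, show zP ^ 2 ^ (j + 1) = 1 from Subtype.ext hz, map_one]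
  have hidx : (zpowers ζ).index ≤ 2 := by
    have h := (zpowers ζ).index_mul_card
    rw [Nat.card_zpowers, hord, ha] at h
    have h2 : (zpowers ζ).index * 2 ^ k ≤ 2 * 2 ^ k := by
      rw [h, ← pow_succ']
      exact Nat.pow_le_pow_right (by norm_num) ha'
    exact Nat.le_of_mul_le_mul_right h2 (Nat.two_pow_pos k)
  have hnormal : (zpowers ζ).Normal := by
    rcases Nat.lt_or_ge (zpowers ζ).index 2 with h | h
    · have h1 : (zpowers ζ).index = 1 := by
        have := Subgroup.index_ne_zero_of_finite (H := zpowers ζ); omega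
      rw [Subgroup.index_eq_one.mp h1]; infer_instance
    · exact Subgroup.normal_of_index_eq_two (le_antisymm hidx h)
  set η : E := act.rangeRestrict ⟨w, hw, mem_centralizer_singleton_iff.mpr hwc⟩ with hη
  have hpow : ∀ e : E, e ∈ zpowers ζ → ∃ i : ℕ, e = ζ ^ i := fun e he => by
    obtain ⟨i, hi⟩ := (isOfFinOrder_of_finite ζ).mem_powers_iff_mem_zpowers.mpr he
    exact ⟨i, hi.symm⟩
  refine ⟨?_, ?_, ?_⟩
  · obtain ⟨i, hi⟩ := hpow _ (hnormal.conj_mem ζ (mem_zpowers ζ) η)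
    refine ⟨i, fun u hu => ?_⟩
    have h := congrArg (fun e : E => (((e : Equiv.Perm ↥(mov c)) ⟨u, hu⟩ : ↥(mov c)) : S)) hi
    rw [hη, hζ, ← map_inv, ← map_mul, ← map_mul, ← map_pow] at h
    exact h
  · have hη2 : η * η ∈ zpowers ζ := by
      haveI := hnormal
      rw [← QuotientGroup.eq_one_iff]
      rcases Nat.lt_or_ge (zpowers ζ).index 2 with h | h
      · have h1 : (zpowers ζ).index = 1 := by
          have := Subgroup.index_ne_zero_of_finite (H := zpowers ζ); omega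
        rw [QuotientGroup.eq_one_iff, Subgroup.index_eq_one.mp h1]; exact mem_top _
      · have h2 : Nat.card (E ⧸ zpowers ζ) = 2 := le_antisymm hidx h
        rw [QuotientGroup.mk_mul, ← sq]
        exact h2 ▸ pow_card_eq_one'
    obtain ⟨i, hi⟩ := hpow _ hη2
    refine ⟨i, fun u hu => ?_⟩
    have h := congrArg (fun e : E => (((e : Equiv.Perm ↥(mov c)) ⟨u, hu⟩ : ↥(mov c)) : S)) hi
    rw [hη, hζ, ← map_mul, ← map_pow] at h
    exact h
  · intro u hu
    have h0 : η ^ 2 ^ (k + 1) = 1 := by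
      refine orderOf_dvd_iff_pow_eq_one.mp ((orderOf_dvd_natCard η).trans ?_)
      rw [ha]
      exact Nat.pow_dvd_pow 2 ha'
    have h := congrArg (fun e : E => (((e : Equiv.Perm ↥(mov c)) ⟨u, hu⟩ : ↥(mov c)) : S)) h0
    rw [hη, ← map_pow] at h
    exact h

/-- A conjugate of `z` supported on the same plane is a power of `z`. -/
theorem conj_eq_pow {k : ℕ} (hk : 2 ≤ k) (hrk : r + 1 = 2 ^ k) {P : Subgroup (MulAut S)}
    (hP : IsPGroup 2 P) (hiso : ∀ g ∈ P, Isom β g) {z : MulAut S} (hzP : z ∈ P)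
    (hz : z ^ 2 ^ k = 1) (hc : Small r β (z ^ 2 ^ (k - 1))) (hc1 : z ^ 2 ^ (k - 1) ≠ 1)
    (hzf : Fixes (z ^ 2 ^ (k - 1)) z) {w : MulAut S} (hw : w ∈ P)
    (hwc : Commute w (z ^ 2 ^ (k - 1))) : ∃ i : ℕ, w * z * w⁻¹ = z ^ i := by
  obtain ⟨i, hi⟩ := (exists_pow_eq F hr hk hrk hP hiso hzP hz hc hc1 hw hwc).1
  refine ⟨i, ext_split F hr hc.sq hi fun s hs => ?_⟩
  have h := hzf.conj w
  rw [hwc.mul_inv_cancel] at h
  rw [h s hs, hzf.pow i s hs]

theorem conj_cases (hr3 : r = 3) {P : Subgroup (MulAut S)}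
    (hP : IsPGroup 2 P) (hiso : ∀ g ∈ P, Isom β g) {z : MulAut S} (hzP : z ∈ P)
    (hz : z ^ 4 = 1) (hc : Small r β (z ^ 2)) (hc1 : z ^ 2 ≠ 1) (hzf : Fixes (z ^ 2) z)
    {w : MulAut S} (hw : w ∈ P) (hwc : Commute w (z ^ 2)) :
    w * z * w⁻¹ = z ∨ w * z * w⁻¹ = z⁻¹ := by
  obtain ⟨i, hi⟩ := conj_eq_pow F hr le_rfl (by omega) hP hiso hzP hz hc hc1 hzf hw hwc
  have h2 : z ^ i = z ^ (i % 4) := pow_eq_pow_mod i hz
  have h3 : i % 4 = 0 ∨ i % 4 = 1 ∨ i % 4 = 2 ∨ i % 4 = 3 := by omega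
  have hcon : (w * z * w⁻¹) ^ 2 ≠ 1 := fun h => hc1 (by
    rw [conj_pow] at h
    have := congrArg (fun g => w⁻¹ * g * w) h
    simpa [mul_assoc] using this)
  rw [hi, h2] at hcon ⊢
  rcases h3 with h3 | h3 | h3 | h3 <;> rw [h3] at hcon ⊢
  · simp at hcon
  · exact Or.inl (pow_one z)
  · exact absurd (by rw [← pow_mul]; exact hz) hcon
  · exact Or.inr (eq_inv_of_mul_eq_one_left (by rw [← pow_succ]; exact hz))

theorem sq_of_inverting (hr3 : r = 3) {P : Subgroup (MulAut S)}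
    (hP : IsPGroup 2 P) (hiso : ∀ g ∈ P, Isom β g) {z : MulAut S} (hzP : z ∈ P)
    (hz : z ^ 4 = 1) (hc : Small r β (z ^ 2)) (hc1 : z ^ 2 ≠ 1) {w : MulAut S} (hw : w ∈ P)
    (hwc : Commute w (z ^ 2)) (hinv : w * z * w⁻¹ = z⁻¹) : ∀ u ∈ mov (z ^ 2), (w * w) u = u⁻¹ := by
  obtain ⟨i, hi⟩ := (exists_pow_eq F hr le_rfl (by omega) hP hiso hzP hz hc hc1 hw hwc).2.1
  obtain ⟨u₁, hu₁, hu₁1⟩ := exists_mem_mov_ne_one F hr hc.sq hc1
  have hne : ∀ v ∈ mov (z ^ 2), v ≠ 1 → z v ≠ z⁻¹ v := fun v hv hv1 h => hv1 (by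
    have h' := congrArg (z : MulAut S) h
    rw [MulAut.apply_inv_self, ← MulAut.mul_apply, ← sq, mem_mov.mp hv] at h'
    exact F.eq_one_of_sq hr (inv_eq_iff_mul_eq_one.mp h'))
  have hzc : Commute z (z ^ 2) := (Commute.refl z).pow_right 2
  have hconjw : ∀ v, w (z v) = z⁻¹ (w v) := fun v => by
    rw [← MulAut.mul_apply, show w * z = z⁻¹ * w by rw [← hinv]; group, MulAut.mul_apply]
  have hconjw' : ∀ (n : ℕ) v, w ((z ^ n) v) = (z⁻¹ ^ n) (w v) := by
    intro n
    induction n with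
    | zero => intro v; rfl
    | succ n ih => intro v; rw [pow_succ, MulAut.mul_apply, ih, hconjw, pow_succ, MulAut.mul_apply]
  have hi4 : z ^ i = z ^ (i % 4) := pow_eq_pow_mod i hz
  have h3 : i % 4 = 0 ∨ i % 4 = 1 ∨ i % 4 = 2 ∨ i % 4 = 3 := by omega
  have hodd : ∀ v ∈ mov (z ^ 2), (z ^ (i % 4)) v = (z⁻¹ ^ (i % 4)) v := by
    intro v hv
    obtain ⟨v', hv', rfl⟩ : ∃ v' ∈ mov (z ^ 2), w v' = v :=
      ⟨w⁻¹ v, apply_mem_mov hwc.inv_left hv, MulAut.apply_inv_self S w v⟩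
    rw [← hi4, ← hi _ hv, MulAut.mul_apply, ← hconjw', ← hi4, ← hi _ hv', MulAut.mul_apply]
  rcases h3 with h3 | h3 | h3 | h3
  · -- `w` would centralize `z` on the plane
    exfalso
    have hww : ∀ u ∈ mov (z ^ 2), w (w u) = u := fun u hu => by
      rw [← MulAut.mul_apply, hi u hu, hi4, h3, pow_zero, MulAut.one_apply]
    have hcomm : ∀ v ∈ mov (z ^ 2), w (z v) = z (w v) := by
      intro v hv
      by_cases hf : ∃ u ∈ mov (z ^ 2), u ≠ 1 ∧ w u = u
      · obtain ⟨u, hu, hu1, hwu⟩ := hf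
        obtain ⟨m, hm⟩ := hP ⟨w, hw⟩
        have h1 := semiregular F hr hc (hiso w hw) hwc (congrArg Subtype.val hm) hu hu1 hwu
        rw [h1 _ (apply_mem_mov hzc hv), h1 v hv]
      · push Not at hf
        have h1 : ∀ u ∈ mov (z ^ 2), w u = u⁻¹ := fun u hu => by
          refine eq_inv_of_mul_eq_one_right ?_
          by_contra h
          refine hf _ (mul_mem hu (apply_mem_mov hwc hu)) h ?_
          rw [map_mul, hww u hu, mul_comm]
        rw [h1 _ (apply_mem_mov hzc hv), h1 v hv, map_inv]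
    obtain ⟨v, hv, rfl⟩ : ∃ v ∈ mov (z ^ 2), w v = u₁ :=
      ⟨w⁻¹ u₁, apply_mem_mov hwc.inv_left hu₁, MulAut.apply_inv_self S w u₁⟩
    exact hne _ hu₁ hu₁1 (by rw [← hcomm v hv, hconjw])
  · have h := hodd u₁ hu₁
    rw [h3, pow_one, pow_one] at h
    exact absurd h (hne u₁ hu₁ hu₁1)
  · intro u hu
    rw [hi u hu, hi4, h3]
    exact mem_mov.mp hu
  · have h := hodd u₁ hu₁
    rw [h3, show z ^ 3 = z⁻¹ from eq_inv_of_mul_eq_one_left (by rw [← pow_succ]; exact hz),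
      show z⁻¹ ^ 3 = z by rw [inv_pow, inv_eq_iff_mul_eq_one, ← pow_succ]; exact hz] at h
    exact absurd h.symm (hne u₁ hu₁ hu₁1)

theorem sq_cases (hr3 : r = 3) {P : Subgroup (MulAut S)}
    (hP : IsPGroup 2 P) (hiso : ∀ g ∈ P, Isom β g) {z : MulAut S} (hzP : z ∈ P)
    (hz : z ^ 4 = 1) (hc : Small r β (z ^ 2)) (hc1 : z ^ 2 ≠ 1) {g : MulAut S} (hg : g ∈ P)
    (hgc : Commute g (z ^ 2)) :
    (∀ u ∈ mov (z ^ 2), (g * g) u = u) ∨ ∀ u ∈ mov (z ^ 2), (g * g) u = u⁻¹ := by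
  obtain ⟨-, ⟨i, hi⟩, h16⟩ := exists_pow_eq F hr le_rfl (by omega) hP hiso hzP hz hc hc1 hg hgc
  have hi4 : z ^ i = z ^ (i % 4) := pow_eq_pow_mod i hz
  rcases (show i % 4 = 0 ∨ i % 4 = 2 ∨ i % 4 = 1 ∨ i % 4 = 3 by omega) with h | h | h
  · exact Or.inl fun u hu => by rw [hi u hu, hi4, h, pow_zero, MulAut.one_apply]
  · exact Or.inr fun u hu => by rw [hi u hu, hi4, h]; exact mem_mov.mp hu
  exfalso
  have hgU : ∀ u ∈ mov (z ^ 2), g u ∈ mov (z ^ 2) := fun u hu => apply_mem_mov hgc hu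
  have hg4 : ∀ u ∈ mov (z ^ 2), g (g (g (g u))) = u⁻¹ := by
    intro u hu
    have h2 : z ^ (i % 4 + i % 4) = z ^ 2 := by
      rcases h with h | h <;> rw [h]
      rw [pow_eq_pow_mod _ hz]
    show (g * g) ((g * g) u) = u⁻¹
    rw [hi _ (apply_mem_mov (hgc.mul_left hgc) hu), hi u hu, hi4, ← MulAut.mul_apply, ← pow_add, h2]
    exact mem_mov.mp hu
  obtain ⟨u, hu, hu1⟩ := exists_mem_mov_ne_one F hr hc.sq hc1
  have hu3 : u ^ 3 = 1 := hr3 ▸ F.exp u
  have hu2 : u ^ 2 = u⁻¹ := eq_inv_of_mul_eq_one_left (by rw [← pow_succ]; exact hu3)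
  have hinv1 : u⁻¹ ≠ u := fun h' => hu1 (F.eq_one_of_sq hr (inv_eq_iff_mul_eq_one.mp h'))
  obtain ⟨w, hw, huw⟩ := F.nd_mov hr hc.sq hc.iso hu hu1
  set v := g u with hv
  have hv3 : v ^ 3 = 1 := hr3 ▸ F.exp v
  have hβ3 : ∀ a b : S, β a b ^ 3 = 1 := fun a b => hr3 ▸ F.pow_r a b
  by_cases huv : β u v = 1
  · obtain ⟨a, b, hab⟩ := gen_mov F hr hc hu hw huw v (hgU u hu)
    rw [hab, F.mulR, F.pow_right, F.pow_right, F.alt, one_pow, one_mul] at huv
    have hb3 : 3 ∣ b := by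
      have := orderOf_dvd_of_pow_eq_one huv
      rwa [orderOf_eq_prime (F.pow_r u w) huw, hr3] at this
    obtain ⟨b', rfl⟩ := hb3
    rw [pow_mul, show w ^ 3 = 1 from hr3 ▸ F.exp w, one_pow, mul_one] at hab
    have h4 := hg4 u hu
    rw [← hv, hab, map_pow, map_pow, map_pow, ← hv, hab, map_pow, map_pow, ← hv, hab, map_pow, ← hv,
      hab, ← pow_mul, ← pow_mul, ← pow_mul, pow_eq_pow_mod _ hu3] at h4
    have h5 : a % 3 = 0 ∨ a % 3 = 1 ∨ a % 3 = 2 := by omega
    rcases h5 with h5 | h5 | h5 <;> simp [Nat.mul_mod, h5] at h4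
    · exact hu1 h4
    · exact hinv1 h4.symm
    · exact hinv1 h4.symm
  obtain ⟨a, b, hab⟩ := gen_mov F hr hc hu (hgU u hu) huv (g v) (hgU _ (hgU u hu))
  have ha : a % 3 = 2 := by
    have h1 := (hiso g hg) u v
    rw [← hv, hab, F.mulR, F.pow_right, F.pow_right, F.alt, one_pow, mul_one] at h1
    have h2 : β v u = β u v ^ 2 := by
      refine mul_left_cancel₀ (F.ne_zero u v) ?_
      rw [F.swap, ← pow_succ', hβ3]
    rw [h2, ← pow_mul, pow_eq_pow_mod _ (hβ3 u v)] at h1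
    rcases (show a % 3 = 0 ∨ a % 3 = 1 ∨ a % 3 = 2 by omega) with h5 | h5 | h5
    · simp [Nat.mul_mod, h5] at h1; exact absurd h1.symm huv
    · simp [Nat.mul_mod, h5] at h1
      rw [sq] at h1
      exact absurd (mul_right_cancel₀ (F.ne_zero u v) (h1.trans (one_mul _).symm)) huv
    · exact h5
  rw [pow_eq_pow_mod a hu3, ha] at hab
  rw [pow_eq_pow_mod b hv3] at hab
  have hgv : g v = u ^ 2 * v ^ (b % 3) := hab
  have h4 := hg4 u hu
  rw [← hv] at h4
  have hggv : ∀ n : ℕ, g v = u ^ 2 * v ^ n → g (g v) = v ^ 2 * (u ^ 2 * v ^ n) ^ n := fun n hn => by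
    rw [hn, map_mul, map_pow, map_pow, ← hv, hn]
  rcases (show b % 3 = 0 ∨ b % 3 = 1 ∨ b % 3 = 2 by omega) with h5 | h5 | h5 <;> rw [h5] at hgv
  · rw [pow_zero, mul_one] at hgv
    rw [hgv, map_pow, ← hv, map_pow, hgv, ← pow_mul, pow_eq_pow_mod _ hu3] at h4
    simp at h4
    exact hinv1 h4.symm
  all_goals
    have e1 := hggv _ hgv
    rw [mul_pow, ← pow_mul, ← pow_mul, mul_left_comm, ← pow_add, pow_eq_pow_mod _ hv3] at e1
    norm_num at e1
    rw [e1, map_pow, ← hv, pow_eq_pow_mod _ hv3] at h4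
    have h6 := congrArg (fun y => β u y) h4
    simp only [← hu2, F.pow_right, F.alt, one_pow] at h6
    have h7 := orderOf_dvd_of_pow_eq_one h6
    rw [orderOf_eq_prime (F.pow_r u v) huv, hr3] at h7
    norm_num at h7

end Plane

end Cfsg.Agent.Grp.Bry
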