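import Mathlib
import Cfsg.Agent.Lib.Grp.BryTwo.Plane

/-!
The local statement: a homomorphism to a group of exponent two that is invariant under the local `2`-group
either kills the norm of `z` or kills all commutators of `z` with small involutions.
-/

set_option autoImplicit false
set_option linter.style.haveILetI false
set_option linter.unusedSectionVars false

namespace Cfsg.Agent.Grp.Bry

open Subgroup
open Cfsg.Agent.Grp.Gross (Form Isom Root mov mem_mov roots_commute)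

variable {K : Type*} [Field K] {S : Type*} [CommGroup S] [Finite S] {r : ℕ} [hp : Fact r.Prime]
  {β : S → S → K} {A : Type*} [CommGroup A]

/-- A normalized `2`-group `T`, an invariant subgroup `T₁` and an element `z` whose top power is small
and supports it. -/
structure Ctx (r k : ℕ) (β : S → S → K) (T T₁ : Subgroup (MulAut S)) (z : MulAut S)
    (f : MulAut S → A) : Prop where
  hk : 2 ≤ k
  hrk : r + 1 = 2 ^ k
  two : IsPGroup 2 (T ⊔ zpowers z : Subgroup (MulAut S))
  iso : ∀ g ∈ T ⊔ zpowers z, Isom β g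
  le : T₁ ≤ T
  nT : ∀ t ∈ T, ∀ a ∈ T₁, t * a * t⁻¹ ∈ T₁
  nz : ∀ a ∈ T₁, z * a * z⁻¹ ∈ T₁
  mul : ∀ a ∈ T₁, ∀ b ∈ T₁, f (a * b) = f a * f b
  sqA : ∀ a ∈ T₁, f a * f a = 1
  inv : ∀ t ∈ T, ∀ a ∈ T₁, f (t * a * t⁻¹) = f a
  hz : z ^ 2 ^ k = 1
  small : Small r β (z ^ 2 ^ (k - 1))
  ne : z ^ 2 ^ (k - 1) ≠ 1
  supp : Fixes (z ^ 2 ^ (k - 1)) z

variable {k : ℕ} {T T₁ : Subgroup (MulAut S)} {z : MulAut S} {f : MulAut S → A}

theorem Ctx.f_one (C : Ctx r k β T T₁ z f) : f 1 = 1 := by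
  have h := C.mul 1 T₁.one_mem 1 T₁.one_mem
  rw [mul_one] at h
  exact left_eq_mul.mp h

theorem Ctx.f_inv (C : Ctx r k β T T₁ z f) {a : MulAut S} (ha : a ∈ T₁) : f a⁻¹ = f a := by
  have h := C.mul a ha a⁻¹ (T₁.inv_mem ha)
  rw [mul_inv_cancel, C.f_one] at h
  calc f a⁻¹ = (f a * f a) * f a⁻¹ := by rw [C.sqA a ha, one_mul]
    _ = f a * (f a * f a⁻¹) := mul_assoc _ _ _
    _ = f a := by rw [← h, mul_one]

theorem Ctx.f_pow (C : Ctx r k β T T₁ z f) {a : MulAut S} (ha : a ∈ T₁) :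
    ∀ n : ℕ, f (a ^ n) = f a ^ n
  | 0 => by rw [pow_zero, pow_zero, C.f_one]
  | n + 1 => by rw [pow_succ, C.mul _ (T₁.pow_mem ha n) _ ha, C.f_pow ha n, pow_succ]

theorem Ctx.kills_comm (C : Ctx r k β T T₁ z f) {t a : MulAut S} (ht : t ∈ T) (ha : a ∈ T₁) :
    t * a * t⁻¹ * a⁻¹ ∈ T₁ ∧ f (t * a * t⁻¹ * a⁻¹) = 1 := by
  refine ⟨T₁.mul_mem (C.nT t ht a ha) (T₁.inv_mem ha), ?_⟩
  rw [C.mul _ (C.nT t ht a ha) _ (T₁.inv_mem ha), C.inv t ht a ha, C.f_inv ha, C.sqA a ha]

variable (F : Form r β) (hr : Odd r)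
include F hr

theorem Ctx.odd_ne_one (C : Ctx r k β T T₁ z f) :
    ∃ u ∈ mov (z ^ 2 ^ (k - 1)), u ≠ 1 := exists_mem_mov_ne_one F hr C.small.sq C.ne

/-- The conjugates of the top power commute, also with the top power of a translate. -/
theorem Ctx.commute_conj (C : Ctx r k β T T₁ z f) {w : MulAut S} (hw : w ∈ T ⊔ zpowers z)
    (hsm : Small r β (w ^ 2 ^ (k - 1))) {a : MulAut S} (ha : a ∈ T ⊔ zpowers z) :
    Commute (a * z ^ 2 ^ (k - 1) * a⁻¹) (w ^ 2 ^ (k - 1)) := by
  have hk := C.hk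
  set P := T ⊔ zpowers z
  have hzP : z ∈ P := mem_sup_right (mem_zpowers z)
  have hsq : ∀ g : MulAut S, g ^ 2 ^ (k - 2) * g ^ 2 ^ (k - 2) = g ^ 2 ^ (k - 1) := fun g => by
    rw [← pow_add, ← two_mul, ← pow_succ', show k - 2 + 1 = k - 1 by omega]
  have hroot : ∀ g : P, Small r β ((g : MulAut S) ^ 2 ^ (k - 1)) → Root r P.subtype (g ^ 2 ^ (k - 2)) :=
    fun g hg => by
      have e : P.subtype (g ^ 2 ^ (k - 2) * g ^ 2 ^ (k - 2)) = (g : MulAut S) ^ 2 ^ (k - 1) := by
        rw [map_mul, map_pow]; exact hsq _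
      exact ⟨by rw [e]; exact hg.sq, by rw [e]; exact hg.card⟩
  have h := roots_commute (K := K) hr F C.two P.subtype (fun d => C.iso _ d.2) _ _
    ((hroot ⟨z, hzP⟩ C.small).conj (⟨a, ha⟩ : P)) (hroot ⟨w, hw⟩ hsm)
  rw [show (⟨a, ha⟩ : P) * (⟨z, hzP⟩ : P) ^ 2 ^ (k - 2) * (⟨a, ha⟩ : P)⁻¹ *
      ((⟨a, ha⟩ : P) * (⟨z, hzP⟩ : P) ^ 2 ^ (k - 2) * (⟨a, ha⟩ : P)⁻¹) =
      (⟨a, ha⟩ : P) * ((⟨z, hzP⟩ : P) ^ 2 ^ (k - 2) * (⟨z, hzP⟩ : P) ^ 2 ^ (k - 2)) * (⟨a, ha⟩ : P)⁻¹ by group,
    map_mul, map_mul, map_mul, map_mul, map_inv, map_pow, map_pow, hsq, hsq] at h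
  exact h

theorem Ctx.commute_conj_self (C : Ctx r k β T T₁ z f) {a b : MulAut S} (ha : a ∈ T ⊔ zpowers z)
    (hb : b ∈ T ⊔ zpowers z) :
    Commute (a * z ^ 2 ^ (k - 1) * a⁻¹) (b * z ^ 2 ^ (k - 1) * b⁻¹) := by
  have h := C.commute_conj F hr (w := b * z * b⁻¹) (mul_mem (mul_mem hb (mem_sup_right (mem_zpowers z)))
    (inv_mem hb)) (by rw [conj_pow]; exact C.small.conj (C.iso b hb)) ha
  rwa [conj_pow] at h

/-- The dichotomy. -/
theorem Ctx.dichotomy (C : Ctx r k β T T₁ z f) {w : MulAut S} (hw : w ∈ T₁)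
    (hsm : Small r β ((z * w) ^ 2 ^ (k - 1))) :
    f ((z * w) ^ 2 ^ (k - 1) * (z ^ 2 ^ (k - 1))⁻¹) = 1 ∨
      (k = 2 ∧ ∀ g ∈ closure {h : MulAut S | h ∈ T ∧ Small r β h},
        g * z * g⁻¹ * z⁻¹ ∈ T₁ ∧ f (g * z * g⁻¹ * z⁻¹) = 1) := by
  have hk := C.hk
  set P := T ⊔ zpowers z with hP
  set c := z ^ 2 ^ (k - 1) with hc
  have hzP : z ∈ P := mem_sup_right (mem_zpowers z)
  have hTP : ∀ t ∈ T, t ∈ P := fun t ht => mem_sup_left ht
  have hwP : w ∈ P := hTP w (C.le hw)
  have hcP : c ∈ P := P.pow_mem hzP _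
  have hzc : Commute z c := (Commute.refl z).pow_right _
  set z2 := w * z * w⁻¹ with hz2
  set c2 := w * c * w⁻¹ with hc2
  have hz2n : z2 ^ 2 ^ (k - 1) = c2 := conj_pow
  have hz2P : z2 ∈ P := mul_mem (mul_mem hwP hzP) (inv_mem hwP)
  have hc2s : Small r β c2 := C.small.conj (C.iso w hwP)
  have hz2f : Fixes c2 z2 := C.supp.conj w
  have hcc2 : Commute c c2 := by
    simpa using C.commute_conj_self F hr P.one_mem hwP
  have hz2c2 : Commute z2 c2 := by rw [← hz2n]; exact (Commute.refl z2).pow_right _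
  have hzz2 : Commute z z2 := by
    rcases eq_or_orth F hr C.small hc2s hcc2 with h | ⟨h1, h2⟩
    · have hwc : Commute w c := by
        have h' : c2 = c := h.symm
        rw [hc2, mul_inv_eq_iff_eq_mul] at h'
        exact h'
      obtain ⟨i, hi⟩ := conj_eq_pow F hr hk C.hrk C.two C.iso hzP C.hz C.small C.ne C.supp hwP hwc
      rw [hz2, hi]
      exact (Commute.refl z).pow_right i
    · exact commute_of_fix F hr C.small.sq hc2s.sq C.supp hz2f hzc hz2c2 h2 h1
  set d := z * z2⁻¹ with hd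
  have hd1 : d ∈ T₁ := by
    rw [hd, hz2, show z * (w * z * w⁻¹)⁻¹ = z * w * z⁻¹ * w⁻¹ by group]
    exact T₁.mul_mem (C.nz w hw) (T₁.inv_mem hw)
  have hzd : Commute z d := (Commute.refl z).mul_right hzz2.inv_right
  have hpow : ∀ j : ℕ, z ^ j * w * (z ^ j)⁻¹ = d ^ j * w := by
    intro j
    induction j with
    | zero => simp
    | succ j ih =>
      calc z ^ (j + 1) * w * (z ^ (j + 1))⁻¹ = z * (z ^ j * w * (z ^ j)⁻¹) * z⁻¹ := by
            rw [pow_succ']; group
        _ = z * d ^ j * (w * z⁻¹) := by rw [ih]; group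
        _ = d ^ j * (z * (w * z⁻¹)) := by rw [(hzd.pow_right j).eq]; group
        _ = d ^ (j + 1) * w := by rw [pow_succ, hd, hz2]; group
  have hprod : ∀ i : ℕ, (z * w) ^ i * (z ^ i)⁻¹ ∈ T₁ ∧
      f ((z * w) ^ i * (z ^ i)⁻¹) = f d ^ (i + 1).choose 2 * f w ^ i := by
    intro i
    induction i with
    | zero => simp [C.f_one, T₁.one_mem]
    | succ i ih =>
      have e : (z * w) ^ (i + 1) * (z ^ (i + 1))⁻¹ = (z * w) ^ i * (z ^ i)⁻¹ * (d ^ (i + 1) * w) := by
        rw [← hpow, pow_succ (z * w), pow_succ z]; group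
      have hm : d ^ (i + 1) * w ∈ T₁ := T₁.mul_mem (T₁.pow_mem hd1 _) hw
      rw [e]
      refine ⟨T₁.mul_mem ih.1 hm, ?_⟩
      rw [C.mul _ ih.1 _ hm, ih.2, C.mul _ (T₁.pow_mem hd1 _) _ hw, C.f_pow hd1,
        Nat.choose_succ_succ' (i + 1) 1, Nat.choose_one_right, pow_add (f d) (i + 1), pow_succ (f w)]
      ac_rfl
  obtain ⟨-, hδ⟩ := hprod (2 ^ (k - 1))
  have hfw : f w ^ 2 ^ (k - 1) = 1 := by
    rw [show k - 1 = k - 2 + 1 by omega, pow_succ' 2, pow_mul, sq, C.sqA w hw, one_pow]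
  rw [hfw, mul_one] at hδ
  rcases Nat.lt_or_ge 2 k with hk3 | hk2
  · left
    rw [hδ]
    obtain ⟨j, hj⟩ : ∃ j, k = j + 3 := ⟨k - 3, by omega⟩
    have he : (2 ^ (k - 1) + 1).choose 2 = 2 * ((2 ^ (k - 1) + 1) * 2 ^ j) := by
      rw [Nat.choose_two_right, Nat.add_sub_cancel, show 2 ^ (k - 1) = 2 * 2 ^ j * 2 by
        rw [show k - 1 = j + 2 by omega, pow_add]; ring,
        ← mul_assoc, Nat.mul_div_cancel _ two_pos]
      ring
    rw [he, pow_mul, sq, C.sqA d hd1, one_pow]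
  obtain rfl : k = 2 := le_antisymm hk2 hk
  have hr3 : r = 3 := by have := C.hrk; omega
  have e2 : 2 ^ (2 - 1) = 2 := rfl
  rw [e2] at hδ hsm hc
  by_cases hfd : f d = 1
  · left; rw [e2, hc, hδ, hfd, one_pow]
  refine Or.inr ⟨rfl, ?_⟩
  have hsmall : Small r β c := C.small
  have hne : c ≠ 1 := C.ne
  have hz4 : z ^ 4 = 1 := C.hz
  have hsupp : Fixes c z := C.supp
  set c' := (z * w) ^ 2 with hc'
  have hzwP : z * w ∈ P := mul_mem hzP hwP
  have hC2 : ∀ a ∈ P, Commute (a * c * a⁻¹) c' := fun a ha => by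
    have := C.commute_conj F hr hzwP (by rw [e2]; exact hsm) ha
    rwa [e2] at this
  have hC1 : ∀ a ∈ P, ∀ b ∈ P, Commute (a * c * a⁻¹) (b * c * b⁻¹) := fun a ha b hb =>
    C.commute_conj_self F hr ha hb
  have hcc' : Commute c c' := by simpa using hC2 1 P.one_mem
  have hww : w * w = z2⁻¹ * z⁻¹ * c' := by rw [hc', hz2, sq]; group
  have hfww : f (w * w) = 1 := by rw [C.mul w hw w hw, C.sqA w hw]
  have hzz : z * z = c := (pow_two z).symm
  have hzinv : z⁻¹ = z * c := inv_eq_of_mul_eq_one_right (by rw [← mul_assoc, hzz, hsmall.sq])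
  -- the translate moves the plane
  have hne2 : c ≠ c2 := by
    intro h
    have hwc : Commute w c := by
      have h' : c2 = c := h.symm
      rw [hc2, mul_inv_eq_iff_eq_mul] at h'
      exact h'
    rcases conj_cases F hr hr3 C.two C.iso hzP hz4 hsmall hne hsupp hwP hwc with h' | h'
    · exact hfd (by rw [hd, hz2, h', mul_inv_cancel, C.f_one])
    · have hw2 : w * w = c' := by rw [hww, hz2, h', inv_inv, mul_inv_cancel, one_mul]
      have hneg := sq_of_inverting F hr hr3 C.two C.iso hzP hz4 hsmall hne hwP hwc h'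
      rw [hw2] at hneg
      obtain ⟨u, hu, hu1⟩ := C.odd_ne_one F hr
      rcases eq_or_orth F hr hsmall hsm hcc' with h'' | ⟨h1, -⟩
      · exact hfd (by rw [hd, hz2, h', inv_inv, hzz, h'', ← hw2, hfww])
      · refine hu1 (F.eq_one_of_sq hr ?_)
        have := hneg u hu
        rw [h1 u hu] at this
        exact eq_inv_iff_mul_eq_one.mp this
  obtain ⟨ho1, ho2⟩ := (eq_or_orth F hr hsmall hc2s hcc2).resolve_left hne2
  -- a small involution
  have main : ∀ h ∈ T, Small r β h → h * z * h⁻¹ * z⁻¹ ∈ T₁ ∧ f (h * z * h⁻¹ * z⁻¹) = 1 := by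
    intro h hhT hh
    have hhP : h ∈ P := hTP h hhT
    by_cases hhc : Commute h c
    · have hhz : Commute h z := by
        rcases eq_or_orth F hr hh hsmall hhc with e | ⟨h1, h2⟩
        · rw [e]; exact hzc.symm
        · exact (commute_of_fix F hr hsmall.sq hh.sq hsupp (Fixes.refl h) hzc (Commute.refl h) h1 h2).symm
      rw [hhz.mul_inv_cancel, mul_inv_cancel]
      exact ⟨T₁.one_mem, C.f_one⟩
    set cj := h * c * h⁻¹ with hcj
    set zh := h * z * h⁻¹ with hzh
    have hcjs : Small r β cj := hsmall.conj (C.iso h hhP)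
    have hccj : Commute c cj := by simpa using hC1 1 P.one_mem h hhP
    have hnej : c ≠ cj := fun e => hhc (by
      have e' : cj = c := e.symm
      rw [hcj, mul_inv_eq_iff_eq_mul] at e'
      exact e')
    obtain ⟨hj1, hj2⟩ := (eq_or_orth F hr hsmall hcjs hccj).resolve_left hnej
    have hzhf : Fixes cj zh := hsupp.conj h
    have hzhc : Commute zh cj := by
      rw [hzh, hcj]; exact (Commute.conj_iff h).mpr hzc
    have hzzh : Commute z zh := commute_of_fix F hr hsmall.sq hcjs.sq hsupp hzhf hzc hzhc hj2 hj1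
    have hhU : ∀ u ∈ mov c, h u ∈ mov cj := fun u hu => by
      rw [mem_mov, hcj, MulAut.mul_apply, MulAut.mul_apply, MulAut.inv_apply_self, mem_mov.mp hu,
        map_inv]
    -- the inverted part of `h`
    have hmovh : ∀ y ∈ mov h, ∃ u ∈ mov c, y = u / h u := by
      let ψ : ↥(mov c) →* ↥(mov h) :=
        { toFun := fun u => ⟨(u : S) / h u, by
            rw [mem_mov, map_div, ← MulAut.mul_apply, hh.sq, MulAut.one_apply, inv_div]⟩
          map_one' := by ext; simp
          map_mul' := fun a b => by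
            ext
            show ((a : S) * b) / h ((a : S) * b) = (a : S) / h a * ((b : S) / h b)
            rw [map_mul, mul_div_mul_comm] }
      have hψ : Function.Injective ψ := by
        rw [injective_iff_map_eq_one]
        intro u hu
        have h' : (u : S) / h u = 1 := congrArg Subtype.val hu
        have h'' : h (u : S) = u := (div_eq_one.mp h').symm
        have h3 := hj1 u u.2
        have h4 := mem_mov.mp (hhU u u.2)
        rw [h'', h3] at h4
        exact Subtype.ext (F.eq_one_of_sq hr (eq_inv_iff_mul_eq_one.mp h4))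
      have hU0 : mov c ≠ ⊥ := fun h0 => by
        obtain ⟨u, hu, hu1⟩ := exists_mem_mov_ne_one F hr hsmall.sq hne
        rw [h0] at hu; exact hu1 hu
      have hsurj := ((Nat.bijective_iff_injective_and_card ψ).mpr ⟨hψ,
        le_antisymm (Nat.card_le_card_of_injective ψ hψ)
          (hh.card.trans (F.card_mov hr hsmall.sq hsmall.iso hU0))⟩).2
      intro y hy
      obtain ⟨u, hu⟩ := hsurj ⟨y, hy⟩
      exact ⟨u, u.2, (congrArg Subtype.val hu).symm⟩
    have hfix : ∀ g, c g = g → cj g = g → h g = g := by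
      intro g hg1 hg2
      obtain ⟨v, g0, hv, hg0, hvg, -⟩ := F.split hr hh.sq g
      by_cases hv1 : v = 1
      · rw [← hvg, hv1, one_mul]; exact hg0
      exfalso
      obtain ⟨y, hy, hvy⟩ := F.nd_mov hr hh.sq hh.iso hv hv1
      apply hvy
      refine F.swap_eq_one ?_
      obtain ⟨u, hu, rfl⟩ := hmovh y hy
      have h1 : β (u / h u) g = 1 := by
        rw [div_eq_mul_inv, ← map_inv, F.mulL, F.perp hr hsmall.iso hu hg1,
          F.perp hr hcjs.iso (hhU _ (inv_mem hu)) hg2, one_mul]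
      rwa [← hvg, F.mulR, F.perp hr hh.iso hy hg0, mul_one] at h1
    have hinvh : h⁻¹ = h := hh.inv_eq
    by_cases hj : c2 = cj
    · -- `h` exchanges the two planes of `w`
      obtain ⟨hη1, hηf⟩ := C.kills_comm hhT hw
      set η := h * w * h⁻¹ * w⁻¹ with hη
      set e := zh * z⁻¹ with he
      have hgc : Commute (h * w) c := by
        have : h * w * c * (h * w)⁻¹ = c := by
          calc h * w * c * (h * w)⁻¹ = h * c2 * h⁻¹ := by rw [hc2]; group
            _ = (h * h) * c * (h * h)⁻¹ := by rw [hj, hcj]; group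
            _ = c := by rw [hh.sq]; group
        rwa [mul_inv_eq_iff_eq_mul] at this
      have hwwc : Commute (w * w) c := by
        rw [hww]
        refine ((Commute.inv_left ?_).mul_left hzc.inv_left).mul_left hcc'.symm
        exact commute_of_fix F hr hc2s.sq hsmall.sq hz2f (Fixes.refl c) hz2c2 (Commute.refl c) ho1 ho2
      have hηe : η = h * w * (h * w) * (w * w)⁻¹ := by rw [hη, hinvh]; group
      have hηc : Commute η c := by rw [hηe]; exact (hgc.mul_left hgc).mul_left hwwc.inv_left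
      have hec : Commute e c :=
        (commute_of_fix F hr hcjs.sq hsmall.sq hzhf (Fixes.refl c) hzhc (Commute.refl c) hj1 hj2).mul_left
          hzc.inv_left
      have hzhU : ∀ u ∈ mov c, zh u = u := fun u hu => hzhf u (hj1 u hu)
      have hzzu : ∀ u ∈ mov c, z⁻¹ u = (z u)⁻¹ := fun u hu => by
        rw [hzinv, MulAut.mul_apply, mem_mov.mp hu, map_inv]
      have heU : ∀ u ∈ mov c, e u = (z u)⁻¹ := fun u hu => by
        rw [he, MulAut.mul_apply, hzhU _ (apply_mem_mov hzc.inv_left hu), hzzu u hu]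
      have heU' : ∀ u ∈ mov c, e⁻¹ u = z u := fun u hu => by
        rw [he, mul_inv_rev, inv_inv, MulAut.mul_apply, hzhf.inv u (hj1 u hu)]
      have hηU : (∀ u ∈ mov c, η u = z u) ∨ ∀ u ∈ mov c, η u = (z u)⁻¹ := by
        have h0 : η = (h * w * (h * w)) * (c' * (z * z2)) := by
          rw [hηe, hww, mul_inv_rev, mul_inv_rev, inv_inv, inv_inv, hsm.inv_eq]
        have h1 : ∀ u ∈ mov c, η u = (h * w * (h * w)) (c' (z u)) := fun u hu => by
          rw [h0]
          show (h * w * (h * w)) (c' (z (z2 u))) = _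
          rw [hz2f u (ho1 u hu)]
        have hzu : ∀ u ∈ mov c, z u ∈ mov c := fun u hu => apply_mem_mov hzc hu
        rcases eq_or_orth F hr hsmall hsm hcc' with e' | ⟨e', -⟩ <;>
          rcases sq_cases F hr hr3 C.two C.iso hzP hz4 hsmall hne (mul_mem hhP hwP) hgc with g' | g'
        · exact Or.inr fun u hu => by
            rw [h1 u hu, ← e', mem_mov.mp (hzu u hu), g' _ (inv_mem (hzu u hu))]
        · exact Or.inl fun u hu => by
            rw [h1 u hu, ← e', mem_mov.mp (hzu u hu), g' _ (inv_mem (hzu u hu)), inv_inv]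
        · exact Or.inl fun u hu => by rw [h1 u hu, e' _ (hzu u hu), g' _ (hzu u hu)]
        · exact Or.inr fun u hu => by rw [h1 u hu, e' _ (hzu u hu), g' _ (hzu u hu)]
      have agree : ∀ ε : MulAut S, Commute ε c → h * ε * h⁻¹ = ε⁻¹ →
          (∀ g, c g = g → cj g = g → ε g = g) → (∀ u ∈ mov c, η u = ε u) → η = ε := by
        intro ε hεc hεh hε0 hεU
        have hηh : h * η * h⁻¹ = η⁻¹ := by
          rw [hη]
          calc h * (h * w * h⁻¹ * w⁻¹) * h⁻¹ = (h * h) * w * h⁻¹ * w⁻¹ * h⁻¹ := by group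
            _ = (h * w * h⁻¹ * w⁻¹)⁻¹ := by rw [hh.sq, hinvh, mul_inv_rev, mul_inv_rev, mul_inv_rev, inv_inv, hinvh]; group
        have hneg : ∀ u ∈ mov c, η⁻¹ u = ε⁻¹ u := fun u hu => by
          have h3 := hεU _ (apply_mem_mov hηc.inv_left hu)
          rw [MulAut.apply_inv_self] at h3
          apply ε.injective
          rw [MulAut.apply_inv_self, ← h3]
        have hη0 : ∀ g, c g = g → cj g = g → η g = g := by
          intro g hg1 hg2
          have h1 : c (w⁻¹ g) = w⁻¹ g := by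
            have h' := hg2
            rw [← hj, hc2, MulAut.mul_apply, MulAut.mul_apply] at h'
            conv_rhs => rw [← h']
            rw [MulAut.inv_apply_self]
          have h2 : cj (w⁻¹ g) = w⁻¹ g := by
            have e3 : w * cj * w⁻¹ = c := by
              rw [← hj, hc2, show w * (w * c * w⁻¹) * w⁻¹ = (w * w) * c * (w * w)⁻¹ by group, hwwc.mul_inv_cancel]
            have h' := hg1
            rw [← e3, MulAut.mul_apply, MulAut.mul_apply] at h'
            conv_rhs => rw [← h']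
            rw [MulAut.inv_apply_self]
          rw [hη, hinvh, MulAut.mul_apply, MulAut.mul_apply, MulAut.mul_apply, hfix _ h1 h2,
            MulAut.apply_inv_self, hfix g hg1 hg2]
        refine ext_split F hr hsmall.sq hεU fun s hs => ?_
        obtain ⟨v, g, hv, hg, hvg, -⟩ := F.split hr hcjs.sq s
        have hgc' : c g = g := by
          have h' := hs
          rw [← hvg, map_mul, hj2 v hv] at h'
          exact mul_left_cancel h'
        rw [← hvg, map_mul, map_mul, hη0 g hgc' hg, hε0 g hgc' hg]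
        congr 1
        have hu : h v ∈ mov c := by
          have h' := mem_mov.mp hv
          rw [hcj, hinvh, MulAut.mul_apply, MulAut.mul_apply] at h'
          rw [mem_mov]
          apply h.injective
          rw [h', map_inv, ← MulAut.mul_apply, hh.sq, MulAut.one_apply]
        have hhh : ∀ x, h (h x) = x := fun x => by rw [← MulAut.mul_apply, hh.sq, MulAut.one_apply]
        have hconv : ∀ a : MulAut S, h * a * h⁻¹ = a⁻¹ → a v = h (a⁻¹ (h v)) := fun a ha => by
          rw [← ha, hinvh, MulAut.mul_apply, MulAut.mul_apply, hhh, hhh]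
        rw [hconv η hηh, hconv ε hεh, hneg _ hu]
      have heh : h * e * h⁻¹ = e⁻¹ := by
        rw [he, hzh]
        calc h * (h * z * h⁻¹ * z⁻¹) * h⁻¹ = (h * h) * z * h⁻¹ * z⁻¹ * h⁻¹ := by group
          _ = (h * z * h⁻¹ * z⁻¹)⁻¹ := by rw [hh.sq, hinvh, mul_inv_rev, mul_inv_rev, mul_inv_rev, inv_inv, hinvh]; group
      have he0 : ∀ g, c g = g → cj g = g → e g = g := fun g h1 h2 => by
        rw [he, MulAut.mul_apply, hsupp.inv g h1, hzhf g h2]
      have hmem : e ∈ T₁ ∧ f e = 1 := by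
        rcases hηU with h1 | h1
        · have := agree e⁻¹ hec.inv_left (by rw [inv_inv]; calc h * e⁻¹ * h⁻¹ = (h * e * h⁻¹)⁻¹ := by group
            _ = e := by rw [heh, inv_inv]) (fun g a b => by
              conv_lhs => rw [← he0 g a b]
              rw [MulAut.inv_apply_self]) (fun u hu => by rw [h1 u hu, heU' u hu])
          rw [this] at hη1 hηf
          exact ⟨by simpa using T₁.inv_mem hη1, by rw [← hηf, C.f_inv (by simpa using T₁.inv_mem hη1)]⟩
        · have := agree e hec heh he0 (fun u hu => by rw [h1 u hu, heU u hu])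
          rw [this] at hη1 hηf
          exact ⟨hη1, hηf⟩
      exact hmem
    · -- `h` fixes the plane of `z2`
      obtain ⟨hk1, hk2'⟩ := (eq_or_orth F hr hc2s hcjs (hC1 w hwP h hhP)).resolve_left hj
      have hc2h : ∀ y ∈ mov h, c2 y = y := by
        intro y hy
        obtain ⟨u, hu, rfl⟩ := hmovh y hy
        rw [map_div, ho1 u hu, hk2' _ (hhU u hu)]
      have hhc2 : ∀ u ∈ mov c2, h u = u := fun u hu => hfix u (ho2 u hu) (hk1 u hu)
      have hhz2 : Commute z2 h :=
        commute_of_fix F hr hc2s.sq hh.sq hz2f (Fixes.refl h) hz2c2 (Commute.refl h) hc2h hhc2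
      obtain ⟨hφ1, hφf⟩ := C.kills_comm hhT (T₁.mul_mem hw hw)
      have hz2zh : Commute z2 zh := commute_of_fix F hr hc2s.sq hcjs.sq hz2f hzhf hz2c2 hzhc hk2' hk1
      have hz2z : Commute z2 z := hzz2.symm
      have hφe : h * (w * w) * h⁻¹ * (w * w)⁻¹ = z2⁻¹ * (zh⁻¹ * (h * c' * h⁻¹ * c'⁻¹) * z) * z2 := by
        rw [hww, hzh]
        calc h * (z2⁻¹ * z⁻¹ * c') * h⁻¹ * (z2⁻¹ * z⁻¹ * c')⁻¹
            = (h * z2⁻¹ * h⁻¹) * (h * z * h⁻¹)⁻¹ * (h * c' * h⁻¹) * c'⁻¹ * z * z2 := by group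
          _ = _ := by rw [hhz2.symm.inv_right.mul_inv_cancel]; group
      have hzh2 : zh * zh = cj := by rw [hzh, hcj, ← hzz]; group
      have hcases : h * (w * w) * h⁻¹ * (w * w)⁻¹ = zh * z⁻¹ ∨
          h * (w * w) * h⁻¹ * (w * w)⁻¹ = (zh * z⁻¹)⁻¹ := by
        have hjc' : Commute cj c' := hC2 h hhP
        have hcomm : ∀ x, Commute z2 x → z2⁻¹ * x * z2 = x := fun x hx => by
          rw [hx.inv_left.eq, inv_mul_cancel_right]
        rcases eq_or_orth F hr hsmall hsm hcc' with e1 | ⟨h1, h1'⟩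
        · left
          have e3 : zh⁻¹ * (h * c' * h⁻¹ * c'⁻¹) * z = zh * z⁻¹ := by
            rw [← e1, ← hcj, ← hzh2, ← hzz]; group
          rw [hφe, e3]
          exact hcomm _ (hz2zh.mul_right hz2z.inv_right)
        rcases eq_or_orth F hr hcjs hsm hjc' with e1 | ⟨h2, h2'⟩
        · left
          have hc'h : h * c' * h⁻¹ = c := by
            rw [← e1, hcj, show h * (h * c * h⁻¹) * h⁻¹ = (h * h) * c * (h * h)⁻¹ by group, hh.sq]
            group
          have e3 : zh⁻¹ * (h * c' * h⁻¹ * c'⁻¹) * z = zh * z⁻¹ := by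
            rw [hc'h, ← e1, hcjs.inv_eq, ← hzh2, ← hzz]
            have hcz : Commute (z * z) zh := hzzh.mul_left hzzh
            calc zh⁻¹ * (z * z * (zh * zh)) * z = zh⁻¹ * ((zh * zh) * (z * z)) * z := by
                  rw [(hcz.mul_right hcz).eq]
              _ = zh * (z * (z * z)) := by group
              _ = zh * z⁻¹ := by rw [hzz, ← hzinv]
          rw [hφe, e3]
          exact hcomm _ (hz2zh.mul_right hz2z.inv_right)
        · right
          have hc'h : Commute c' h := by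
            refine commute_of_fix F hr hsm.sq hh.sq (Fixes.refl c') (Fixes.refl h) (Commute.refl c')
              (Commute.refl h) (fun y hy => ?_) fun u hu => hfix u (h1' u hu) (h2' u hu)
            obtain ⟨u, hu, rfl⟩ := hmovh y hy
            rw [map_div, h1 u hu, h2 _ (hhU u hu)]
          have e3 : zh⁻¹ * (h * c' * h⁻¹ * c'⁻¹) * z = (zh * z⁻¹)⁻¹ := by
            rw [hc'h.symm.mul_inv_cancel, mul_inv_cancel, mul_one, mul_inv_rev, inv_inv]
            exact hzzh.inv_right.symm.eq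
          rw [hφe, e3]
          exact hcomm _ ((hz2zh.mul_right hz2z.inv_right).inv_right)
      rcases hcases with e4 | e4 <;> rw [e4] at hφ1 hφf
      · exact ⟨hφ1, hφf⟩
      · exact ⟨by simpa using T₁.inv_mem hφ1, by rw [← hφf, C.f_inv (by simpa using T₁.inv_mem hφ1)]⟩
  intro g hg
  refine (show g ∈ T ∧ _ from ?_).2
  induction hg using Subgroup.closure_induction with
  | mem h hh => exact ⟨hh.1, main h hh.1 hh.2⟩
  | one =>
    refine ⟨T.one_mem, ?_⟩
    simp [C.f_one, T₁.one_mem]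
  | mul a b _ _ iha ihb =>
    obtain ⟨haT, ha1, haf⟩ := iha
    obtain ⟨hbT, hb1, hbf⟩ := ihb
    refine ⟨mul_mem haT hbT, ?_⟩
    rw [show a * b * z * (a * b)⁻¹ * z⁻¹ = a * (b * z * b⁻¹ * z⁻¹) * a⁻¹ * (a * z * a⁻¹ * z⁻¹) by group]
    refine ⟨T₁.mul_mem (C.nT a haT _ hb1) ha1, ?_⟩
    rw [C.mul _ (C.nT a haT _ hb1) _ ha1, C.inv a haT _ hb1, hbf, haf, one_mul]
  | inv a _ iha =>
    obtain ⟨haT, ha1, haf⟩ := iha
    refine ⟨inv_mem haT, ?_⟩
    rw [show a⁻¹ * z * a⁻¹⁻¹ * z⁻¹ = a⁻¹ * (a * z * a⁻¹ * z⁻¹)⁻¹ * a⁻¹⁻¹ by group]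
    refine ⟨C.nT _ (inv_mem haT) _ (T₁.inv_mem ha1), ?_⟩
    rw [C.inv _ (inv_mem haT) _ (T₁.inv_mem ha1), C.f_inv ha1, haf]

end Cfsg.Agent.Grp.Bry
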