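import Mathlib
import Cfsg.Agent.Lib.Transfer.HallHighB

/-!
The Hall–Higman dichotomy on a section, recording that in the exceptional case the element centralizes
the fixed part of its top power.
-/

set_option autoImplicit false
set_option linter.style.haveILetI false
set_option linter.unusedSectionVars false
set_option maxHeartbeats 1000000

namespace Cfsg.Agent.Grp.Bry

open Module Cfsg.Agent.Grp Cfsg.Agent.Grp.HHExc Cfsg.Agent.Transfer.HHB
open scoped commutatorElement TensorProduct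

variable {K : Type*} [Field K] {V : Type*} [AddCommGroup V] [Module K V]
  {Γ : Type*} [Group Γ] [Finite Γ] {ρ : Γ →* Module.End K V}

/-- A nilpotent derivation of the centralizer of a unipotent element has a fixed element killing a power. -/
theorem exists_fixed_of_nilpotent {E : Type*} [Ring E] [Algebra K E] {Zy Zy' B : E} (h1 : Zy * Zy' = 1)
    (h2 : Zy' * Zy = 1) (Cm : E → Prop) (hCm : ∀ D, Cm D → Cm (Zy * D * Zy' - D)) (hB : Cm B) {t : ℕ}
    (hn : (Zy - 1) ^ (t + 1) = 0) (ht : ((t + 1 : ℕ) : K) ≠ 0) (hne : Zy * B * Zy' - B ≠ 0) :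
    ∃ D, Cm D ∧ D ≠ 0 ∧ Commute D Zy ∧ D * (Zy - 1) ^ t = 0 := by
  set n := Zy - 1 with hndef
  let Δ : E → E := fun D => Zy * D * Zy' - D
  have hit : ∀ (N : ℕ) (D : E),
      Δ^[N] D * Zy ^ N = ((LinearMap.mulLeft K n - LinearMap.mulRight K n) ^ N) D := by
    intro N D
    induction N with
    | zero => simp
    | succ N ih =>
      rw [Function.iterate_succ_apply', pow_succ' (LinearMap.mulLeft K n - _), Module.End.mul_apply, ← ih,
        LinearMap.sub_apply, LinearMap.mulLeft_apply, LinearMap.mulRight_apply]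
      show (Zy * Δ^[N] D * Zy' - Δ^[N] D) * Zy ^ (N + 1) = _
      have h4 : Zy' * Zy ^ (N + 1) = Zy ^ N := by rw [pow_succ', ← mul_assoc, h2, one_mul]
      rw [sub_mul, mul_assoc (Zy * Δ^[N] D), h4, hndef, sub_mul, mul_sub, one_mul, mul_one, pow_succ]
      noncomm_ring
  obtain ⟨N, hN⟩ : ∃ N, Δ^[N] B = 0 := by
    obtain ⟨N, hN⟩ : IsNilpotent (LinearMap.mulLeft K n - LinearMap.mulRight K n) := by
      refine Commute.isNilpotent_sub (LinearMap.commute_mulLeft_right n n) ?_ ?_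
      · exact ⟨t + 1, by rw [LinearMap.pow_mulLeft, hn, LinearMap.mulLeft_zero_eq_zero]⟩
      · exact ⟨t + 1, by rw [LinearMap.pow_mulRight, hn, LinearMap.mulRight_zero_eq_zero]⟩
    refine ⟨N, ?_⟩
    have h3 := hit N B
    rw [hN, LinearMap.zero_apply] at h3
    calc Δ^[N] B = Δ^[N] B * Zy ^ N * Zy' ^ N := by
          rw [mul_assoc, ← ((show Commute Zy Zy' from h1.trans h2.symm)).mul_pow, h1, one_pow, mul_one]
      _ = 0 := by rw [h3, zero_mul]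
  obtain ⟨N0, hN0, hN1⟩ : ∃ N0, Δ^[N0 + 1] B ≠ 0 ∧ Δ^[N0 + 2] B = 0 := by
    induction N with
    | zero =>
      rw [Function.iterate_zero, id] at hN
      exact absurd (by rw [hN, mul_zero, zero_mul, sub_zero]) hne
    | succ N ihN =>
      rcases N with _ | N
      · exact absurd hN hne
      by_cases h3 : Δ^[N + 1] B = 0
      · exact ihN h3
      · exact ⟨N, h3, hN⟩
  set D := Δ^[N0] B with hD
  have hC : ∀ N, Cm (Δ^[N] B) := fun N => by
    induction N with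
    | zero => exact hB
    | succ N ih => rw [Function.iterate_succ_apply']; exact hCm _ ih
  set D' := Δ D with hD'
  have hD'eq : D' = Δ^[N0 + 1] B := (Function.iterate_succ_apply' Δ N0 B).symm
  have hD'1 : Δ D' = 0 := by rw [hD'eq, ← Function.iterate_succ_apply' Δ]; exact hN1
  have hZD' : Commute D' Zy := by
    have h3 : Zy * D' * Zy' * Zy = D' * Zy := congrArg (· * Zy) (sub_eq_zero.mp hD'1)
    rw [mul_assoc, h2, mul_one] at h3
    exact h3.symm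
  have hnD' : Commute D' n := hZD'.sub_right (Commute.one_right _)
  have hnD : n * D = D * n + D' * Zy := by
    show (Zy - 1) * D = D * (Zy - 1) + (Zy * D * Zy' - D) * Zy
    rw [sub_mul (Zy * D * Zy'), mul_assoc _ Zy', h2, mul_one]
    noncomm_ring
  have hjD : ∀ s : ℕ, n ^ (s + 1) * D = D * n ^ (s + 1) + (s + 1) • (D' * Zy * n ^ s) := by
    intro s
    induction s with
    | zero => simp [hnD]
    | succ s ihs =>
      have h3 : n * (D' * Zy * n ^ s) = D' * Zy * n ^ (s + 1) := by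
        rw [pow_succ' n s, ← mul_assoc, ← mul_assoc (D' * Zy), ← mul_assoc n, hnD'.symm.eq, mul_assoc D' n,
          (show Commute n Zy from (Commute.refl Zy).sub_left (Commute.one_left _)).eq, ← mul_assoc]
      rw [pow_succ' n (s + 1), mul_assoc, ihs, mul_add, mul_smul_comm, h3, ← mul_assoc, hnD, add_mul,
        succ_nsmul _ (s + 1)]
      simp only [mul_assoc]
      abel
  have hkill : D' * Zy * n ^ t = 0 := by
    have h3 := hjD t
    rw [hn, zero_mul, mul_zero, zero_add, ← Nat.cast_smul_eq_nsmul K] at h3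
    exact (smul_eq_zero.mp h3.symm).resolve_left ht
  refine ⟨D', hCm _ (hC N0), hD'eq ▸ hN0, hZD', ?_⟩
  rw [hZD'.eq, mul_assoc] at hkill
  have h3 := congrArg (Zy' * ·) hkill
  simpa [← mul_assoc, h2] using h3

/-- A representation restricted to the range of an endomorphism commuting with it. -/
theorem exists_restr_range {W : Type*} [AddCommGroup W] [Module K W] {G : Type*} [Group G]
    (σ : G →* Module.End K W) (D : Module.End K W) (hD : ∀ a, Commute (σ a) D) :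
    ∃ σ' : G →* Module.End K ↥(LinearMap.range D), (∀ a v, ((σ' a v : ↥(LinearMap.range D)) : W) = σ a v) ∧
      ∀ (a : G) (t : ℕ), D * (σ a - 1) ^ t = 0 → (σ' a - 1) ^ t = 0 := by
  have hmem : ∀ a : G, ∀ v ∈ LinearMap.range D, σ a v ∈ LinearMap.range D := by
    rintro a _ ⟨u, rfl⟩
    exact ⟨σ a u, (LinearMap.congr_fun (hD a).eq u).symm⟩
  let σ' : G →* Module.End K ↥(LinearMap.range D) :=
    { toFun := fun a => (σ a).restrict (hmem a)
      map_one' := LinearMap.ext fun v => Subtype.ext (by simp [LinearMap.restrict_apply])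
      map_mul' := fun a b => LinearMap.ext fun v => Subtype.ext (by simp [LinearMap.restrict_apply]) }
  refine ⟨σ', fun a v => rfl, fun a t ht => ?_⟩
  have hsub : ∀ (N : ℕ) (v : ↥(LinearMap.range D)),
      ((((σ' a - 1) ^ N) v : ↥(LinearMap.range D)) : W) = ((σ a - 1) ^ N) v := by
    intro N
    induction N with
    | zero => intro v; rfl
    | succ N ih =>
      intro v
      rw [pow_succ, Module.End.mul_apply, pow_succ, Module.End.mul_apply, ih]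
      congr 1
  refine LinearMap.ext fun v => Subtype.ext ?_
  obtain ⟨u, hu⟩ := v.2
  rw [hsub, ← hu, ← Module.End.mul_apply,
    ← (((hD a).symm.sub_right (Commute.one_right _)).pow_right t).eq, ht]
  rfl

/-- The action of `c` on `Q` modulo the radical. -/
theorem section_data_aux [IsAlgClosed K] [FiniteDimensional K V] {p q : ℕ} [hp : Fact p.Prime]
    [hq : Fact q.Prime] [CharP K p] {Q Z : Subgroup Γ} (S : Setting p Q Z)
    (hQ : IsPGroup q Q) {x : Γ} (hxQ : x ∈ Subgroup.normalizer (Q : Set Γ))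
    (hxZ : x ∈ Subgroup.normalizer (Z : Set Γ)) {m : ℕ} (hx : x ^ p ^ (m + 1) = 1) {s : ℕ}
    (hs : (ρ x - 1) ^ s = 0) (hsm : s ≤ p ^ (m + 1) - 1) {ω : Γ → K} (hW : chEigen ρ Z ω ≠ ⊥) :
    x ^ p ^ m ∈ stab Q Z ω ∧
    (∀ r ∈ rad S hW, ∀ v ∈ chEigen ρ Z ω, ρ (x ^ p ^ m * r * (x ^ p ^ m)⁻¹) v = ρ r v) ∧
    ((∀ g ∈ Q, g⁻¹ * (x ^ p ^ m * g * (x ^ p ^ m)⁻¹) ∈ rad S hW) ∨
      ∃ k b : ℕ, k ≠ 0 ∧ k ≤ m + 1 ∧ b ≠ 0 ∧ p ^ k = q ^ b + 1 ∧
        x ^ p ^ (m + 1 - k) ∈ stab Q Z ω ∧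
        (∀ g ∈ Q, g⁻¹ * (x ^ p ^ m * g * (x ^ p ^ m)⁻¹) ∈ rad S hW →
          g⁻¹ * (x ^ p ^ (m + 1 - k) * g * (x ^ p ^ (m + 1 - k))⁻¹) ∈ rad S hW) ∧
        ∃ Q1 : Subgroup Γ, rad S hW ≤ Q1 ∧ Q1 ≤ Q ∧
          (∀ g ∈ Q, g⁻¹ * (x ^ p ^ m * g * (x ^ p ^ m)⁻¹) ∈ Q1) ∧
          (rad S hW).relIndex Q1 = q ^ b * q ^ b) := by
  classical
  obtain ⟨j, hjm, hjZ, hker⟩ := orbit_bound ρ Z hxZ hx hW hs hsm
  set x' := x ^ p ^ j with hx'def
  set c := x ^ p ^ m with hcdef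
  have hx'S : x' ∈ stab Q Z ω := ⟨Subgroup.pow_mem _ hxQ _, Subgroup.pow_mem _ hxZ _, hjZ⟩
  have hcx' : c = x' ^ p ^ (m - j) := by
    rw [hcdef, hx'def, ← pow_mul, ← pow_add, show j + (m - j) = m by omega]
  have hcS : c ∈ stab Q Z ω := hcx' ▸ Subgroup.pow_mem _ hx'S _
  set R := rad S hW with hRdef
  have hRQ : R ≤ Q := fun g hg => (mem_rad.mp hg).1
  have hconjR : ∀ g ∈ stab Q Z ω, ∀ a ∈ R, g * a * g⁻¹ ∈ R := fun g hg a ha => conj_mem_rad hg ha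
  have hpK : ∀ n : ℕ, ¬ p ∣ n → (n : K) ≠ 0 := fun n hn e => hn ((CharP.cast_eq_zero_iff K p n).mp e)
  have hcp : c ^ p = 1 := by rw [hcdef, ← pow_mul, ← pow_succ, hx]
  set W := chEigen ρ Z ω with hWdef
  haveI : Nontrivial W := Submodule.nontrivial_iff_ne_bot.mpr hW
  set Γω := stab Q Z ω
  set ρW := restr (ρ := ρ) Q Z ω
  have hQS : Q ≤ Γω := setting_le_stab S ω
  have hρWsub : ∀ (n : ℕ) (v : W),
      ((((ρW ⟨x', hx'S⟩ - 1) ^ n) v : W) : V) = ((ρ x' - 1) ^ n) v := by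
    intro n
    induction n with
    | zero => intro v; rfl
    | succ n ih =>
      intro v
      rw [pow_succ, Module.End.mul_apply, pow_succ, Module.End.mul_apply, ih]
      congr 1
  have hnil : ∀ r, s ≤ p ^ j * r + (p ^ j - 1) → (ρW ⟨x', hx'S⟩ - 1) ^ r = 0 := fun r hr =>
    LinearMap.ext fun v => Subtype.ext (by rw [hρWsub]; exact hker s r hs hr v v.2)
  have hfix : ∀ r ∈ R, ∀ v ∈ W, ρ (c * r * c⁻¹) v = ρ r v := by
    set R' := R.subgroupOf Γω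
    have hR'c : ∀ a ∈ R', ∀ b ∈ R', ρW a * ρW b = ρW b * ρW a := by
      intro a ha b hb
      refine LinearMap.ext fun v => Subtype.ext ?_
      rw [Module.End.mul_apply, Module.End.mul_apply, coe_restr, coe_restr, coe_restr, coe_restr]
      have hb : (b : Γ) ∈ R := hb
      have ha : (a : Γ) ∈ R := ha
      have hc' : ⁅(a : Γ), (b : Γ)⁆ ∈ Z := S.comm _ (hRQ hb) _ (hRQ ha)
      have h2 : ρ ((a : Γ) * b) = ρ ⁅(a : Γ), (b : Γ)⁆ * ρ ((b : Γ) * a) := by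
        rw [← map_mul]; congr 1; simp only [commutatorElement_def]; group
      rw [← Module.End.mul_apply, ← map_mul, h2, Module.End.mul_apply,
        (mem_chEigen ρ).mp (apply_mem_chEigen ρ (hQS (Q.mul_mem (hRQ hb) (hRQ ha))).2.1
          (hQS (Q.mul_mem (hRQ hb) (hRQ ha))).2.2 v.2) _ hc',
        (mem_rad.mp hb).2 _ (hRQ ha), one_smul, map_mul, Module.End.mul_apply]
    have hR'card : (Nat.card R' : K) ≠ 0 := by
      refine hpK _ fun hd => S.coprime ?_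
      rw [Nat.card_congr (Subgroup.subgroupOfEquivOfLe (hRQ.trans hQS)).toEquiv] at hd
      exact hd.trans (Subgroup.card_dvd_of_le hRQ)
    have hxn : (⟨x', hx'S⟩ : Γω) ∈ Subgroup.normalizer (R' : Set Γω) := by
      refine Subgroup.mem_normalizer_iff.mpr fun a => ⟨fun ha => hconjR _ hx'S _ ha, fun ha => ?_⟩
      have := hconjR _ (inv_mem hx'S) _ (show x' * (a : Γ) * x'⁻¹ ∈ R from ha)
      show (a : Γ) ∈ R
      simpa [mul_assoc] using this
    have hxh' : (⟨x', hx'S⟩ : Γω) ^ p ^ (m - j + 1) = 1 := Subtype.ext (by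
      show x' ^ p ^ (m - j + 1) = 1
      rw [hx'def, ← pow_mul, ← pow_add, show j + (m - j + 1) = m + 1 by omega, hx])
    intro r hr v hv
    have htop := iSup_chEigen_eq_top ρW R' hR'c hR'card
    suffices h : ρW ⟨c * r * c⁻¹, mul_mem (mul_mem hcS (hQS (hRQ hr))) (inv_mem hcS)⟩ =
        ρW ⟨r, hQS (hRQ hr)⟩ from congrArg Subtype.val (LinearMap.congr_fun h ⟨v, hv⟩)
    rw [← LinearMap.eqLocus_eq_top, eq_top_iff, ← htop]
    refine iSup_le fun χ => ?_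
    rcases eq_or_ne (chEigen ρW R' χ) ⊥ with hb | hb
    · rw [hb]; exact bot_le
    intro u hu
    have hple : 1 ≤ p ^ j := pow_pos hp.out.pos j
    have hpm : p ^ j * p ^ (m - j + 1) = p ^ (m + 1) := by
      rw [← pow_add, show j + (m - j + 1) = m + 1 by omega]
    obtain ⟨i, him, hi, -⟩ := orbit_bound ρW R' hxn hxh' hb (s := p ^ (m - j + 1) - 1) (hnil _ (by
      rw [Nat.mul_sub_one, hpm]
      have : p ^ j ≤ p ^ (m + 1) := Nat.pow_le_pow_right hp.out.pos (by omega)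
      omega)) le_rfl
    set y : Γω := (⟨x', hx'S⟩ : Γω) ^ p ^ (m - j) with hy
    have hyc : (y : Γ) = c := by
      rw [hy, SubmonoidClass.coe_pow, hcx']
    have hyfix : ∀ a ∈ R', χ (y * a * y⁻¹) = χ a := by
      have key : ∀ t : ℕ, ∀ a ∈ R', χ (((⟨x', hx'S⟩ : Γω) ^ p ^ i) ^ t * a * (((⟨x', hx'S⟩ : Γω) ^ p ^ i) ^ t)⁻¹) = χ a := by
        intro t
        induction t with
        | zero => intro a _; simp
        | succ t ih =>
          intro a ha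
          rw [← ih a ha, ← hi (((⟨x', hx'S⟩ : Γω) ^ p ^ i) ^ t * a * (((⟨x', hx'S⟩ : Γω) ^ p ^ i) ^ t)⁻¹)
            ((Subgroup.mem_normalizer_iff.mp (Subgroup.pow_mem _ (Subgroup.pow_mem _ hxn _) t) a).mp ha)]
          congr 1
          rw [pow_succ']; group
      intro a ha
      rw [hy, show p ^ (m - j) = p ^ i * p ^ (m - j - i) by rw [← pow_add]; congr 1; omega, pow_mul]
      exact key _ a ha
    have ha : (⟨r, hQS (hRQ hr)⟩ : Γω) ∈ R' := hr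
    have hb' : (⟨c * r * c⁻¹, mul_mem (mul_mem hcS (hQS (hRQ hr))) (inv_mem hcS)⟩ : Γω) ∈ R' :=
      hconjR _ hcS _ hr
    show ρW _ u = ρW _ u
    rw [(mem_chEigen ρW).mp hu _ hb', (mem_chEigen ρW).mp hu _ ha, ← hyfix _ ha]
    congr 2
    exact Subtype.ext (by simp [hyc])
  refine ⟨hcS, hfix, ?_⟩
  -- the quotient by the radical
  set Rq := R.subgroupOf Q
  haveI hRqn : Rq.Normal := ⟨fun a ha g => hconjR _ (hQS g.2) _ ha⟩
  have hcommRq : ∀ a b : Q, ((a : Q ⧸ Rq) : Q ⧸ Rq) * b = (b : Q ⧸ Rq) * a := by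
    intro a b
    rw [← QuotientGroup.mk_mul, ← QuotientGroup.mk_mul, QuotientGroup.eq]
    show (((a * b)⁻¹ * (b * a) : Q) : Γ) ∈ rad S hW
    refine mem_rad.mpr ⟨((a * b)⁻¹ * (b * a)).2, fun t ht => ?_⟩
    have hz : ((a : Γ) * b)⁻¹ * ((b : Γ) * a) ∈ Z := by
      have := S.comm _ (Q.inv_mem a.2) _ (Q.inv_mem b.2)
      rwa [show ⁅(b : Γ)⁻¹, (a : Γ)⁻¹⁆ = ((a : Γ) * b)⁻¹ * ((b : Γ) * a) by
        simp only [commutatorElement_def]; group] at this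
    have h1 : t * (((a * b)⁻¹ * (b * a) : Q) : Γ) = (((a * b)⁻¹ * (b * a) : Q) : Γ) * t :=
      S.central _ hz t ht
    rw [commutatorElement_eq_one_iff_mul_comm.mpr h1]
    exact (ch_mul ρ hW).1
  letI : CommGroup (Q ⧸ Rq) := { (inferInstance : Group (Q ⧸ Rq)) with
    mul_comm := fun a b => by
      obtain ⟨a, rfl⟩ := QuotientGroup.mk_surjective a
      obtain ⟨b, rfl⟩ := QuotientGroup.mk_surjective b
      exact hcommRq a b }
  let cQ : Q →* Q :=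
    { toFun := fun a => ⟨c * a * c⁻¹, (Subgroup.mem_normalizer_iff.mp hcS.1 a).mp a.2⟩
      map_one' := Subtype.ext (by simp)
      map_mul' := fun a b => Subtype.ext (by simp [mul_assoc]) }
  let φ : Q ⧸ Rq →* Q ⧸ Rq := QuotientGroup.map Rq Rq cQ (fun a ha => hconjR _ hcS _ ha)
  have hφ : ∀ a : Q, φ a = (cQ a : Q) := fun a => rfl
  have hφn : ∀ (n : ℕ) (a : Q), ∃ h, (φ^[n]) a = ((⟨c ^ n * a * (c ^ n)⁻¹, h⟩ : Q) : Q ⧸ Rq) := by
    intro n
    induction n with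
    | zero => intro a; exact ⟨by simp, by simp⟩
    | succ n ih =>
      intro a
      obtain ⟨h, e⟩ := ih a
      refine ⟨(Subgroup.mem_normalizer_iff.mp (Subgroup.pow_mem _ hcS.1 _) a).mp a.2, ?_⟩
      rw [Function.iterate_succ_apply', e, hφ]
      congr 1
      apply Subtype.ext
      show c * (c ^ n * a * (c ^ n)⁻¹) * c⁻¹ = c ^ (n + 1) * a * (c ^ (n + 1))⁻¹
      rw [pow_succ']; group
  have hφp : ∀ u, φ^[p] u = u := by
    intro u
    obtain ⟨a, rfl⟩ := QuotientGroup.mk_surjective u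
    obtain ⟨h, e⟩ := hφn p a
    rw [e]; congr 1; exact Subtype.ext (by simp [hcp])
  let f : Q ⧸ Rq →* Q ⧸ Rq := φ / MonoidHom.id _
  have hf : ∀ u, f u = φ u / u := fun u => rfl
  let N : Q ⧸ Rq → Q ⧸ Rq := fun u => ∏ i ∈ Finset.range p, φ^[i] u
  have hNφ : ∀ u, N (φ u) = N u := by
    intro u
    have h1 : (∏ i ∈ Finset.range p, φ^[i] (φ u)) * φ^[0] u = (∏ i ∈ Finset.range p, φ^[i] u) * φ^[p] u := by
      rw [← Finset.prod_range_succ (fun i => φ^[i] u) p, Finset.prod_range_succ']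
      congr 1
    rw [hφp] at h1
    exact mul_right_cancel h1
  have hNf : ∀ u, N (f u) = 1 := fun u => by
    have : ∀ i, φ^[i] (φ u / u) = φ^[i] (φ u) / φ^[i] u := by
      intro i
      induction i with
      | zero => rfl
      | succ i ih => rw [Function.iterate_succ_apply', Function.iterate_succ_apply', Function.iterate_succ_apply', ih, map_div]
    show ∏ i ∈ Finset.range p, φ^[i] (f u) = 1
    simp only [hf, this, Finset.prod_div_distrib]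
    exact div_eq_one.mpr (hNφ u)
  have hcopQ : (Nat.card (Q ⧸ Rq)).Coprime p := by
    refine ((hp.out.coprime_iff_not_dvd.mpr fun hd => S.coprime ?_)).symm
    exact hd.trans Rq.card_quotient_dvd_card
  -- the commutator part
  let Q1 : Subgroup Γ :=
    (f.range.comap (QuotientGroup.mk' Rq)).map Q.subtype
  have hQ1Q : Q1 ≤ Q := Subgroup.map_subtype_le _
  have hRQ1 : R ≤ Q1 := fun r hr => ⟨⟨r, hRQ hr⟩,
    show QuotientGroup.mk' Rq ⟨r, hRQ hr⟩ ∈ f.range by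
      rw [show QuotientGroup.mk' Rq ⟨r, hRQ hr⟩ = 1 from (QuotientGroup.eq_one_iff _).mpr hr]
      exact f.range.one_mem, rfl⟩
  have hQ1mem : ∀ g : Q, (g : Γ) ∈ Q1 ↔ (g : Q ⧸ Rq) ∈ f.range := fun g =>
    ⟨fun ⟨a, ha, e⟩ => by rw [← Subtype.ext e]; exact ha, fun h => ⟨g, h, rfl⟩⟩
  have hQ1c : ∀ g ∈ Q, g⁻¹ * (c * g * c⁻¹) ∈ Q1 := by
    intro g hg
    refine (hQ1mem ((⟨g, hg⟩ : Q)⁻¹ * cQ ⟨g, hg⟩)).mpr ⟨((⟨g, hg⟩ : Q) : Q ⧸ Rq), ?_⟩
    rw [hf, hφ, div_eq_inv_mul]; rfl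
  -- fixed points in the commutator part are trivial
  have hfpf : ∀ g ∈ Q1, g⁻¹ * (c * g * c⁻¹) ∈ R → g ∈ R := by
    intro g hg hgc
    have hgQ := hQ1Q hg
    set u : Q ⧸ Rq := ((⟨g, hgQ⟩ : Q) : Q ⧸ Rq) with hu
    have hφu : φ u = u := by
      rw [hu, hφ, eq_comm, QuotientGroup.eq]
      exact hgc
    obtain ⟨w, hw⟩ := (hQ1mem ⟨g, hgQ⟩).mp hg
    have h1 : N u = u ^ p := by
      have : ∀ i, φ^[i] u = u := fun i => Function.IsFixedPt.iterate hφu i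
      show ∏ i ∈ Finset.range p, φ^[i] u = u ^ p
      simp [this]
    rw [show N u = 1 by rw [show u = f w from hw.symm]; exact hNf w] at h1
    have h2 : orderOf u ∣ Nat.gcd (Nat.card (Q ⧸ Rq)) p :=
      Nat.dvd_gcd (orderOf_dvd_natCard u) (orderOf_dvd_of_pow_eq_one h1.symm)
    rw [hcopQ.gcd_eq_one, Nat.dvd_one, orderOf_eq_one_iff] at h2
    rw [hu] at h2
    exact (QuotientGroup.eq_one_iff (⟨g, hgQ⟩ : Q)).mp h2
  by_cases hQ1R : Q1 = R
  · exact Or.inl fun g hg => hQ1R ▸ hQ1c g hg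
  refine Or.inr ?_
  -- the form is non-degenerate on the commutator part
  have hnd : ∀ g ∈ Q1, g ∉ R → ∃ t ∈ Q1, ω ⁅t, g⁆ ≠ 1 := by
    intro g hg hgR
    by_contra hcon
    push Not at hcon
    apply hgR
    have hgQ := hQ1Q hg
    -- the pairing with `g` is a character of `Q ⧸ Rq`
    let β : Q →* K :=
      { toFun := fun t => ω ⁅(t : Γ), g⁆
        map_one' := by rw [Subgroup.coe_one, commutatorElement_one_left, (ch_mul ρ hW).1]
        map_mul' := fun a b => by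
          have h := S.central _ (S.comm g hgQ _ b.2) (a : Γ) a.2
          rw [show ⁅((a * b : Q) : Γ), g⁆ = (a : Γ) * ⁅(b : Γ), g⁆ * (a : Γ)⁻¹ * ⁅(a : Γ), g⁆ by
              simp only [Subgroup.coe_mul, commutatorElement_def]; group, h, mul_inv_cancel_right,
            (ch_mul ρ hW).2 _ (S.comm g hgQ _ b.2) _ (S.comm g hgQ _ a.2), mul_comm] }
    have hβR : Rq ≤ β.ker := by
      intro a ha
      rw [MonoidHom.mem_ker]
      show ω ⁅(a : Γ), g⁆ = 1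
      have h1 := (mem_rad.mp (show (a : Γ) ∈ R from ha)).2 g hgQ
      have h2 := ch_inv ρ hW (S.comm (a : Γ) a.2 g hgQ)
      rw [commutatorElement_inv, h1, one_mul] at h2
      exact h2
    let βb : Q ⧸ Rq →* K := QuotientGroup.lift Rq β hβR
    have hker : ∀ w ∈ f.range, βb w = 1 := by
      intro w hw
      obtain ⟨a, rfl⟩ := QuotientGroup.mk_surjective w
      exact hcon a ((hQ1mem a).mpr hw)
    refine mem_rad.mpr ⟨hgQ, fun t ht => ?_⟩
    set u : Q ⧸ Rq := ((⟨t, ht⟩ : Q) : Q ⧸ Rq) with hu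
    have h1 : ∀ i, βb (φ^[i] u) = βb u := by
      intro i
      induction i with
      | zero => rfl
      | succ i ih =>
        rw [Function.iterate_succ_apply', ← ih]
        have := hker (f (φ^[i] u)) ⟨_, rfl⟩
        rw [hf, div_eq_inv_mul, map_mul] at this
        have h3 : βb (φ^[i] u) * βb (φ^[i] u)⁻¹ = 1 := by rw [← map_mul, mul_inv_cancel, map_one]
        calc βb (φ (φ^[i] u)) = (βb (φ^[i] u) * βb (φ^[i] u)⁻¹) * βb (φ (φ^[i] u)) := by rw [h3, one_mul]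
          _ = βb (φ^[i] u) := by rw [mul_assoc, this, mul_one]
    -- the pairing kills fixed points of `c`
    have h2 : βb (N u) = 1 := by
      obtain ⟨a, ha⟩ := QuotientGroup.mk_surjective (N u)
      rw [← ha]
      show ω ⁅(a : Γ), g⁆ = 1
      have hfa : φ (a : Q ⧸ Rq) = a := by
        rw [ha, map_prod]
        refine Eq.trans (Finset.prod_congr rfl fun i _ => ?_) (hNφ u)
        exact (Function.iterate_succ_apply' φ i u).symm.trans (Function.iterate_succ_apply φ i u)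
      obtain ⟨w, hw⟩ := (hQ1mem ⟨g, hgQ⟩).mp hg
      obtain ⟨e, rfl⟩ := QuotientGroup.mk_surjective w
      -- `ω ⁅a, -⁆` is invariant under `c`
      let γ : Q →* K :=
        { toFun := fun t => ω ⁅(a : Γ), (t : Γ)⁆
          map_one' := by rw [Subgroup.coe_one, commutatorElement_one_right, (ch_mul ρ hW).1]
          map_mul' := fun s t => by
            rw [Subgroup.coe_mul, comm_mul S a.2 s.2 t.2, (ch_mul ρ hW).2 _ (S.comm _ s.2 _ a.2) _
              (S.comm _ t.2 _ a.2)] }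
      have hγR : Rq ≤ γ.ker := fun r hr => MonoidHom.mem_ker.mpr ((mem_rad.mp (show (r : Γ) ∈ R from hr)).2 _ a.2)
      let γb : Q ⧸ Rq →* K := QuotientGroup.lift Rq γ hγR
      show γb ((⟨g, hgQ⟩ : Q) : Q ⧸ Rq) = 1
      rw [← hw, hf, div_eq_inv_mul, map_mul, hφ]
      have hinv : γb (cQ e : Q) = γb (e : Q ⧸ Rq) := by
        show ω ⁅(a : Γ), c * (e : Γ) * c⁻¹⁆ = ω ⁅(a : Γ), (e : Γ)⁆
        have hd : (cQ a)⁻¹ * a ∈ Rq := by
          rw [hφ] at hfa; exact QuotientGroup.eq.mp hfa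
        have hr : (⁅((cQ a)⁻¹ * a : Q), cQ e⁆ : Q) = (⁅((cQ a)⁻¹ * a : Q), cQ e⁆ : Q) := rfl
        have h5 := (mem_rad.mp (show (((cQ a)⁻¹ * a : Q) : Γ) ∈ R from hd)).2 _ (cQ e).2
        set d : Γ := (((cQ a)⁻¹ * a : Q) : Γ) with hdd
        have hdQ : d ∈ Q := ((cQ a)⁻¹ * a).2
        have h6 := ch_inv ρ hW (S.comm d hdQ _ (cQ e).2)
        rw [commutatorElement_inv, h5, one_mul] at h6
        have e1 : (a : Γ) = (cQ a : Γ) * d := by rw [hdd]; simp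
        have hz := S.central _ (S.comm (cQ e : Γ) (cQ e).2 d hdQ) (cQ a : Γ) (cQ a).2
        calc ω ⁅(a : Γ), c * (e : Γ) * c⁻¹⁆
            = ω ((cQ a : Γ) * ⁅d, (cQ e : Γ)⁆ * (cQ a : Γ)⁻¹ * ⁅(cQ a : Γ), (cQ e : Γ)⁆) := by
              rw [e1]; congr 1
              show ⁅(cQ a : Γ) * d, (cQ e : Γ)⁆ = _
              simp only [commutatorElement_def]; group
          _ = ω ⁅(cQ a : Γ), (cQ e : Γ)⁆ := by
              rw [hz, mul_inv_cancel_right, (ch_mul ρ hW).2 _ (S.comm _ (cQ e).2 _ hdQ) _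
                (S.comm _ (cQ e).2 _ (cQ a).2), h6, one_mul]
          _ = _ := by
              show ω ⁅c * (a : Γ) * c⁻¹, c * (e : Γ) * c⁻¹⁆ = _
              rw [show ⁅c * (a : Γ) * c⁻¹, c * (e : Γ) * c⁻¹⁆ = c * ⁅(a : Γ), (e : Γ)⁆ * c⁻¹ by
                simp only [commutatorElement_def]; group]
              exact hcS.2.2 _ (S.comm _ e.2 _ a.2)
      rw [hinv, ← map_mul, inv_mul_cancel, map_one]
    have h3 : βb u ^ p = 1 := by
      have : βb (N u) = βb u ^ p := by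
        show βb (∏ i ∈ Finset.range p, φ^[i] u) = _
        simp [map_prod, h1]
      rw [← this, h2]
    have h4 : (βb u - 1) ^ p = 0 := by rw [sub_pow_char, h3, one_pow, sub_self]
    exact sub_eq_zero.mp (eq_zero_of_pow_eq_zero h4)
  -- the counting theorem
  set h := p ^ (m - j + 1) with hh
  have hh2 : 2 ≤ h := le_trans hp.out.two_le (Nat.le_self_pow (by omega) p)
  have hpm : p ^ j * h = p ^ (m + 1) := by
    rw [hh, ← pow_add, show j + (m - j + 1) = m + 1 by omega]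
  have hQ1S : Q1 ≤ Γω := hQ1Q.trans hQS
  have hx'Q1 : ∀ g ∈ Q1, x' * g * x'⁻¹ ∈ Q1 := by
    intro g hg
    obtain ⟨w, hw⟩ := (hQ1mem ⟨g, hQ1Q hg⟩).mp hg
    obtain ⟨e, rfl⟩ := QuotientGroup.mk_surjective w
    rw [hf, hφ, div_eq_inv_mul, ← QuotientGroup.mk_inv, ← QuotientGroup.mk_mul, QuotientGroup.eq] at hw
    have h1 : x' * (((e⁻¹ * cQ e)⁻¹ * ⟨g, hQ1Q hg⟩ : Q) : Γ) * x'⁻¹ ∈ R := hconjR _ hx'S _ hw
    have he' : x' * (e : Γ) * x'⁻¹ ∈ Q := (Subgroup.mem_normalizer_iff.mp hx'S.1 _).mp e.2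
    have h2 := hQ1c _ he'
    have hxc : Commute x' c := by rw [hx'def, hcdef]; exact Commute.pow_pow_self x _ _
    have e2 : (x' * (e : Γ) * x'⁻¹)⁻¹ * (c * (x' * (e : Γ) * x'⁻¹) * c⁻¹) =
        x' * ((e⁻¹ * cQ e : Q) : Γ) * x'⁻¹ := by
      show _ = x' * ((e : Γ)⁻¹ * (c * (e : Γ) * c⁻¹)) * x'⁻¹
      have h3 := hxc.eq
      have h4 := hxc.inv_left.inv_right.eq
      calc _ = x' * (e : Γ)⁻¹ * x'⁻¹ * ((c * x') * (e : Γ) * (x'⁻¹ * c⁻¹)) := by group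
        _ = x' * (e : Γ)⁻¹ * x'⁻¹ * ((x' * c) * (e : Γ) * (c⁻¹ * x'⁻¹)) := by rw [h3, h4]
        _ = _ := by group
    rw [e2] at h2
    have h3 := Q1.mul_mem h2 (hRQ1 h1)
    convert h3 using 1
    simp [mul_assoc]
  have hZR : Z ≤ R := fun z hz => mem_rad.mpr ⟨S.le hz, fun t ht => by
    rw [commutatorElement_eq_one_iff_mul_comm.mpr (S.central z hz t ht)]; exact (ch_mul ρ hW).1⟩
  -- characters of the radical
  set R' := R.subgroupOf Γω
  set Q1' := Q1.subgroupOf Γω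
  set X : Γω := ⟨x', hx'S⟩
  have htop : ⨆ χ : Γω → K, chEigen ρW R' χ = ⊤ := by
    refine iSup_chEigen_eq_top ρW R' (fun a ha b hb => ?_) ?_
    · refine LinearMap.ext fun v => Subtype.ext ?_
      rw [Module.End.mul_apply, Module.End.mul_apply, coe_restr, coe_restr, coe_restr, coe_restr]
      have hb : (b : Γ) ∈ R := hb
      have ha : (a : Γ) ∈ R := ha
      have hc' : ⁅(a : Γ), (b : Γ)⁆ ∈ Z := S.comm _ (hRQ hb) _ (hRQ ha)
      have h2 : ρ ((a : Γ) * b) = ρ ⁅(a : Γ), (b : Γ)⁆ * ρ ((b : Γ) * a) := by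
        rw [← map_mul]; congr 1; simp only [commutatorElement_def]; group
      rw [← Module.End.mul_apply, ← map_mul, h2, Module.End.mul_apply,
        (mem_chEigen ρ).mp (apply_mem_chEigen ρ (hQS (Q.mul_mem (hRQ hb) (hRQ ha))).2.1
          (hQS (Q.mul_mem (hRQ hb) (hRQ ha))).2.2 v.2) _ hc',
        (mem_rad.mp hb).2 _ (hRQ ha), one_smul, map_mul, Module.End.mul_apply]
    · refine hpK _ fun hd => S.coprime ?_
      rw [Nat.card_congr (Subgroup.subgroupOfEquivOfLe (hRQ.trans hQS)).toEquiv] at hd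
      exact hd.trans (Subgroup.card_dvd_of_le hRQ)
  obtain ⟨χ, hχ⟩ : ∃ χ : Γω → K, chEigen ρW R' χ ≠ ⊥ := by
    by_contra hcon
    push Not at hcon
    exact bot_ne_top (α := Submodule K W) (by rw [← htop]; simp [hcon])
  have hXn : X ∈ Subgroup.normalizer (R' : Set Γω) := by
    refine Subgroup.mem_normalizer_iff.mpr fun a => ⟨fun ha => hconjR _ hx'S _ ha, fun ha => ?_⟩
    have := hconjR _ (inv_mem hx'S) _ (show x' * (a : Γ) * x'⁻¹ ∈ R from ha)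
    show (a : Γ) ∈ R
    simpa [mul_assoc] using this
  have hXh : X ^ p ^ (m - j + 1) = 1 := Subtype.ext (by
    show x' ^ p ^ (m - j + 1) = 1
    rw [hx'def, ← pow_mul, ← pow_add, show j + (m - j + 1) = m + 1 by omega, hx])
  obtain ⟨i, him, hi, hiker⟩ := orbit_bound ρW R' hXn hXh hχ (s := h - 1) (hnil _ (by
    rw [Nat.mul_sub_one, hpm]
    have : p ^ j ≤ p ^ (m + 1) := Nat.pow_le_pow_right hp.out.pos (by omega)
    have := pow_pos hp.out.pos j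
    omega)) le_rfl
  set k := m - j - i + 1 with hk
  have hji : m + 1 - k = j + i := by omega
  have hkm : k ≤ m + 1 := by omega
  have hk0 : k ≠ 0 := by omega
  have hpk : p ^ i * p ^ k = h := by rw [hh, ← pow_add]; congr 1; omega
  -- `χ` extends `ω`
  obtain ⟨u0, hu0, hu01⟩ := (Submodule.ne_bot_iff _).mp hχ
  have hχZ : ∀ z : Γω, (z : Γ) ∈ Z → χ z = ω (z : Γ) := fun z hz => by
    have h1 := congrArg Subtype.val ((mem_chEigen ρW).mp hu0 z (hZR hz))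
    rw [coe_restr, (mem_chEigen ρ).mp u0.2 _ hz] at h1
    exact (smul_left_injective K (fun e => hu01 (Subtype.ext e) : (u0 : V) ≠ 0) h1).symm
  have hQ1'S : Q1' ≤ stab Q1' R' χ := by
    intro g hg
    have hgR : ∀ r ∈ R', g * r * g⁻¹ ∈ R' := fun r hr => hconjR _ (hQS (hQ1Q hg)) _ hr
    refine mem_stab.mpr ⟨Subgroup.le_normalizer hg, Subgroup.mem_normalizer_iff.mpr fun r => ⟨hgR r, fun hr => ?_⟩, fun r hr => ?_⟩
    · have := hconjR _ (hQS (Q.inv_mem (hQ1Q hg))) _ (show (g : Γ) * r * (g : Γ)⁻¹ ∈ R from hr)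
      show (r : Γ) ∈ R
      simpa [mul_assoc] using this
    · have hr0 : (r : Γ) ∈ R := hr
      have hg0 : (g : Γ) ∈ Q1 := hg
      have hw1 : ω ⁅(g : Γ), (r : Γ)⁆ = 1 := (mem_rad.mp hr0).2 _ (hQ1Q hg0)
      have hz : (⁅g, r⁆ : Γω).1 ∈ Z := S.comm _ (hRQ hr) _ (hQ1Q hg)
      rw [show g * r * g⁻¹ = ⁅g, r⁆ * r by simp only [commutatorElement_def]; group,
        (ch_mul ρW hχ).2 _ (show ⁅g, r⁆ ∈ R' from hZR hz) _ hr, hχZ _ hz,
        show ((⁅g, r⁆ : Γω) : Γ) = ⁅(g : Γ), (r : Γ)⁆ from rfl, hw1, one_mul]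
  have hXQ1 : X ∈ Subgroup.normalizer (Q1' : Set Γω) := by
    have hmap : Q1.map (MulAut.conj x').toMonoidHom = Q1 := by
      refine Subgroup.eq_of_le_of_card_ge ?_ (Subgroup.card_map_of_injective (MulAut.conj x').injective).ge
      rintro _ ⟨g, hg, rfl⟩
      exact hx'Q1 g hg
    refine Subgroup.mem_normalizer_iff.mpr fun g => ⟨fun hg => hx'Q1 _ hg, fun hg => ?_⟩
    have hg' : x' * (g : Γ) * x'⁻¹ ∈ Q1 := hg
    rw [← hmap] at hg'
    obtain ⟨g', hg'', e⟩ := hg'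
    rw [MulEquiv.coe_toMonoidHom, MulAut.conj_apply] at e
    show (g : Γ) ∈ Q1
    rwa [show (g : Γ) = g' by simpa using e.symm]
  set Γ2 := stab Q1' R' χ with hΓ2
  set ρ2 := restr (ρ := ρW) Q1' R' χ with hρ2
  set y : Γ2 := ⟨X ^ p ^ i, mem_stab.mpr ⟨Subgroup.pow_mem _ hXQ1 _, Subgroup.pow_mem _ hXn _, hi⟩⟩ with hy
  have hyh : y ^ p ^ k = 1 := Subtype.ext (by
    show (X ^ p ^ i) ^ p ^ k = 1
    rw [← pow_mul, hpk, hh, hXh])
  haveI : Nontrivial ↥(chEigen ρW R' χ) := Submodule.nontrivial_iff_ne_bot.mpr hχ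
  have hnorm2 : ∀ (A : Subgroup Γω), X ∈ Subgroup.normalizer (A : Set Γω) →
      y ∈ Subgroup.normalizer ((A.subgroupOf Γ2 : Subgroup Γ2) : Set Γ2) := fun A hA =>
    Subgroup.mem_normalizer_iff.mpr fun g =>
      Subgroup.mem_normalizer_iff.mp (Subgroup.pow_mem _ hA (p ^ i)) (g : Γω)
  have hρ2sub : ∀ (n : ℕ) (v : ↥(chEigen ρW R' χ)),
      ((((ρ2 y - 1) ^ n) v : ↥(chEigen ρW R' χ)) : W) = ((ρW (X ^ p ^ i) - 1) ^ n) v := by
    intro n
    induction n with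
    | zero => intro v; rfl
    | succ n ih =>
      intro v
      rw [pow_succ, Module.End.mul_apply, pow_succ, Module.End.mul_apply, ih]
      congr 1
  have hnil2 : ∀ s' r, (ρW X - 1) ^ s' = 0 → s' ≤ p ^ i * r + (p ^ i - 1) → (ρ2 y - 1) ^ r = 0 :=
    fun s' r hs' hr => LinearMap.ext fun v => Subtype.ext (by
      rw [hρ2sub]; exact hiker s' r hs' hr v v.2)
  have hfree2 : ∀ t, 0 < t → t < p ^ k → ∀ g ∈ Q1'.subgroupOf Γ2,
      g⁻¹ * (y ^ t * g * (y ^ t)⁻¹) ∈ R'.subgroupOf Γ2 → g ∈ R'.subgroupOf Γ2 := by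
    intro t ht htk g hg hgt
    refine hfpf _ hg ?_
    -- `c` is a power of `y ^ t`
    set z : Γ := ((((y ^ t : Γ2)) : Γω) : Γ) with hz
    obtain ⟨a, u, hu, e⟩ := Nat.exists_eq_pow_mul_and_not_dvd ht.ne' p hp.out.ne_one
    have hak : a < k := by
      by_contra hak
      have h1 : p ^ k ≤ p ^ a := Nat.pow_le_pow_right hp.out.pos (not_lt.mp hak)
      have h2 : p ^ a ≤ p ^ a * u := Nat.le_mul_of_pos_right _ (Nat.pos_of_ne_zero fun e0 => hu (e0 ▸ dvd_zero p))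
      omega
    have hz1 : z = (x' ^ (p ^ i * p ^ a)) ^ u := by
      rw [hz, e]
      simp [hy, X, ← pow_mul, mul_assoc]
    have hord : orderOf (x' ^ (p ^ i * p ^ a)) ∣ p ^ k := by
      refine orderOf_dvd_of_pow_eq_one ?_
      rw [← pow_mul, show p ^ i * p ^ a * p ^ k = h * p ^ a by rw [← hpk]; ring, pow_mul,
        show x' ^ h = 1 from congrArg Subtype.val hXh, one_pow]
    obtain ⟨n, hn⟩ : ∃ n : ℕ, z ^ n = x' ^ (p ^ i * p ^ a) := by
      rw [hz1]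
      exact exists_pow_eq_self_of_coprime ((((hp.out.coprime_iff_not_dvd.mpr hu).symm.pow_right k)).coprime_dvd_right hord)
    have hc : c = z ^ (n * p ^ (k - 1 - a)) := by
      rw [pow_mul, hn, ← pow_mul, hcx']
      congr 1
      rw [← pow_add, ← pow_add]; congr 1; omega
    have hzS : z ∈ Γω := ((y ^ t : Γ2) : Γω).2
    have hpow : ∀ N : ℕ, (g : Γω).1⁻¹ * (z ^ N * (g : Γω).1 * (z ^ N)⁻¹) ∈ R := by
      intro N
      induction N with
      | zero => simp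
      | succ N ih =>
        have h1 : (g : Γω).1⁻¹ * (z * (g : Γω).1 * z⁻¹) ∈ R := hgt
        have h2 := R.mul_mem h1 (hconjR _ hzS _ ih)
        rw [pow_succ']
        convert h2 using 1
        group
    rw [hc]
    exact hpow _
  have hcount : ∀ r, (ρ2 y - 1) ^ r = 0 → ∃ d : ℕ, d * d = R.relIndex Q1 ∧ p ^ k ∣ d * d - 1 ∧
      d * d * p ^ k ≤ r * (p ^ k + (d * d - 1)) ∧
      ∀ k', p ^ k = 2 ^ (k' + 1) → CharP K 2 → d ≤ 1 ∨ 2 * (2 ^ k' * 2 ^ k') ≤ d * d + 1 := by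
    intro r hr
    obtain ⟨d, hd, h1, h2⟩ := hallHigman_modular_two ρ2 (Q1'.subgroupOf Γ2) (R'.subgroupOf Γ2) y
      (h := p ^ k) (le_trans hp.out.two_le (Nat.le_self_pow (by omega) p)) hyh (hnorm2 _ hXQ1) (hnorm2 _ hXn)
      (fun g hg t ht => hZR (S.comm _ (hQ1Q hg) _ (hQ1Q ht))) (fun g => χ (g : Γω))
      (fun r hr => LinearMap.ext fun v => Subtype.ext ((mem_chEigen ρW).mp v.2 _ hr))
      (fun r hr => hi _ hr)
      (fun g hg hgR => by
        obtain ⟨t, ht, hne⟩ := hnd _ hg hgR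
        refine ⟨⟨⟨t, hQ1S ht⟩, hQ1'S ht⟩, ht, ?_⟩
        rw [hχZ _ (S.comm _ (hQ1Q hg) _ (hQ1Q ht))]
        exact hne)
      (fun g hg => hRQ1 hg) hfree2 hr
    refine ⟨d, ?_, h1, h2⟩
    rw [hd, Subgroup.relIndex_subgroupOf hQ1'S, Subgroup.relIndex_subgroupOf hQ1S]
  have hpi := pow_pos hp.out.pos i
  obtain ⟨d, hd, hdvd, hineq, hhalf⟩ := hcount (p ^ k - 1) (hnil2 (h - 1) _ (hnil _ (by
    rw [Nat.mul_sub_one, hpm]
    have : p ^ j ≤ p ^ (m + 1) := Nat.pow_le_pow_right hp.out.pos (by omega)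
    omega)) (by
    rw [Nat.mul_sub_one, hpk]
    have : p ^ i ≤ h := hpk ▸ Nat.le_mul_of_pos_right _ (pow_pos hp.out.pos k)
    omega))
  have hd1 : 1 < d := by
    rcases Nat.lt_or_ge 1 d with hlt | hle
    · exact hlt
    exfalso
    interval_cases d
    · exact absurd hd.symm (Subgroup.index_ne_zero_of_finite (H := R.subgroupOf Q1))
    · exact hQ1R (le_antisymm (Subgroup.relIndex_eq_one.mp (by rw [← hd])) hRQ1)
  obtain ⟨hde, hmin⟩ : d + 1 = p ^ k ∧ ∀ r, d * d * p ^ k ≤ r * (p ^ k + (d * d - 1)) → p ^ k - 1 ≤ r :=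
    arith_all hp.out (by omega) hd1 hdvd hineq (fun e => by
      subst e
      exact (hhalf (k - 1) (by rw [show k - 1 + 1 = k by omega]) inferInstance).resolve_left (by omega))
  obtain ⟨b, hqd⟩ : ∃ b, d = q ^ b := by
    obtain ⟨e, he⟩ := IsPGroup.iff_card.mp (hQ.to_le hQ1Q)
    have h1 : d ∣ q ^ e := he ▸ (Dvd.intro _ hd).trans (Subgroup.relIndex_dvd_card R Q1)
    obtain ⟨b, -, hb⟩ := (Nat.dvd_prime_pow hq.out).mp h1
    exact ⟨b, hb⟩
  have hb0 : b ≠ 0 := fun e => by rw [e, pow_zero] at hqd; omega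
  have hxz : x ^ p ^ (m + 1 - k) = x' ^ p ^ i := by rw [hji, pow_add, pow_mul]
  refine ⟨k, b, by omega, hkm, hb0, by rw [← hqd, hde], ?_, ?_, Q1, hRQ1, hQ1Q, hQ1c, by rw [← hd, hqd]⟩
  · rw [hxz]
    exact Subgroup.pow_mem _ hx'S _
  intro g hg hgfix
  rw [hxz]
  -- a fixed element commutes with the commutator part
  have hperp : ∀ a ∈ Q1, ω ⁅g, a⁆ = 1 := by
    intro a ha
    obtain ⟨w, hw⟩ := (hQ1mem ⟨a, hQ1Q ha⟩).mp ha
    obtain ⟨e', rfl⟩ := QuotientGroup.mk_surjective w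
    let γ : Q →* K :=
      { toFun := fun t => ω ⁅g, (t : Γ)⁆
        map_one' := by rw [Subgroup.coe_one, commutatorElement_one_right, (ch_mul ρ hW).1]
        map_mul' := fun s t => by
          rw [Subgroup.coe_mul, comm_mul S hg s.2 t.2, (ch_mul ρ hW).2 _ (S.comm _ s.2 _ hg) _
            (S.comm _ t.2 _ hg)] }
    have hγR : Rq ≤ γ.ker := fun r hr => MonoidHom.mem_ker.mpr ((mem_rad.mp (show (r : Γ) ∈ R from hr)).2 _ hg)
    let γb : Q ⧸ Rq →* K := QuotientGroup.lift Rq γ hγR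
    show γb ((⟨a, hQ1Q ha⟩ : Q) : Q ⧸ Rq) = 1
    rw [← hw, hf, div_eq_inv_mul, map_mul, hφ]
    suffices hinv : γb (cQ e' : Q) = γb (e' : Q ⧸ Rq) by rw [hinv, ← map_mul, inv_mul_cancel, map_one]
    show ω ⁅g, c * (e' : Γ) * c⁻¹⁆ = ω ⁅g, (e' : Γ)⁆
    set d' := g⁻¹ * (c * g * c⁻¹) with hd'
    have hd'Q : d' ∈ Q := (mem_rad.mp hgfix).1
    have hce : c * (e' : Γ) * c⁻¹ ∈ Q := (cQ e').2
    have h5 := (mem_rad.mp hgfix).2 _ hce
    have h6 := ch_inv ρ hW (S.comm d' hd'Q _ hce)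
    rw [commutatorElement_inv, h5, one_mul] at h6
    have h7 : ω ⁅c * g * c⁻¹, c * (e' : Γ) * c⁻¹⁆ = ω ⁅g, c * (e' : Γ) * c⁻¹⁆ := by
      have hz := S.central _ (S.comm (c * (e' : Γ) * c⁻¹) hce d' hd'Q) g hg
      rw [show ⁅c * g * c⁻¹, c * (e' : Γ) * c⁻¹⁆ =
          g * ⁅d', c * (e' : Γ) * c⁻¹⁆ * g⁻¹ * ⁅g, c * (e' : Γ) * c⁻¹⁆ by
        simp only [hd', commutatorElement_def]; group, hz, mul_inv_cancel_right,
        (ch_mul ρ hW).2 _ (S.comm _ hce _ hd'Q) _ (S.comm _ hce _ hg), h6, one_mul]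
    rw [← h7, show ⁅c * g * c⁻¹, c * (e' : Γ) * c⁻¹⁆ = c * ⁅g, (e' : Γ)⁆ * c⁻¹ by
      simp only [commutatorElement_def]; group]
    exact hcS.2.2 _ (S.comm _ e'.2 _ hg)
  -- elements of `Q` act on the eigenspace
  have hQχ : ∀ t, ∀ ht : t ∈ Q, (⟨t, hQS ht⟩ : Γω) ∈ stab Q1' R' χ := by
    intro t ht
    have hgR : ∀ s, s ∈ Q → ∀ r ∈ R', (s * (r : Γω).1 * s⁻¹) ∈ R := fun s hs r hr => hconjR _ (hQS hs) _ hr
    have hQ1n : ∀ s, s ∈ Q → ∀ a ∈ Q1, s * a * s⁻¹ ∈ Q1 := by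
      intro s hs a ha
      have hz : ⁅s, a⁆ ∈ Z := S.comm a (hQ1Q ha) s hs
      rw [show s * a * s⁻¹ = ⁅s, a⁆ * a by simp only [commutatorElement_def]; group]
      exact Q1.mul_mem (hRQ1 (hZR hz)) ha
    refine mem_stab.mpr ⟨Subgroup.mem_normalizer_iff.mpr fun r => ⟨fun hr => hQ1n t ht _ hr, fun hr => ?_⟩,
      Subgroup.mem_normalizer_iff.mpr fun r => ⟨fun hr => hgR t ht r hr, fun hr => ?_⟩, fun r hr => ?_⟩
    · have := hQ1n _ (Q.inv_mem ht) _ (show t * (r : Γ) * t⁻¹ ∈ Q1 from hr)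
      show (r : Γ) ∈ Q1
      simpa [mul_assoc] using this
    · have := hconjR _ (hQS (Q.inv_mem ht)) _ (show t * (r : Γ) * t⁻¹ ∈ R from hr)
      show (r : Γ) ∈ R
      simpa [mul_assoc] using this
    · have hr0 : (r : Γ) ∈ R := hr
      have hw1 : ω ⁅t, (r : Γ)⁆ = 1 := (mem_rad.mp hr0).2 _ ht
      have hz : ⁅t, (r : Γ)⁆ ∈ Z := S.comm _ (hRQ hr0) _ ht
      rw [show (⟨t, hQS ht⟩ : Γω) * r * (⟨t, hQS ht⟩ : Γω)⁻¹ = ⁅(⟨t, hQS ht⟩ : Γω), r⁆ * r by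
          simp only [commutatorElement_def]; group,
        (ch_mul ρW hχ).2 _ (show ⁅(⟨t, hQS ht⟩ : Γω), r⁆ ∈ R' from hZR hz) _ hr, hχZ _ hz,
        show ((⁅(⟨t, hQS ht⟩ : Γω), r⁆ : Γω) : Γ) = ⁅t, (r : Γ)⁆ from rfl, hw1, one_mul]
  set g2 : Γ2 := ⟨⟨g, hQS hg⟩, hQχ g hg⟩ with hg2
  set n2 := ρ2 y - 1 with hn2
  set Zy := ρ2 y with hZy
  set Zy' := ρ2 y⁻¹ with hZy'
  have hZZ' : Zy * Zy' = 1 := by rw [hZy, hZy', ← map_mul, mul_inv_cancel, map_one]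
  have hZ'Z : Zy' * Zy = 1 := by rw [hZy, hZy', ← map_mul, inv_mul_cancel, map_one]
  -- the commutator part
  let Cm : Module.End K ↥(chEigen ρW R' χ) → Prop := fun D =>
    ∀ a : Γ2, (a : Γω) ∈ Q1' → D * ρ2 a = ρ2 a * D
  let Δ : Module.End K ↥(chEigen ρW R' χ) → Module.End K ↥(chEigen ρW R' χ) := fun D => Zy * D * Zy' - D
  have hΔCm : ∀ D, Cm D → Cm (Δ D) := by
    intro D hD a ha
    have hya : ((y⁻¹ * a * y : Γ2) : Γω) ∈ Q1' := by
      have := (Subgroup.mem_normalizer_iff.mp (hnorm2 _ hXQ1) (y⁻¹ * a * y)).mpr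
        (show y * (y⁻¹ * a * y) * y⁻¹ ∈ Q1'.subgroupOf Γ2 by
          rw [show y * (y⁻¹ * a * y) * y⁻¹ = a by group]; exact ha)
      exact this
    have h1 : Zy' * ρ2 a = ρ2 (y⁻¹ * a * y) * Zy' := by
      rw [hZy', ← map_mul, ← map_mul]; congr 1; group
    have h2 : Zy * ρ2 (y⁻¹ * a * y) = ρ2 a * Zy := by
      rw [hZy, ← map_mul, ← map_mul]; congr 1; group
    show (Zy * D * Zy' - D) * ρ2 a = ρ2 a * (Zy * D * Zy' - D)
    have h3 : Zy * D * Zy' * ρ2 a = ρ2 a * (Zy * D * Zy') := by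
      calc Zy * D * Zy' * ρ2 a = Zy * (D * ρ2 (y⁻¹ * a * y)) * Zy' := by rw [mul_assoc _ Zy', h1]; simp only [mul_assoc]
        _ = (Zy * ρ2 (y⁻¹ * a * y)) * D * Zy' := by rw [hD _ hya]; simp only [mul_assoc]
        _ = ρ2 a * (Zy * D * Zy') := by rw [h2]; simp only [mul_assoc]
    refine LinearMap.ext fun v => ?_
    simp only [Module.End.mul_apply, LinearMap.sub_apply, map_sub]
    exact congrArg₂ _ (LinearMap.congr_fun h3 v) (LinearMap.congr_fun (hD a ha) v)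
  have hB : Cm (ρ2 g2) := by
    intro a ha
    have h1 : g2 * a = ⁅g2, a⁆ * (a * g2) := by simp only [commutatorElement_def]; group
    have haQ : ((a : Γω) : Γ) ∈ Q := hQ1Q ha
    have hz : ((⁅g2, a⁆ : Γ2) : Γω) ∈ R' := by
      show ⁅g, ((a : Γω) : Γ)⁆ ∈ R
      exact hZR (S.comm _ haQ _ hg)
    have h2 : ρ2 ⁅g2, a⁆ = 1 := LinearMap.ext fun v => Subtype.ext (by
      have h3 := (mem_chEigen ρW).mp v.2 _ hz
      have hzZ : ((((⁅g2, a⁆ : Γ2) : Γω)) : Γ) ∈ Z := S.comm _ haQ _ hg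
      rw [hχZ _ hzZ] at h3
      rw [show ω ((((⁅g2, a⁆ : Γ2) : Γω)) : Γ) = 1 from hperp _ ha, one_smul] at h3
      exact h3)
    rw [← map_mul, h1, map_mul ρ2 ⁅g2, a⁆, h2, one_mul, map_mul]
  -- the conjugation is unipotent
  have hnil0 : n2 ^ (p ^ k - 1) = 0 := hnil2 (h - 1) _ (hnil _ (by
    rw [Nat.mul_sub_one, hpm]
    have : p ^ j ≤ p ^ (m + 1) := Nat.pow_le_pow_right hp.out.pos (by omega)
    omega)) (by
    rw [Nat.mul_sub_one, hpk]
    have : p ^ i ≤ h := hpk ▸ Nat.le_mul_of_pos_right _ (pow_pos hp.out.pos k)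
    omega)
  obtain ⟨t, ht⟩ : ∃ t, p ^ k - 1 = t + 1 := ⟨p ^ k - 2, by
    have := Nat.le_self_pow (show k ≠ 0 by omega) p
    have := hp.out.two_le; omega⟩
  have hcast : ((t + 1 : ℕ) : K) ≠ 0 := by
    rw [← ht, Nat.cast_sub (Nat.one_le_pow _ _ hp.out.pos)]
    simp [CharP.cast_eq_zero, show k ≠ 0 by omega]
  have hfix2 : Δ (ρ2 g2) = 0 := by
    by_contra hne
    obtain ⟨D', hCD', hD'0, hZD', hkill2⟩ := exists_fixed_of_nilpotent hZZ' hZ'Z Cm hΔCm hB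
      (t := t) (by rw [← ht]; exact hnil0) hcast hne
    have hnD' : Commute D' n2 := by
      refine LinearMap.ext fun v => ?_
      simp only [hn2, Module.End.mul_apply, LinearMap.sub_apply, map_sub, Module.End.one_apply]
      exact congrArg (· - D' v) (LinearMap.congr_fun hZD'.eq v)
    -- the image carries the same module
    let Γ3 : Subgroup Γ2 :=
      { carrier := {a | Commute (ρ2 a) D'}
        one_mem' := by show Commute (ρ2 1) D'; rw [map_one]; exact Commute.one_left _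
        mul_mem' := fun {a b} ha hb => by show Commute (ρ2 (a * b)) D'; rw [map_mul]; exact ha.mul_left hb
        inv_mem' := fun {a} ha => by
          show Commute (ρ2 a⁻¹) D'
          have h3 : ρ2 a⁻¹ * ρ2 a = 1 := by rw [← map_mul, inv_mul_cancel, map_one]
          have h4 : ρ2 a * ρ2 a⁻¹ = 1 := by rw [← map_mul, mul_inv_cancel, map_one]
          calc ρ2 a⁻¹ * D' = ρ2 a⁻¹ * D' * (ρ2 a * ρ2 a⁻¹) := by rw [h4, mul_one]
            _ = ρ2 a⁻¹ * (D' * ρ2 a) * ρ2 a⁻¹ := by simp only [mul_assoc]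
            _ = ρ2 a⁻¹ * (ρ2 a * D') * ρ2 a⁻¹ := by rw [(show Commute (ρ2 a) D' from ha).eq]
            _ = D' * ρ2 a⁻¹ := by rw [← mul_assoc, h3, one_mul] }
    have hQ13 : ∀ a : Γ2, (a : Γω) ∈ Q1' → a ∈ Γ3 := fun a ha => (hCD' a ha).symm
    have hy3 : y ∈ Γ3 := hZD'.symm
    have hR3 : ∀ a : Γ2, (a : Γω) ∈ R' → a ∈ Γ3 := fun a ha => hQ13 a (hRQ1 ha)
    obtain ⟨ρ3, hρ3, hρ3n⟩ := exists_restr_range (ρ2.comp Γ3.subtype) D' (fun a => a.2)
    haveI : Nontrivial ↥(LinearMap.range D') :=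
      Submodule.nontrivial_iff_ne_bot.mpr fun h0 => hD'0 (LinearMap.range_eq_bot.mp h0)
    have hs3 := hρ3n ⟨y, hy3⟩ t hkill2
    obtain ⟨d3, hd3, -, hineq3, -⟩ := hallHigman_modular_two ρ3 ((Q1'.subgroupOf Γ2).subgroupOf Γ3)
      ((R'.subgroupOf Γ2).subgroupOf Γ3) ⟨y, hy3⟩
      (h := p ^ k) (le_trans hp.out.two_le (Nat.le_self_pow (by omega) p)) (Subtype.ext hyh)
      (Subgroup.mem_normalizer_iff.mpr fun a => Subgroup.mem_normalizer_iff.mp (hnorm2 _ hXQ1) (a : Γ2))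
      (Subgroup.mem_normalizer_iff.mpr fun a => Subgroup.mem_normalizer_iff.mp (hnorm2 _ hXn) (a : Γ2))
      (fun a ha b hb => hZR (S.comm _ (hQ1Q ha) _ (hQ1Q hb))) (fun a => χ ((a : Γ2) : Γω))
      (fun r hr => LinearMap.ext fun v => Subtype.ext
        ((hρ3 r v).trans (show _ = χ ((r : Γ2) : Γω) • (v : ↥(chEigen ρW R' χ)) from
          Subtype.ext ((mem_chEigen ρW).mp (v : ↥(chEigen ρW R' χ)).2 _ hr))))
      (fun r hr => hi _ hr)
      (fun a ha haR => by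
        obtain ⟨t', ht', hne'⟩ := hnd _ ha haR
        refine ⟨⟨⟨⟨t', hQ1S ht'⟩, hQ1'S ht'⟩, hQ13 _ ht'⟩, ht', ?_⟩
        rw [hχZ _ (S.comm _ (hQ1Q ha) _ (hQ1Q ht'))]
        exact hne')
      (fun a ha => hRQ1 ha) (fun t' ht' htk a ha hat => hfree2 t' ht' htk (a : Γ2) ha hat) hs3
    have hd3' : d3 * d3 = d * d := by
      rw [hd3, hd, Subgroup.relIndex_subgroupOf (fun a ha => hQ13 a ha), Subgroup.relIndex_subgroupOf hQ1'S,
        Subgroup.relIndex_subgroupOf hQ1S]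
    have := hmin t (by rw [← hd3']; exact hineq3)
    omega
  -- hence the fixed element is fixed by the root
  have hfix3 : ρ2 (g2⁻¹ * (y * g2 * y⁻¹)) = 1 := by
    have h1 : Zy * ρ2 g2 * Zy' - ρ2 g2 = 0 := hfix2
    rw [map_mul, map_mul, map_mul, ← hZy, ← hZy', LinearMap.ext (fun v => sub_eq_zero.mp (LinearMap.congr_fun h1 v)),
      ← map_mul, inv_mul_cancel, map_one]
  set a := g⁻¹ * (x' ^ p ^ i * g * (x' ^ p ^ i)⁻¹) with ha
  have haQ : a ∈ Q :=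
    Q.mul_mem (Q.inv_mem hg) ((Subgroup.mem_normalizer_iff.mp (Subgroup.pow_mem _ hx'S.1 _) g).mp hg)
  have hga : ((((g2⁻¹ * (y * g2 * y⁻¹) : Γ2) : Γω)) : Γ) = a := by
    rw [ha, hg2, hy]; simp [X]
  refine mem_rad.mpr ⟨haQ, fun t ht => ?_⟩
  set t2 : Γ2 := ⟨⟨t, hQS ht⟩, hQχ t ht⟩
  have h1 : ρ2 ⁅t2, g2⁻¹ * (y * g2 * y⁻¹)⁆ = 1 := by
    rw [commutatorElement_def, map_mul, map_mul, map_mul, hfix3, mul_one,
      show ρ2 (g2⁻¹ * (y * g2 * y⁻¹))⁻¹ = 1 by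
        have h := map_mul ρ2 (g2⁻¹ * (y * g2 * y⁻¹)) (g2⁻¹ * (y * g2 * y⁻¹))⁻¹
        rw [mul_inv_cancel, map_one, hfix3, one_mul] at h
        exact h.symm, mul_one, ← map_mul, mul_inv_cancel, map_one]
  obtain ⟨v0, hv0, hv01⟩ := (Submodule.ne_bot_iff _).mp hχ
  have hzZ : ((((⁅t2, g2⁻¹ * (y * g2 * y⁻¹)⁆ : Γ2) : Γω)) : Γ) ∈ Z := by
    show ⁅t, ((((g2⁻¹ * (y * g2 * y⁻¹) : Γ2) : Γω)) : Γ)⁆ ∈ Z
    rw [hga]; exact S.comm _ haQ _ ht
  have h2 := congrArg Subtype.val (LinearMap.congr_fun h1 ⟨v0, hv0⟩)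
  have h3 := (mem_chEigen ρW).mp hv0 _ (show (((⁅t2, g2⁻¹ * (y * g2 * y⁻¹)⁆ : Γ2) : Γω)) ∈ R' from hZR hzZ)
  rw [hχZ _ hzZ, show ((((⁅t2, g2⁻¹ * (y * g2 * y⁻¹)⁆ : Γ2) : Γω)) : Γ) = ⁅t, a⁆ by
    show ⁅t, ((((g2⁻¹ * (y * g2 * y⁻¹) : Γ2) : Γω)) : Γ)⁆ = _
    rw [hga]] at h3
  have h4 : v0 = ω ⁅t, a⁆ • v0 := h2.symm.trans h3
  exact smul_left_injective K hv01 (h4.symm.trans (one_smul K v0).symm)

/-- For `p = 2` the exceptional element moves a plane and centralizes its complement. -/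
theorem section_data [IsAlgClosed K] [FiniteDimensional K V] {q : ℕ}
    [hq : Fact q.Prime] [CharP K 2] {Q Z : Subgroup Γ} (S : Setting 2 Q Z)
    (hQ : IsPGroup q Q) {x : Γ} (hxQ : x ∈ Subgroup.normalizer (Q : Set Γ))
    (hxZ : x ∈ Subgroup.normalizer (Z : Set Γ)) {m : ℕ} (hx : x ^ 2 ^ (m + 1) = 1) {s : ℕ}
    (hs : (ρ x - 1) ^ s = 0) (hsm : s ≤ 2 ^ (m + 1) - 1) {ω : Γ → K} (hW : chEigen ρ Z ω ≠ ⊥) :
    x ^ 2 ^ m ∈ stab Q Z ω ∧
    ((∀ g ∈ Q, g⁻¹ * (x ^ 2 ^ m * g * (x ^ 2 ^ m)⁻¹) ∈ rad S hW) ∨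
      ∃ k, 2 ≤ k ∧ k ≤ m + 1 ∧ q + 1 = 2 ^ k ∧ x ^ 2 ^ (m + 1 - k) ∈ stab Q Z ω ∧
        (∀ g ∈ Q, g⁻¹ * (x ^ 2 ^ m * g * (x ^ 2 ^ m)⁻¹) ∈ rad S hW →
          g⁻¹ * (x ^ 2 ^ (m + 1 - k) * g * (x ^ 2 ^ (m + 1 - k))⁻¹) ∈ rad S hW) ∧
        ∃ Q1 : Subgroup Γ, rad S hW ≤ Q1 ∧ Q1 ≤ Q ∧
          (∀ g ∈ Q, g⁻¹ * (x ^ 2 ^ m * g * (x ^ 2 ^ m)⁻¹) ∈ Q1) ∧
          (rad S hW).relIndex Q1 = q * q) := by
  haveI : Fact (Nat.Prime 2) := ⟨Nat.prime_two⟩
  obtain ⟨h1, -, h2⟩ := section_data_aux (p := 2) S hQ hxQ hxZ hx hs hsm hW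
  refine ⟨h1, h2.imp_right ?_⟩
  rintro ⟨k, b, hk0, hkm, hb, hpk, hxk, hzfix, Q1, hR1, hQ1, hc, hcard⟩
  rcases Cfsg.Agent.S3784.result 2 q k b Nat.prime_two hq.out (Nat.one_le_iff_ne_zero.mpr hk0)
    (Nat.one_le_iff_ne_zero.mpr hb) hpk with ⟨-, rfl, hkp, hqk⟩ | ⟨-, -, -, h⟩ | ⟨h, -⟩
  · exact ⟨k, hkp.two_le, hkm, hqk, hxk, hzfix, Q1, hR1, hQ1, hc, by rwa [pow_one] at hcard⟩
  · have : 2 ≤ 2 ^ b := Nat.le_self_pow hb 2
    omega
  · exfalso
    have h2 : 2 ∣ 9 := h ▸ dvd_pow_self 2 hk0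
    omega

end Cfsg.Agent.Grp.Bry

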