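import Mathlib
import Cfsg.Agent.Lib.Grp.BryTwo.Support
import Cfsg.Agent.Lib.Grp.BryTwo.Plane
import Cfsg.Agent.Lib.Invol.Critical
import Cfsg.Agent.Lib.Grp.Solvable
import Cfsg.Agent.Lib.Transfer.Cores
import Cfsg.Agent.Lib.Grp.GrossTwo.Lift
import Cfsg.Agent.S0205

/-!
The eigenspace sections of a representation and the action of the top powers on them.
-/

set_option autoImplicit false
set_option linter.style.haveILetI false
set_option linter.unusedSectionVars false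

namespace Cfsg.Agent.Grp.Bry

open Module Subgroup Cfsg.Agent.Grp.HHExc
open Cfsg.Agent.Grp.Gross (Form Isom mov mem_mov mov_one_eq_bot)
open scoped commutatorElement

universe u

variable {K : Type*} [Field K] {V : Type*} [AddCommGroup V] [Module K V] {Γ : Type u} [Group Γ] [Finite Γ]
  {ρ : Γ →* Module.End K V}

/-- An eigenspace section: a normal `r`-group of class two with the character of its centre. -/
structure Sec (ρ : Γ →* Module.End K V) where
  r : ℕ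
  Y : Subgroup Γ
  Z : Subgroup Γ
  ω : Γ → K
  prime : r.Prime
  odd : r ≠ 2
  nY : Y.Normal
  nZ : Z.Normal
  setting : Setting 2 Y Z
  pgroup : IsPGroup r Y
  pow : ∀ u ∈ Y, u ^ r ∈ Z
  ne : chEigen ρ Z ω ≠ ⊥

/-- The stabilizer. -/
def Sec.st (s : Sec ρ) : Subgroup Γ := stab s.Y s.Z s.ω

/-- The radical. -/
def Sec.rd (s : Sec ρ) : Subgroup Γ := rad s.setting s.ne

/-- The elements of the stabilizer acting trivially modulo the radical. -/
def Sec.ker (s : Sec ρ) : Subgroup Γ where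
  carrier := {g | g ∈ s.st ∧ ∀ u ∈ s.Y, u⁻¹ * (g * u * g⁻¹) ∈ s.rd}
  one_mem' := ⟨one_mem _, fun u _ => by simp⟩
  mul_mem' := fun {a b} ha hb => ⟨mul_mem ha.1 hb.1, fun u hu => by
    rw [show u⁻¹ * (a * b * u * (a * b)⁻¹) =
      (u⁻¹ * (a * u * a⁻¹)) * (a * (u⁻¹ * (b * u * b⁻¹)) * a⁻¹) by group]
    exact mul_mem (ha.2 u hu) (conj_mem_rad ha.1 (hb.2 u hu))⟩
  inv_mem' := fun {a} ha => ⟨inv_mem ha.1, fun u hu => by
    have h := inv_mem (ha.2 (a⁻¹ * u * a) (by simpa using s.nY.conj_mem u hu a⁻¹))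
    rw [show ((a⁻¹ * u * a)⁻¹ * (a * (a⁻¹ * u * a) * a⁻¹))⁻¹ = u⁻¹ * (a⁻¹ * u * a⁻¹⁻¹) by group] at h
    exact h⟩

/-- The conjugate section. -/
def Sec.conj (s : Sec ρ) (h : Γ) : Sec ρ where
  r := s.r
  Y := s.Y
  Z := s.Z
  ω := fun g => s.ω (h⁻¹ * g * h)
  prime := s.prime
  odd := s.odd
  nY := s.nY
  nZ := s.nZ
  setting := s.setting
  pgroup := s.pgroup
  pow := s.pow
  ne := by
    obtain ⟨v, hv, hv0⟩ := (Submodule.ne_bot_iff _).mp s.ne
    refine (Submodule.ne_bot_iff _).mpr ⟨ρ h v, apply_mem_chEigen ρ ?_ (fun z _ => ?_) hv, fun h0 => hv0 ?_⟩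
    · haveI := s.nZ
      rw [normalizer_eq_top]; exact mem_top h
    · show s.ω (h⁻¹ * (h * z * h⁻¹) * h) = s.ω z
      congr 1; group
    · rw [← coe_inv_apply ρ h v, h0, map_zero]

theorem Sec.conj_st (s : Sec ρ) {h g : Γ} (hg : g ∈ s.st) : h * g * h⁻¹ ∈ (s.conj h).st := by
  haveI := s.nY
  haveI := s.nZ
  refine mem_stab.mpr ⟨?_, ?_, fun z hz => ?_⟩
  · show _ ∈ normalizer (s.Y : Set Γ)
    rw [normalizer_eq_top]; exact mem_top _
  · show _ ∈ normalizer (s.Z : Set Γ)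
    rw [normalizer_eq_top]; exact mem_top _
  · show s.ω (h⁻¹ * (h * g * h⁻¹ * z * (h * g * h⁻¹)⁻¹) * h) = s.ω (h⁻¹ * z * h)
    rw [show h⁻¹ * (h * g * h⁻¹ * z * (h * g * h⁻¹)⁻¹) * h = g * (h⁻¹ * z * h) * g⁻¹ by group]
    exact hg.2.2 _ (by simpa using s.nZ.conj_mem z hz h⁻¹)

theorem Sec.conj_rd (s : Sec ρ) {h a : Γ} (ha : a ∈ s.rd) : h * a * h⁻¹ ∈ (s.conj h).rd := by
  refine mem_rad.mpr ⟨s.nY.conj_mem a (mem_rad.mp ha).1 h, fun t ht => ?_⟩
  show s.ω (h⁻¹ * ⁅t, h * a * h⁻¹⁆ * h) = 1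
  rw [show h⁻¹ * ⁅t, h * a * h⁻¹⁆ * h = ⁅h⁻¹ * t * h, a⁆ by simp only [commutatorElement_def]; group]
  exact (mem_rad.mp ha).2 _ (by simpa using s.nY.conj_mem t ht h⁻¹)

theorem Sec.conj_ker (s : Sec ρ) {h g : Γ} (hg : g ∈ s.ker) : h * g * h⁻¹ ∈ (s.conj h).ker := by
  refine ⟨s.conj_st hg.1, fun v hv => ?_⟩
  have h1 := s.conj_rd (h := h) (hg.2 (h⁻¹ * v * h) (by simpa using s.nY.conj_mem v hv h⁻¹))
  convert h1 using 1
  group

/-- The intersection of the stabilizers. -/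
def secStab (ρ : Γ →* Module.End K V) : Subgroup Γ := ⨅ s : Sec ρ, s.st

theorem mem_secStab {g : Γ} : g ∈ secStab ρ ↔ ∀ s : Sec ρ, g ∈ s.st := mem_iInf

instance secStab_normal (ρ : Γ →* Module.End K V) : (secStab ρ).Normal where
  conj_mem g hg h := mem_secStab.mpr fun s => by
    have h1 := (s.conj h⁻¹).conj_st (h := h) (mem_secStab.mp hg (s.conj h⁻¹))
    have he : ((s.conj h⁻¹).conj h).st = s.st := by
      unfold Sec.st
      show stab s.Y s.Z (fun g' => s.ω (h⁻¹⁻¹ * (h⁻¹ * g' * h) * h⁻¹)) = stab s.Y s.Z s.ω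
      congr 1
      funext g'
      congr 1
      group
    rwa [he] at h1

/-- Every two-element has nilpotency degree below the exponent. -/
def Def2 (ρ : Γ →* Module.End K V) (n : ℕ) : Prop :=
  ∀ x : Γ, IsPGroup 2 (zpowers x) → x ^ 2 ^ (n + 1) = 1 ∧ (ρ x - 1) ^ (2 ^ (n + 1) - 1) = 0

theorem pow_mem_secStab [IsAlgClosed K] [FiniteDimensional K V] [CharP K 2] {n : ℕ}
    (hdef : Def2 ρ n) {x : Γ} (hx : IsPGroup 2 (zpowers x)) : x ^ 2 ^ n ∈ secStab ρ := by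
  refine mem_secStab.mpr fun s => ?_
  haveI := s.nY
  haveI := s.nZ
  haveI := Fact.mk s.prime
  exact (section_data s.setting s.pgroup (by rw [normalizer_eq_top]; exact mem_top x)
    (by rw [normalizer_eq_top]; exact mem_top x) (hdef x hx).1 (hdef x hx).2 le_rfl s.ne).1

/-- The form and the action on a section, with the projection. -/
theorem Sec.exists_form [IsAlgClosed K] [FiniteDimensional K V] [CharP K 2] (s : Sec ρ) :
    ∃ (S : Type u) (_ : CommGroup S) (_ : Finite S) (β : S → S → K) (f : ↥s.Y →* S) (σ : s.st →* MulAut S),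
      Form s.r β ∧ (∀ d, Isom β (σ d)) ∧ (∀ d, σ d = 1 ↔ (d : Γ) ∈ s.ker) ∧ Function.Surjective f ∧
      f.ker = s.rd.subgroupOf s.Y ∧ (∀ a b : s.Y, β (f a) (f b) = s.ω ⁅(a : Γ), (b : Γ)⁆) ∧
      ∀ (d : s.st) (a b : s.Y), (b : Γ) = (d : Γ) * a * (d : Γ)⁻¹ → σ d (f a) = f b := by
  classical
  haveI := s.nY
  haveI := s.nZ
  haveI := Fact.mk s.prime
  have hrodd : Odd s.r := s.prime.odd_of_ne_two s.odd
  have hnY : ∀ g : Γ, g ∈ normalizer (s.Y : Set Γ) := fun g => by rw [normalizer_eq_top]; exact mem_top g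
  have hnZ : ∀ g : Γ, g ∈ normalizer (s.Z : Set Γ) := fun g => by rw [normalizer_eq_top]; exact mem_top g
  set R := s.rd with hR
  have hRY : R ≤ s.Y := fun a ha => (mem_rad.mp ha).1
  have hω1 := ch_mul ρ s.ne
  have hZR : ∀ z ∈ s.Z, z ∈ R := fun z hz => mem_rad.mpr ⟨s.setting.le hz, fun t ht => by
    rw [commutatorElement_eq_one_iff_mul_comm.mpr (s.setting.central z hz t ht)]; exact hω1.1⟩
  obtain ⟨S, _, _, f, σ, hfs, hfk, hσ⟩ := Cfsg.Agent.Grp.HHP.exists_section_action s.st s.Y R hRY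
    (fun a ha d hd' => hZR _ (s.setting.comm d hd' a ha)) (fun d _ => hnY d) (fun d hd a ha => conj_mem_rad hd ha)
  have hconj : ∀ (d : s.st) (a : s.Y), (d : Γ) * a * (d : Γ)⁻¹ ∈ s.Y := fun d a => s.nY.conj_mem _ a.2 _
  have hiff : ∀ (d : s.st) (a : s.Y), σ d (f a) = f a ↔ (a : Γ)⁻¹ * ((d : Γ) * a * (d : Γ)⁻¹) ∈ R := by
    intro d a
    rw [hσ d a ⟨_, hconj d a⟩ rfl, eq_comm, ← inv_mul_eq_one, ← map_inv, ← map_mul, ← MonoidHom.mem_ker, hfk]
    rfl
  have hσ1 : ∀ d : s.st, σ d = 1 ↔ (d : Γ) ∈ s.ker := fun d => by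
    refine ⟨fun h => ⟨d.2, fun u hu => (hiff d ⟨u, hu⟩).mp (by rw [h, MulAut.one_apply])⟩,
      fun h => MulEquiv.ext fun v => ?_⟩
    obtain ⟨a, rfl⟩ := hfs v
    exact (hiff d a).mpr (h.2 a a.2)
  have hmulR : ∀ a b e : s.Y, s.ω ⁅(a : Γ), ((b * e : s.Y) : Γ)⁆ =
      s.ω ⁅(a : Γ), (b : Γ)⁆ * s.ω ⁅(a : Γ), (e : Γ)⁆ := by
    intro a b e
    rw [Subgroup.coe_mul, comm_mul s.setting a.2 b.2 e.2,
      hω1.2 _ (s.setting.comm _ b.2 _ a.2) _ (s.setting.comm _ e.2 _ a.2)]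
  have hrad : ∀ a b : s.Y, f a = f b → ∀ e : s.Y, s.ω ⁅(e : Γ), (a : Γ)⁆ = s.ω ⁅(e : Γ), (b : Γ)⁆ := by
    intro a b hab e
    have hm : a⁻¹ * b ∈ f.ker := by rw [MonoidHom.mem_ker, map_mul, map_inv, hab, inv_mul_cancel]
    rw [hfk] at hm
    have := hmulR e a (a⁻¹ * b)
    rw [mul_inv_cancel_left, (mem_rad.mp (show ((a⁻¹ * b : s.Y) : Γ) ∈ R from hm)).2 e e.2, mul_one] at this
    exact this.symm
  have hswap : ∀ a b : s.Y, s.ω ⁅(a : Γ), (b : Γ)⁆ * s.ω ⁅(b : Γ), (a : Γ)⁆ = 1 := fun a b => by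
    have := ch_inv ρ s.ne (s.setting.comm (b : Γ) b.2 a a.2)
    rwa [commutatorElement_inv] at this
  have hradL : ∀ a b : s.Y, f a = f b → ∀ e : s.Y, s.ω ⁅(a : Γ), (e : Γ)⁆ = s.ω ⁅(b : Γ), (e : Γ)⁆ := by
    intro a b hab e
    have h1 := hswap a e
    rw [hrad a b hab e] at h1
    have h2 := hswap b e
    exact mul_right_cancel₀ (right_ne_zero_of_mul_eq_one h2) (h1.trans h2.symm)
  have hfs0 := hfs
  choose lift hlift using hfs
  set β : S → S → K := fun t t' => s.ω ⁅(lift t : Γ), (lift t' : Γ)⁆ with hβ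
  have hβf : ∀ a b : s.Y, β (f a) (f b) = s.ω ⁅(a : Γ), (b : Γ)⁆ := fun a b => by
    rw [hβ]
    exact (hradL _ a (hlift _) _).trans (hrad _ b (hlift _) _)
  have hF : Form s.r β := by
    refine ⟨fun t => ?_, fun a b e => ?_, fun a b e => ?_, fun a => ?_, fun a ha => ?_⟩
    · rw [← hlift t, ← map_pow, ← MonoidHom.mem_ker, hfk]
      exact hZR _ (s.pow _ (lift t).2)
    · rw [← hlift a, ← hlift b, ← hlift e, ← map_mul, hβf, hβf, hβf]
      have h1 := hswap (lift a * lift b) (lift e)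
      rw [hmulR] at h1
      have h2 := hswap (lift a) (lift e)
      have h3 := hswap (lift b) (lift e)
      have h4 : (s.ω ⁅(lift a : Γ), (lift e : Γ)⁆ * s.ω ⁅(lift b : Γ), (lift e : Γ)⁆) *
          (s.ω ⁅(lift e : Γ), (lift a : Γ)⁆ * s.ω ⁅(lift e : Γ), (lift b : Γ)⁆) = 1 := by
        rw [mul_mul_mul_comm, h2, h3, mul_one]
      exact mul_right_cancel₀ (right_ne_zero_of_mul_eq_one h4) (h1.trans h4.symm)
    · rw [← hlift a, ← hlift b, ← hlift e, ← map_mul, hβf, hβf, hβf]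
      exact hmulR _ _ _
    · rw [← hlift a, hβf, commutatorElement_self]
      exact hω1.1
    · by_contra hall
      push Not at hall
      refine ha ?_
      rw [← hlift a, ← MonoidHom.mem_ker, hfk]
      show ((lift a : s.Y) : Γ) ∈ rad s.setting s.ne
      refine mem_rad.mpr ⟨(lift a).2, fun t ht => ?_⟩
      have h1 := hall (f ⟨t, ht⟩)
      rw [← hlift a, hβf] at h1
      have h2 := hswap ⟨t, ht⟩ (lift a)
      rwa [h1, mul_one] at h2
  have hiso : ∀ d : s.st, Isom β (σ d) := by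
    intro d a b
    obtain ⟨a', rfl⟩ : ∃ a', f a' = a := ⟨_, hlift a⟩
    obtain ⟨b', rfl⟩ : ∃ b', f b' = b := ⟨_, hlift b⟩
    rw [hσ d a' ⟨_, hconj d a'⟩ rfl, hσ d b' ⟨_, hconj d b'⟩ rfl, hβf, hβf,
      ← d.2.2.2 _ (s.setting.comm (b' : Γ) b'.2 a' a'.2)]
    congr 1
    simp only [commutatorElement_def]; group
  exact ⟨S, inferInstance, inferInstance, β, f, σ, hF, hiso, hσ1, hfs0, hfk, hβf, hσ⟩

/-- The action on a section. -/
theorem Sec.exists_action [IsAlgClosed K] [FiniteDimensional K V] [CharP K 2] (s : Sec ρ)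
    {n : ℕ} (hdef : Def2 ρ n) :
    ∃ (S : Type u) (_ : CommGroup S) (_ : Finite S) (β : S → S → K) (σ : s.st →* MulAut S),
      Form s.r β ∧ (∀ d, Isom β (σ d)) ∧ (∀ d, σ d = 1 ↔ (d : Γ) ∈ s.ker) ∧
      ∀ x : Γ, IsPGroup 2 (zpowers x) → ∀ hc : x ^ 2 ^ n ∈ s.st,
        Small s.r β (σ ⟨_, hc⟩) ∧ (σ ⟨_, hc⟩ = 1 ∨ ∃ k, 2 ≤ k ∧ k ≤ n + 1 ∧ s.r + 1 = 2 ^ k ∧
          ∃ hz : x ^ 2 ^ (n + 1 - k) ∈ s.st, Fixes (σ ⟨_, hc⟩) (σ ⟨_, hz⟩)) := by
  classical
  haveI := s.nY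
  haveI := s.nZ
  haveI := Fact.mk s.prime
  have hrodd : Odd s.r := s.prime.odd_of_ne_two s.odd
  have hnY : ∀ g : Γ, g ∈ normalizer (s.Y : Set Γ) := fun g => by rw [normalizer_eq_top]; exact mem_top g
  have hnZ : ∀ g : Γ, g ∈ normalizer (s.Z : Set Γ) := fun g => by rw [normalizer_eq_top]; exact mem_top g
  obtain ⟨S, _, _, β, f, σ, hF, hiso, hσ1, hfs, hfk, -, hσ⟩ := s.exists_form
  choose lift hlift using hfs
  have hconj : ∀ (d : s.st) (a : s.Y), (d : Γ) * a * (d : Γ)⁻¹ ∈ s.Y := fun d a => s.nY.conj_mem _ a.2 _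
  have hiff : ∀ (d : s.st) (a : s.Y), σ d (f a) = f a ↔ (a : Γ)⁻¹ * ((d : Γ) * a * (d : Γ)⁻¹) ∈ s.rd := by
    intro d a
    rw [hσ d a ⟨_, hconj d a⟩ rfl, eq_comm, ← inv_mul_eq_one, ← map_inv, ← map_mul, ← MonoidHom.mem_ker, hfk]
    rfl
  refine ⟨S, inferInstance, inferInstance, β, σ, hF, hiso, hσ1, fun x hx hc => ?_⟩
  obtain ⟨hxe, hxn⟩ := hdef x hx
  obtain ⟨-, hdich⟩ := section_data s.setting s.pgroup (hnY x) (hnZ x) hxe hxn le_rfl s.ne
  set c : s.st := ⟨x ^ 2 ^ n, hc⟩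
  have hsq : σ c * σ c = 1 := by
    rw [← map_mul, show c * c = 1 from Subtype.ext (by
      show x ^ 2 ^ n * x ^ 2 ^ n = 1
      rw [← pow_add, ← two_mul, ← pow_succ', hxe]), map_one]
  rcases hdich with htriv | ⟨k, hk, hkn, hrk, hz, hfix, Q1, -, hQ1Y, hQ1, hQ1c⟩
  · have hc1 : σ c = 1 := (hσ1 c).mpr ⟨hc, htriv⟩
    refine ⟨⟨hiso c, hsq, ?_⟩, Or.inl hc1⟩
    rw [hc1, mov_one_eq_bot hF hrodd, Subgroup.card_bot]
    exact Nat.one_le_iff_ne_zero.mpr (mul_ne_zero s.prime.ne_zero s.prime.ne_zero)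
  refine ⟨⟨hiso c, hsq, ?_⟩, Or.inr ⟨k, hk, hkn, hrk, hz, fun v hv => ?_⟩⟩
  · obtain ⟨m, hm⟩ := hrodd
    have hle : mov (σ c) ≤ (Q1.subgroupOf s.Y).map f := by
      intro u hu
      obtain ⟨a, ha⟩ : ∃ a, f a = (u⁻¹) ^ (m + 1) := ⟨_, hlift _⟩
      refine ⟨a⁻¹ * ⟨_, hconj c a⟩, hQ1 a a.2, ?_⟩
      rw [map_mul, map_inv, ← hσ c a ⟨_, hconj c a⟩ rfl, ha, map_pow, map_inv, mem_mov.mp hu, inv_inv,
        inv_pow, inv_inv, ← pow_add, show m + 1 + (m + 1) = s.r + 1 by omega, pow_succ, hF.exp, one_mul]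
    refine (Nat.card_mono (Set.toFinite _) hle).trans (le_of_eq ?_)
    show Nat.card ((Q1.subgroupOf s.Y).map f) = s.r * s.r
    rw [← relIndex_ker, hfk, relIndex_subgroupOf hQ1Y]
    exact hQ1c
  · obtain ⟨a, rfl⟩ : ∃ a, f a = v := ⟨_, hlift v⟩
    exact (hiff _ a).mpr (hfix a a.2 ((hiff c a).mp hv))

/-- A two-element acting trivially on every section is the identity. -/
theorem eq_one_of_forall_ker [IsAlgClosed K] [FiniteDimensional K V] [CharP K 2] (hρ : Function.Injective ρ) [Group.IsSolvable Γ]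
    (hO : Cfsg.pCore 2 Γ = ⊥) {t : Γ} (ht : IsPGroup 2 (zpowers t)) (hker : ∀ s : Sec ρ, t ∈ s.ker) :
    t = 1 := by
  classical
  haveI : Fact (Nat.Prime 2) := ⟨Nat.prime_two⟩
  have hcent : ∀ (r : ℕ) [Fact r.Prime], r ≠ 2 → ∀ P : Subgroup Γ, P.Normal → IsPGroup r P →
      ∀ u ∈ P, t * u * t⁻¹ = u := by
    intro r hr hr2 P hPn hP
    haveI := hPn
    obtain ⟨H, hHc, hHcomm, hHpow, hHcent⟩ := Cfsg.Agent.Invol.exists_critical hP
    haveI := hHc
    haveI : (H ⊓ centralizer (H : Set P)).Characteristic := by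
      refine Subgroup.characteristic_iff_comap_eq.mpr fun φ => ?_
      rw [Subgroup.comap_inf, Subgroup.Characteristic.fixed (H := H) inferInstance φ,
        Subgroup.Characteristic.fixed (H := centralizer (H : Set P)) inferInstance φ]
    set Y := H.map P.subtype with hYdef
    set Z := (H ⊓ centralizer (H : Set P)).map P.subtype with hZdef
    haveI : Y.Normal := inferInstance
    haveI : Z.Normal := inferInstance
    have hYP : Y ≤ P := map_subtype_le _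
    have hS : Setting 2 Y Z := by
      refine ⟨map_mono inf_le_left, ?_, ?_, ?_⟩
      · rintro _ ⟨g, hg, rfl⟩ _ ⟨b, hb, rfl⟩
        exact ⟨⁅b, g⁆, hHcomm (commutator_mem_commutator hb (mem_top g)), by simp [commutatorElement_def]⟩
      · rintro _ ⟨z, hz, rfl⟩ _ ⟨g, hg, rfl⟩
        exact congrArg Subtype.val (mem_centralizer_iff.mp hz.2 g hg)
      · obtain ⟨e, he⟩ := IsPGroup.iff_card.mp (hP.to_le hYP)
        rw [he]
        exact fun h => hr2
          ((Nat.prime_dvd_prime_iff_eq Nat.prime_two hr.out).mp (Nat.prime_two.dvd_of_dvd_pow h)).symm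
    have hYr : ∀ u ∈ Y, u ^ r ∈ Z := by
      rintro _ ⟨a, ha, rfl⟩
      exact ⟨a ^ r, hHpow a ha, by simp⟩
    have hZcard : (Nat.card Z : K) ≠ 0 := fun e =>
      hS.coprime (((CharP.cast_eq_zero_iff K 2 _).mp e).trans (card_dvd_of_le hS.le))
    have htop := iSup_chEigen_eq_top ρ Z (fun a ha d hd => by
      rw [← map_mul, ← map_mul, hS.central d hd a (hS.le ha)]) hZcard
    have hext : ∀ a b : Γ,
        (∀ ω : Γ → K, chEigen ρ Z ω ≠ ⊥ → ∀ v ∈ chEigen ρ Z ω, ρ a v = ρ b v) → a = b := by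
      intro a b hab
      apply hρ
      rw [← LinearMap.eqLocus_eq_top, eq_top_iff, ← htop]
      refine iSup_le fun ω => ?_
      rcases eq_or_ne (chEigen ρ Z ω) ⊥ with hb | hW
      · rw [hb]; exact bot_le
      exact fun v hv => hab ω hW v hv
    have hsec : ∀ {ω : Γ → K} (hW : chEigen ρ Z ω ≠ ⊥),
        t ∈ stab Y Z ω ∧ ∀ u ∈ Y, u⁻¹ * (t * u * t⁻¹) ∈ rad hS hW := fun {ω} hW =>
      hker ⟨r, Y, Z, ω, hr.out, hr2, inferInstance, inferInstance, hS, hP.to_le hYP, hYr, hW⟩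
    have hZfix : ∀ z ∈ Z, t * z * t⁻¹ = z := fun z hz => by
      refine hext _ _ fun ω hW v hv => ?_
      obtain ⟨hs, -⟩ := hsec hW
      rw [(mem_chEigen ρ).mp hv _ ((mem_normalizer_iff.mp hs.2.1 z).mp hz), (mem_chEigen ρ).mp hv _ hz,
        hs.2.2 z hz]
    have hmod : ∀ u ∈ Y, u⁻¹ * (t * u * t⁻¹) ∈ Z := fun u hu => by
      set d := u⁻¹ * (t * u * t⁻¹) with hd
      have hdY : d ∈ Y := Y.mul_mem (Y.inv_mem hu) ((inferInstance : Y.Normal).conj_mem u hu t)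
      obtain ⟨d', hd'H, hd'⟩ := hdY
      refine ⟨d', ⟨hd'H, mem_centralizer_iff.mpr fun g hg => Subtype.ext ?_⟩, hd'⟩
      show (g : Γ) * d' = d' * g
      rw [← commutatorElement_eq_one_iff_mul_comm]
      refine hext _ _ fun ω hW v hv => ?_
      have hgY : (g : Γ) ∈ Y := ⟨g, hg, rfl⟩
      have hdr := (hsec hW).2 u hu
      rw [show (d' : Γ) = d from hd', (mem_chEigen ρ).mp hv _ (hS.comm _ (mem_rad.mp hdr).1 _ hgY),
        (mem_rad.mp hdr).2 _ hgY, one_smul, map_one, Module.End.one_apply]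
    obtain ⟨a, ha⟩ := ht ⟨t, mem_zpowers t⟩
    have ha' : t ^ 2 ^ a = 1 := congrArg Subtype.val ha
    have hYfix : ∀ u ∈ Y, t * u * t⁻¹ = u := fun u hu => by
      set d := u⁻¹ * (t * u * t⁻¹) with hd
      have hdZ := hmod u hu
      have hpow : ∀ i : ℕ, t ^ i * u * (t ^ i)⁻¹ = u * d ^ i := by
        intro i
        induction i with
        | zero => simp
        | succ i ih =>
          have h1 : t * d ^ i * t⁻¹ = d ^ i := hZfix _ (Z.pow_mem hdZ i)
          calc t ^ (i + 1) * u * (t ^ (i + 1))⁻¹ = t * (t ^ i * u * (t ^ i)⁻¹) * t⁻¹ := by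
                rw [pow_succ']; group
            _ = (t * u * t⁻¹) * (t * d ^ i * t⁻¹) := by rw [ih]; group
            _ = u * d ^ (i + 1) := by
              rw [h1, pow_succ', ← mul_assoc u, show t * u * t⁻¹ = u * d by rw [hd]; group]
      have h1 := hpow (2 ^ a)
      rw [ha', one_mul, inv_one, mul_one, left_eq_mul] at h1
      obtain ⟨b, hb⟩ := hP ⟨d, hYP (hS.le hdZ)⟩
      have hb' : d ^ r ^ b = 1 := congrArg Subtype.val hb
      have hco : Nat.Coprime (2 ^ a) (r ^ b) :=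
        Nat.Coprime.pow _ _ ((Nat.coprime_primes Nat.prime_two hr.out).mpr (Ne.symm hr2))
      have : d = 1 := by
        have := pow_gcd_eq_one.mpr ⟨h1, hb'⟩
        rwa [hco, pow_one] at this
      calc t * u * t⁻¹ = u * d := by rw [hd]; group
        _ = u := by rw [this, mul_one]
    intro u hu
    let φ : MulAut P := MulAut.conjNormal t
    have hord : (orderOf φ).Coprime r :=
      Nat.Coprime.coprime_dvd_left (orderOf_dvd_of_pow_eq_one (show φ ^ 2 ^ a = 1 by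
        rw [← map_pow, ha', map_one])) (((Nat.coprime_primes Nat.prime_two hr.out).mpr (Ne.symm hr2)).pow_left a)
    have hφ1 : φ = 1 := Cfsg.Agent.Invol.aut_eq_one_of_fixed hP hHcent hord fun x hx =>
      Subtype.ext (by
        show ((MulAut.conjNormal t x : P) : Γ) = x
        rw [MulAut.conjNormal_apply]
        exact hYfix x ⟨x, hx, rfl⟩)
    have := congrArg (fun e : MulAut P => ((e ⟨u, hu⟩ : P) : Γ)) hφ1
    simpa [φ, MulAut.conjNormal_apply] using this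
  -- the Fitting subgroup is odd and self-centralizing
  have hF : Cfsg.fittingSubgroup Γ ≤ Cfsg.pPrimeCore 2 Γ ⊓ centralizer {t} := by
    rw [Transfer.fittingSubgroup_eq_iSup_pCore]
    refine iSup_le fun q => ?_
    haveI := Fact.mk (Nat.prime_of_mem_primeFactors q.2)
    by_cases hq : (q : ℕ) = 2
    · rw [hq, hO]; exact bot_le
    refine le_inf (Grp.le_pPrimeCore Grp.pCore_isNormal ?_) fun u hu => mem_centralizer_singleton_iff.mpr ?_
    · obtain ⟨k, hk⟩ := (Grp.pCore_isPGroup (p := (q : ℕ)) (G := Γ)).exists_card_eq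
      rw [hk]
      exact ((Nat.coprime_primes (Nat.prime_of_mem_primeFactors q.2) Nat.prime_two).mpr hq).pow_left k
    · exact (mul_inv_eq_iff_eq_mul.mp (hcent q hq _ Grp.pCore_isNormal Grp.pCore_isPGroup u hu)).symm
  refine Gross.eq_one_of_two_odd ht pPrimeCore_not_dvd (mem_zpowers t) ((hF.trans inf_le_left) ?_)
  exact Grp.centralizer_fittingSubgroup_le (mem_centralizer_iff.mpr fun u hu =>
    mem_centralizer_singleton_iff.mp (hF hu).2)

/-- A `2`-soluble group is soluble, by the theorem of Feit and Thompson. -/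
theorem isSolvable_of_two {G : Type*} [Group G] [Finite G] (hG : Cfsg.IsPSolvable 2 G) :
    Group.IsSolvable G := by
  haveI : Fact (Nat.Prime 2) := ⟨Nat.prime_two⟩
  obtain ⟨n, H, h0, hl, hm, hn, hi⟩ := hG
  suffices h : ∀ i : Fin (n + 1), Group.IsSolvable (H i) by
    have hs := h (Fin.last n)
    rw [hl] at hs
    exact Group.isSolvable_of_surjective (f := (⊤ : Subgroup G).subtype) fun g => ⟨⟨g, mem_top g⟩, rfl⟩
  intro i
  induction i using Fin.induction with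
  | zero => rw [h0]; infer_instance
  | succ i ih =>
    set N := (H i.castSucc).subgroupOf (H i.succ)
    haveI : N.Normal := (hn i.castSucc).comap _
    haveI : Group.IsSolvable N :=
      Group.isSolvable_of_isSolvable_injective (f := (subgroupOfEquivOfLe (hm i.castSucc_le_succ)).toMonoidHom)
        (subgroupOfEquivOfLe (hm i.castSucc_le_succ)).injective
    haveI : Group.IsSolvable (H i.succ ⧸ N) := by
      rcases hi i with ⟨m, hm'⟩ | hco
      · haveI := (IsPGroup.of_card (p := 2) (G := H i.succ ⧸ N) (n := m) hm').isNilpotent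
        infer_instance
      · exact Cfsg.Agent.S0205.result (Nat.coprime_two_right.1 hco)
    exact Group.isSolvable_of_ker_le_range N.subtype (QuotientGroup.mk' N) (by simp)

end Cfsg.Agent.Grp.Bry
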