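import Mathlib
import Cfsg.Agent.Lib.Grp.BryTwo.Local
import Cfsg.Agent.Lib.Grp.BryTwo.Sections
import Cfsg.Agent.Lib.Fus.GN.Transport
import Cfsg.Agent.Lib.Grp.GrossTwo.Core

/-!
The layers of the two-part of the stabilizer and the vanishing of the norms on them.
-/

set_option autoImplicit false
set_option linter.style.haveILetI false
set_option linter.unusedSectionVars false

namespace Cfsg.Agent.Grp.Bry

open Subgroup
open Cfsg.Agent.Grp.HHExc (conj_mem_rad)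
open scoped Pointwise

universe u

section General

variable {H : Type u} [Group H]

/-- The norm of `g` under `x`, written without a product. -/
def nrm (x g : H) (m : ℕ) : H := (g * x) ^ m * (x ^ m)⁻¹

theorem nrm_succ (x g : H) (m : ℕ) : nrm x g (m + 1) = nrm x g m * (x ^ m * g * (x ^ m)⁻¹) := by
  simp only [nrm, pow_succ]
  group

theorem nrm_mul_eq (x g : H) (a b : ℕ) : nrm x g (a * b) = nrm (x ^ a) (nrm x g a) b := by
  rw [nrm, nrm, nrm, inv_mul_cancel_right, ← pow_mul, ← pow_mul]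

theorem nrm_mem {N : Subgroup H} (hN : N.Normal) (x : H) {g : H} (hg : g ∈ N) : ∀ m, nrm x g m ∈ N
  | 0 => by simp [nrm]
  | m + 1 => by rw [nrm_succ]; exact N.mul_mem (nrm_mem hN x hg m) (hN.conj_mem g hg _)

theorem isPGroup_mul_mem {P : Subgroup H} (hP : IsPGroup 2 P) {x : H} (hx : x ∈ P) :
    IsPGroup 2 (zpowers x) :=
  hP.to_le (zpowers_le.mpr hx)

/-- The norm is multiplicative modulo a subgroup containing the commutators. -/
theorem nrm_hom {M D : Subgroup H} (hM : M.Normal) [D.Normal]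
    (hcomm : ∀ a ∈ M, ∀ b ∈ M, a * b * a⁻¹ * b⁻¹ ∈ D) (x : H) {g h : H} (hg : g ∈ M) (hh : h ∈ M) :
    ∀ m, QuotientGroup.mk' D (nrm x (g * h) m) =
      QuotientGroup.mk' D (nrm x g m) * QuotientGroup.mk' D (nrm x h m)
  | 0 => by simp [nrm]
  | m + 1 => by
    have hc : Commute (QuotientGroup.mk' D (x ^ m * g * (x ^ m)⁻¹)) (QuotientGroup.mk' D (nrm x h m)) := by
      have h1 := (QuotientGroup.eq_one_iff _).mpr
        (hcomm _ (hM.conj_mem g hg (x ^ m)) _ (nrm_mem hM x hh m))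
      change QuotientGroup.mk' D _ = 1 at h1
      rw [map_mul, map_mul, map_mul, map_inv, map_inv] at h1
      exact mul_inv_eq_iff_eq_mul.mp (mul_inv_eq_one.mp h1)
    rw [nrm_succ, nrm_succ, nrm_succ,
      show x ^ m * (g * h) * (x ^ m)⁻¹ = x ^ m * g * (x ^ m)⁻¹ * (x ^ m * h * (x ^ m)⁻¹) by group,
      map_mul (QuotientGroup.mk' D) (nrm x (g * h) m), map_mul (QuotientGroup.mk' D) (nrm x g m),
      map_mul (QuotientGroup.mk' D) (nrm x h m), map_mul (QuotientGroup.mk' D) (x ^ m * g * (x ^ m)⁻¹),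
      nrm_hom hM hcomm x hg hh m]
    rw [mul_assoc, ← mul_assoc (QuotientGroup.mk' D (nrm x h m)), ← hc.eq]
    simp only [mul_assoc]

end General

variable {K : Type*} [Field K] [IsAlgClosed K] [CharP K 2] {V : Type*} [AddCommGroup V] [Module K V]
  [FiniteDimensional K V] {H : Type u} [Group H] [Finite H] {ρ : H →* Module.End K V}

/-- The data of the filtration. -/
structure Base (ρ : H →* Module.End K V) (n : ℕ) (C0 L : Subgroup H) : Prop where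
  def2 : Def2 ρ n
  nC : C0.Normal
  nL : L.Normal
  le : C0 ≤ L
  st : L ≤ secStab ρ
  odd : ¬ 2 ∣ Nat.card C0
  pw : ∀ g ∈ L, ∃ m : ℕ, g ^ 2 ^ m ∈ C0
  top : ∀ x : H, IsPGroup 2 (zpowers x) → x ^ 2 ^ n ∈ L
  faith : ∀ t ∈ L, IsPGroup 2 (zpowers t) → (∀ s : Sec ρ, t ∈ s.ker) → t = 1

/-- The kernels of the invariant maps to a group of order two that factor through a section. -/
structure Admis (ρ : H →* Module.End K V) (L M B : Subgroup H) : Prop where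
  le : B ≤ M
  inv : ∀ l ∈ L, ∀ b ∈ B, l * b * l⁻¹ ∈ B
  idx : B.relIndex M = 2
  ker : ∃ s : Sec ρ, M ⊓ s.ker ≤ B

/-- The next layer. -/
def next (ρ : H →* Module.End K V) (L M : Subgroup H) : Subgroup H :=
  M ⊓ ⨅ B : {B : Subgroup H // Admis ρ L M B}, (B : Subgroup H)

variable {n : ℕ} {C0 L M : Subgroup H}

theorem next_le_admis {B : Subgroup H} (hB : Admis ρ L M B) : next ρ L M ≤ B :=
  inf_le_right.trans (iInf_le_of_le ⟨B, hB⟩ le_rfl)

theorem mem_next {g : H} : g ∈ next ρ L M ↔ g ∈ M ∧ ∀ B, Admis ρ L M B → g ∈ B :=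
  ⟨fun h => ⟨h.1, fun _ hB => next_le_admis hB h⟩,
    fun h => ⟨h.1, mem_iInf.mpr fun B => h.2 B.1 B.2⟩⟩

theorem Admis.mul_iff {B : Subgroup H} (hB : Admis ρ L M B) {a b : H} (ha : a ∈ M) (hb : b ∈ M) :
    a * b ∈ B ↔ (a ∈ B ↔ b ∈ B) :=
  mul_mem_iff_of_index_two (H := B.subgroupOf M) hB.idx (a := ⟨a, ha⟩) (b := ⟨b, hb⟩)

theorem sq_mem_next {a : H} (ha : a ∈ M) : a * a ∈ next ρ L M :=
  mem_next.mpr ⟨M.mul_mem ha ha, fun _ hB => (hB.mul_iff ha ha).mpr Iff.rfl⟩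

theorem comm_mem_next {a b : H} (ha : a ∈ M) (hb : b ∈ M) : a * b * a⁻¹ * b⁻¹ ∈ next ρ L M := by
  have hab := M.mul_mem ha hb
  refine mem_next.mpr ⟨M.mul_mem (M.mul_mem hab (M.inv_mem ha)) (M.inv_mem hb), fun B hB => ?_⟩
  rw [hB.mul_iff (M.mul_mem hab (M.inv_mem ha)) (M.inv_mem hb), inv_mem_iff,
    hB.mul_iff hab (M.inv_mem ha), inv_mem_iff, hB.mul_iff ha hb]
  tauto

theorem le_next (hb : Base ρ n C0 L) (hM : C0 ≤ M) : C0 ≤ next ρ L M := fun c hc => by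
  refine mem_next.mpr ⟨hM hc, fun B hB => ?_⟩
  have hodd : Odd (Nat.card C0) := Nat.not_even_iff_odd.mp fun h => hb.odd (even_iff_two_dvd.mp h)
  obtain ⟨j, hj⟩ := hodd
  have h1 : c ^ Nat.card C0 = 1 := congrArg Subtype.val (pow_card_eq_one' (x := (⟨c, hc⟩ : C0)))
  rw [hj, pow_succ, pow_mul] at h1
  have h2 : (c ^ 2) ^ j ∈ B := B.pow_mem (by rw [sq]; exact (hB.mul_iff (hM hc) (hM hc)).mpr Iff.rfl) j
  rw [eq_inv_of_mul_eq_one_left h1, inv_mem_iff] at h2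
  exact h2

theorem next_normal (hb : Base ρ n C0 L) (hM : M.Normal) : (next ρ L M).Normal := by
  refine ⟨fun g hg h => mem_next.mpr ⟨hM.conj_mem g hg.1 h, fun B hB => ?_⟩⟩
  have hB' : Admis ρ L M (B.comap (MulAut.conj h).toMonoidHom) := by
    refine ⟨fun b hb' => ?_, fun l hl b hb' => ?_, ?_, ?_⟩
    · have h1 := hM.conj_mem _ (hB.le (show h * b * h⁻¹ ∈ B from hb')) h⁻¹
      simpa [mul_assoc] using h1
    · show h * (l * b * l⁻¹) * h⁻¹ ∈ B
      rw [show h * (l * b * l⁻¹) * h⁻¹ = (h * l * h⁻¹) * (h * b * h⁻¹) * (h * l * h⁻¹)⁻¹ by group]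
      exact hB.inv _ (hb.nL.conj_mem l hl h) _ hb'
    · have hMm : M.map (MulAut.conj h).toMonoidHom = M := by
        refine le_antisymm ?_ fun m hm => ⟨h⁻¹ * m * h, by simpa using hM.conj_mem m hm h⁻¹, ?_⟩
        · rintro _ ⟨m, hm, rfl⟩
          exact hM.conj_mem m hm h
        · show h * (h⁻¹ * m * h) * h⁻¹ = m
          group
      rw [relIndex_comap, hMm, hB.idx]
    · obtain ⟨s, hs⟩ := hB.ker
      refine ⟨s.conj h⁻¹, fun g' hg' => hs ⟨hM.conj_mem g' hg'.1 h, ?_⟩⟩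
      have h1 := (s.conj h⁻¹).conj_ker (h := h) hg'.2
      have he : (s.conj h⁻¹).conj h = s := by
        cases s
        simp only [Sec.conj, Sec.mk.injEq, true_and]
        funext g''
        congr 1
        group
      rwa [he] at h1
  exact next_le_admis hB' hg

/-- Sylow subgroups cover the layers modulo the odd part. -/
theorem Base.exists_decomp (hb : Base ρ n C0 L) (P : Sylow 2 H) {g : H} (hg : g ∈ L) :
    ∃ t ∈ (P : Subgroup H) ⊓ L, ∃ c0 ∈ C0, t * c0 = g := by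
  haveI : Fact (Nat.Prime 2) := ⟨Nat.prime_two⟩
  haveI := hb.nC
  haveI := hb.nL
  set π := QuotientGroup.mk' C0 with hπ
  have hπs : Function.Surjective π := QuotientGroup.mk'_surjective _
  have hL2 : IsPGroup 2 (L.map π) := by
    rintro ⟨_, l, hl, rfl⟩
    obtain ⟨m, hm⟩ := hb.pw l hl
    refine ⟨m, Subtype.ext ?_⟩
    show π l ^ 2 ^ m = 1
    rw [← map_pow]
    exact (QuotientGroup.eq_one_iff _).mpr hm
  haveI : (L.map π).Normal := hb.nL.map π hπs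
  set P' := Sylow.mapSurjective hπs P
  have hle : L.map π ≤ (P' : Subgroup (H ⧸ C0)) :=
    le_sup_right.trans (P'.is_maximal' (P'.isPGroup'.to_sup_of_normal_right hL2) le_sup_left).le
  obtain ⟨p, hp, hpg⟩ : π g ∈ (P : Subgroup H).map π := by
    have := hle ⟨g, hg, rfl⟩
    exact this
  have hc : p⁻¹ * g ∈ C0 := by
    rw [← QuotientGroup.eq_one_iff]
    show π (p⁻¹ * g) = 1
    rw [map_mul, map_inv, hpg, inv_mul_cancel]
  refine ⟨p, ⟨hp, ?_⟩, _, hc, by group⟩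
  have := L.mul_mem hg (L.inv_mem (hb.le hc))
  rwa [show g * (p⁻¹ * g)⁻¹ = p by group] at this

/-- A two-element of `L` is conjugate into the Sylow subgroup by the odd part. -/
theorem Base.exists_conj (hb : Base ρ n C0 L) (P : Sylow 2 H) {c : H} (hc : c ∈ L)
    (hc2 : IsPGroup 2 (zpowers c)) : ∃ c0 ∈ C0, c0 * c * c0⁻¹ ∈ (P : Subgroup H) := by
  haveI : Fact (Nat.Prime 2) := ⟨Nat.prime_two⟩
  haveI := hb.nC
  haveI := hb.nL
  set T0 := (P : Subgroup H) ⊓ L with hT0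
  set π := QuotientGroup.mk' C0 with hπ
  have hT : IsSylowIn 2 T0 L := by
    have he : (L.map π).comap π = L := by
      rw [comap_map_eq, hπ, QuotientGroup.ker_mk', sup_eq_left.mpr hb.le]
    rw [← he]
    refine Gross.isSylowIn_comap π (QuotientGroup.mk'_surjective _) ?_ (P.isPGroup'.to_le inf_le_left) ?_ ?_
    · rw [hπ, QuotientGroup.ker_mk']; exact hb.odd
    · rw [he]; exact inf_le_right
    · rintro _ ⟨g, hg, rfl⟩
      obtain ⟨t, ht, c0, hc0, rfl⟩ := hb.exists_decomp P hg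
      refine ⟨t, ht, ?_⟩
      rw [map_mul, show π c0 = 1 from (QuotientGroup.eq_one_iff _).mpr hc0, mul_one]
  obtain ⟨X, hX, hcX⟩ : ∃ X, IsSylowIn 2 X L ∧ c ∈ X := by
    obtain ⟨S, hS⟩ := ((hc2.comap_subtype (K := L)).exists_le_sylow)
    exact ⟨_, isSylowIn_iff.mpr ⟨S, rfl⟩, ⟨⟨c, hc⟩, hS (show c ∈ zpowers c from mem_zpowers c), rfl⟩⟩
  obtain ⟨l, hl, hlX⟩ := hX.conj hT
  obtain ⟨t, ht, c0, hc0, rfl⟩ := hb.exists_decomp P hl
  refine ⟨c0, hc0, ?_⟩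
  have h1 : MulAut.conj (t * c0) • c ∈ T0 := hlX ▸ Subgroup.smul_mem_pointwise_smul _ _ _ hcX
  rw [MulAut.smul_def, MulAut.conj_apply] at h1
  have h2 := mul_mem (mul_mem (inv_mem ht) h1) ht
  rw [show t⁻¹ * (t * c0 * c * (t * c0)⁻¹) * t = c0 * c * c0⁻¹ by group] at h2
  exact h2.1

theorem next_lt (hb : Base ρ n C0 L) (hMn : M.Normal) (hC : C0 ≤ M) (hML : M ≤ L) (hne : M ≠ C0) :
    next ρ L M < M := by
  classical
  haveI : Fact (Nat.Prime 2) := ⟨Nat.prime_two⟩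
  obtain ⟨P⟩ : Nonempty (Sylow 2 H) := inferInstance
  haveI := hb.nC
  haveI := hb.nL
  -- a section seeing the layer
  obtain ⟨t, ⟨htP, htM⟩, s, hts⟩ : ∃ t ∈ (P : Subgroup H) ⊓ M, ∃ s : Sec ρ, t ∉ s.ker := by
    by_contra hall
    push Not at hall
    refine hne (le_antisymm (fun g hg => ?_) hC)
    obtain ⟨t, ht, c0, hc0, rfl⟩ := hb.exists_decomp P (hML hg)
    have htM : t ∈ M := by
      have := M.mul_mem hg (M.inv_mem (hC hc0))
      rwa [mul_inv_cancel_right] at this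
    rw [hb.faith t ht.2 (isPGroup_mul_mem P.isPGroup' ht.1) (hall t ⟨ht.1, htM⟩), one_mul]
    exact hc0
  have hLs : L ≤ s.st := fun g hg => mem_secStab.mp (hb.st hg) s
  set A := (M ⊓ s.ker) ⊔ C0 with hA
  have hAinv : ∀ l ∈ L, ∀ a ∈ A, l * a * l⁻¹ ∈ A := by
    intro l hl a ha
    have h1 : (M ⊓ s.ker).map (MulAut.conj l).toMonoidHom ≤ M ⊓ s.ker := by
      rintro _ ⟨b, hb', rfl⟩
      refine ⟨hMn.conj_mem b hb'.1 l, mul_mem (mul_mem ?_ (hLs (hML hb'.1))) (inv_mem (hLs hl)), fun u hu => ?_⟩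
      · exact hLs hl
      · have h3 := conj_mem_rad (hLs hl) (hb'.2.2 (l⁻¹ * u * l) (by simpa using s.nY.conj_mem u hu l⁻¹))
        show u⁻¹ * (l * b * l⁻¹ * u * (l * b * l⁻¹)⁻¹) ∈ HHExc.rad s.setting s.ne
        convert h3 using 1
        group
    have h2 : C0.map (MulAut.conj l).toMonoidHom ≤ C0 := by
      rintro _ ⟨b, hb', rfl⟩
      exact hb.nC.conj_mem b hb' l
    have := (Subgroup.map_sup _ _ _).trans_le (sup_le_sup h1 h2) ⟨a, ha, rfl⟩
    exact this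
  have htA : t ∉ A := by
    intro h
    have hA' : A ≤ s.ker ⊔ C0 := sup_le_sup_right inf_le_right _
    obtain ⟨a, ha, c0, hc0, he⟩ := mem_sup_of_normal_right.mp (hA' h)
    obtain ⟨S, _, _, β, σ, -, -, hσ, -⟩ := s.exists_action hb.def2
    have hcst : c0 ∈ s.st := hLs (hb.le hc0)
    have htst : t ∈ s.st := hLs (hML htM)
    have h1 : σ ⟨t, htst⟩ = σ ⟨c0, hcst⟩ := by
      rw [show (⟨t, htst⟩ : s.st) = ⟨a, ha.1⟩ * ⟨c0, hcst⟩ from Subtype.ext he.symm, map_mul,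
        (hσ ⟨a, ha.1⟩).mpr ha, one_mul]
    refine hts ((hσ ⟨t, htst⟩).mp ?_)
    obtain ⟨m, hm⟩ := isPGroup_mul_mem P.isPGroup' htP ⟨t, mem_zpowers t⟩
    have e1 : σ ⟨t, htst⟩ ^ 2 ^ m = 1 := by
      rw [← map_pow, show (⟨t, htst⟩ : s.st) ^ 2 ^ m = 1 from Subtype.ext (congrArg Subtype.val hm :), map_one]
    have e2 : σ ⟨t, htst⟩ ^ Nat.card C0 = 1 := by
      rw [h1, ← map_pow, show (⟨c0, hcst⟩ : s.st) ^ Nat.card C0 = 1 from
        Subtype.ext (congrArg Subtype.val (pow_card_eq_one' (x := (⟨c0, hc0⟩ : C0))) :), map_one]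
    have h3 := pow_gcd_eq_one.mpr ⟨e1, e2⟩
    rwa [((Nat.prime_two.coprime_iff_not_dvd.mpr hb.odd).pow_left m : Nat.Coprime (2 ^ m) (Nat.card C0)),
      pow_one] at h3
  have hAM : A < M := lt_of_le_of_ne (sup_le inf_le_left hC) fun e => htA (e ▸ htM)
  obtain ⟨B, ⟨hAB, hBM, hBinv⟩, hmax⟩ := (Set.toFinite {B : Subgroup H | A ≤ B ∧ B < M ∧
      ∀ l ∈ L, ∀ b ∈ B, l * b * l⁻¹ ∈ B}).exists_maximal ⟨A, le_rfl, hAM, hAinv⟩
  have hC0B : C0 ≤ B := le_sup_right.trans hAB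
  have hBL : B ≤ L := hBM.le.trans hML
  haveI hBn : (B.subgroupOf L).Normal := ⟨fun b hb' l => hBinv l l.2 b hb'⟩
  set π := QuotientGroup.mk' (B.subgroupOf L) with hπ
  have hπs : Function.Surjective π := QuotientGroup.mk'_surjective _
  have hQ : IsPGroup 2 (L ⧸ B.subgroupOf L) := fun q => by
    obtain ⟨l, rfl⟩ := hπs q
    obtain ⟨m, hm⟩ := hb.pw l l.2
    exact ⟨m, by rw [← map_pow]; exact (QuotientGroup.eq_one_iff _).mpr (hC0B hm : _ ∈ B.subgroupOf L)⟩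
  set Mb := (M.subgroupOf L).map π with hMb
  haveI : Mb.Normal := (inferInstance : (M.subgroupOf L).Normal).map π hπs
  have hMne : Mb ≠ ⊥ := by
    rw [hMb, ne_eq, Subgroup.map_eq_bot_iff, hπ, QuotientGroup.ker_mk']
    exact fun h => hBM.not_ge fun b hb' => h (x := ⟨b, hML hb'⟩) hb'
  obtain ⟨⟨w, hwM, hwc⟩, hw1⟩ : ∃ w : ↥(Mb ⊓ center (L ⧸ B.subgroupOf L)), w ≠ 1 := by
    haveI := (Subgroup.nontrivial_iff_ne_bot _).mpr (Fus.GN.inf_center_ne_bot hQ hMne)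
    exact exists_ne 1
  have hw1' : w ≠ 1 := fun e => hw1 (Subtype.ext e)
  obtain ⟨i, hi⟩ := IsPGroup.iff_orderOf.mp hQ w
  have hi0 : i ≠ 0 := fun e => hw1' (orderOf_eq_one_iff.mp (by rw [hi, e, pow_zero]))
  set v := w ^ 2 ^ (i - 1) with hv
  have hv1 : v ≠ 1 := fun e => by
    have := orderOf_dvd_of_pow_eq_one e
    rw [hi, Nat.pow_dvd_pow_iff_le_right one_lt_two] at this
    omega
  have hvv : v * v = 1 := by
    rw [hv, ← pow_add, ← two_mul, ← pow_succ', show i - 1 + 1 = i by omega, ← hi, pow_orderOf_eq_one]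
  have hvc : v ∈ center (L ⧸ B.subgroupOf L) := Subgroup.pow_mem _ hwc _
  -- the preimage of the central subgroup of order two is everything
  set B2 := ((zpowers v).comap π).map L.subtype with hB2
  have hBB2 : B ≤ B2 := fun b hb' => ⟨⟨b, hBL hb'⟩, by
    show π ⟨b, hBL hb'⟩ ∈ zpowers v
    rw [show π ⟨b, hBL hb'⟩ = 1 from (QuotientGroup.eq_one_iff _).mpr hb']
    exact one_mem _, rfl⟩
  have hB2M : B2 = M := by
    refine le_antisymm ?_ ?_
    · rintro _ ⟨l, hl, rfl⟩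
      have h1 : π l ∈ Mb := zpowers_le.mpr (Subgroup.pow_mem _ hwM _) hl
      obtain ⟨m, hm, he⟩ := h1
      have h2 : m⁻¹ * l ∈ B.subgroupOf L := QuotientGroup.eq.mp he
      have h3 := M.mul_mem (show (m : H) ∈ M from hm) (hBM.le h2)
      simpa using h3
    · by_contra hnle
      have hle2 : B2 ≤ M := by
        rintro _ ⟨l, hl, rfl⟩
        have h1 : π l ∈ Mb := zpowers_le.mpr (Subgroup.pow_mem _ hwM _) hl
        obtain ⟨m, hm, he⟩ := h1
        have h2 : m⁻¹ * l ∈ B.subgroupOf L := QuotientGroup.eq.mp he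
        have h3 := M.mul_mem (show (m : H) ∈ M from hm) (hBM.le h2)
        simpa using h3
      have hinv2 : ∀ l ∈ L, ∀ b ∈ B2, l * b * l⁻¹ ∈ B2 := by
        rintro l hl _ ⟨b, hb', rfl⟩
        refine ⟨⟨l, hl⟩ * b * (⟨l, hl⟩ : L)⁻¹, ?_, rfl⟩
        show π _ ∈ zpowers v
        have hcen : π b ∈ center (L ⧸ B.subgroupOf L) := zpowers_le.mpr hvc hb'
        rw [map_mul, map_mul, map_inv, mem_center_iff.mp hcen (π ⟨l, hl⟩), mul_inv_cancel_right]
        exact hb'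
      have h4 := hmax ⟨hAB.trans hBB2, lt_of_le_not_ge hle2 hnle, hinv2⟩ hBB2
      obtain ⟨l, hl⟩ := hπs v
      have h5 : (l : H) ∈ B := h4 ⟨l, by show π l ∈ zpowers v; rw [hl]; exact mem_zpowers v, rfl⟩
      exact hv1 (hl ▸ (QuotientGroup.eq_one_iff _).mpr h5)
  have hidx : B.relIndex M = 2 := by
    have e1 : B.relIndex M = (B.subgroupOf L).relIndex ((zpowers v).comap π) := by
      refine Eq.trans ?_ (relIndex_map_map_of_injective _ _ L.subtype_injective)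
      rw [map_subgroupOf_eq_of_le hBL, ← hB2, hB2M]
    have e2 := relIndex_ker ((zpowers v).comap π) π
    rw [hπ, QuotientGroup.ker_mk'] at e2
    rw [e1, e2, ← hπ, map_comap_eq_self_of_surjective hπs, Nat.card_zpowers]
    exact orderOf_eq_prime (by rw [sq, hvv]) hv1
  have hB : Admis ρ L M B := ⟨hBM.le, hBinv, hidx, ⟨s, le_sup_left.trans hAB⟩⟩
  exact lt_of_le_of_lt (next_le_admis hB) hBM

/-- The subgroup splitting a layer. -/
def mid (ρ : H →* Module.End K V) (n : ℕ) (L M : Subgroup H) : Subgroup H :=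
  (closure {g : H | ∃ x : H, IsPGroup 2 (zpowers x) ∧ g = x ^ 2 ^ n} ⊓ M) ⊔ next ρ L M

theorem mid_normal (hb : Base ρ n C0 L) (hM : M.Normal) : (mid ρ n L M).Normal := by
  haveI := next_normal hb hM
  haveI := hM
  haveI := Gross.normal_closure_pow (Γ := H) (2 ^ n)
  unfold mid
  infer_instance

theorem mid_le : mid ρ n L M ≤ M := sup_le inf_le_right inf_le_left

/-- On the top part of a layer the norms are products of top powers. -/
theorem nrm_mem_mid (hb : Base ρ n C0 L) (hMn : M.Normal) (hC : C0 ≤ M) (hML : M ≤ L) {x : H}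
    (hx : IsPGroup 2 (zpowers x)) {g : H} (hg : g ∈ M) : nrm x g (2 ^ n) ∈ mid ρ n L M := by
  haveI : Fact (Nat.Prime 2) := ⟨Nat.prime_two⟩
  haveI hD := next_normal hb hMn
  obtain ⟨P, hP⟩ := hx.exists_le_sylow
  have hxP : x ∈ (P : Subgroup H) := hP (mem_zpowers x)
  obtain ⟨t, ht, c0, hc0, rfl⟩ := hb.exists_decomp P (hML hg)
  have htM : t ∈ M := by
    have := M.mul_mem hg (M.inv_mem (hC hc0))
    rwa [mul_inv_cancel_right] at this
  have h1 : nrm x t (2 ^ n) ∈ mid ρ n L M := by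
    refine mem_sup_left ⟨mul_mem (subset_closure ⟨t * x, ?_, rfl⟩) (Subgroup.inv_mem _ (subset_closure ⟨x, hx, rfl⟩)),
      nrm_mem hMn x htM _⟩
    exact isPGroup_mul_mem P.isPGroup' (mul_mem ht.1 hxP)
  have h2 : nrm x c0 (2 ^ n) ∈ next ρ L M := le_next hb hC (nrm_mem hb.nC x hc0 _)
  have h3 := nrm_hom hMn (fun a ha b hb' => comm_mem_next (ρ := ρ) (L := L) ha hb') x htM (hC hc0) (2 ^ n)
  rw [← map_mul] at h3
  have h4 := QuotientGroup.eq.mp h3.symm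
  have h5 := (mid ρ n L M).mul_mem ((mid ρ n L M).mul_mem h1 (mem_sup_right h2)) (mem_sup_right h4)
  rwa [mul_inv_cancel_left] at h5

/-- An exceptional element: if some norm escapes then all norms of top powers stay inside. -/
theorem nrm_mem_admis (hb : Base ρ n C0 L) (hMn : M.Normal) (hC : C0 ≤ M) (hML : M ≤ L)
    (P : Sylow 2 H) {x : H} (hxP : x ∈ (P : Subgroup H)) {B : Subgroup H} (hB : Admis ρ L M B)
    {s : Sec ρ} (hs : M ⊓ s.ker ≤ B) (hcx : x ^ 2 ^ n ∉ s.ker) {u : H} (hu : u ∈ (P : Subgroup H) ⊓ M)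
    (huB : nrm x u (2 ^ n) ∉ B) {g : H} (hg : g ∈ mid ρ n L M) : nrm x g (2 ^ n) ∈ B := by
  classical
  haveI : Fact (Nat.Prime 2) := ⟨Nat.prime_two⟩
  haveI : Fact s.r.Prime := ⟨s.prime⟩
  haveI hDn := next_normal hb hMn
  haveI := hb.nC
  have hLs : L ≤ s.st := fun l hl => mem_secStab.mp (hb.st hl) s
  have hMs : M ≤ s.st := hML.trans hLs
  obtain ⟨S, _, _, β, σ, hF, hiso, hσ, hact⟩ := s.exists_action hb.def2
  have hP2 : ∀ y ∈ (P : Subgroup H), IsPGroup 2 (zpowers y) := fun y hy => isPGroup_mul_mem P.isPGroup' hy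
  have hcx' : x ^ 2 ^ n ∈ s.st := hLs (hb.top x (hP2 x hxP))
  obtain ⟨hsmc, hdich⟩ := hact x (hP2 x hxP) hcx'
  obtain ⟨k, hk, hkn, hrk, hz, hfix⟩ := hdich.resolve_left fun h => hcx ((hσ _).mp h)
  set a := 2 ^ (n + 1 - k) with ha
  set b := 2 ^ (k - 1) with hb2
  have hab : a * b = 2 ^ n := by rw [ha, hb2, ← pow_add]; congr 1; omega
  set z := x ^ a with hzdef
  have hzP : z ∈ (P : Subgroup H) := pow_mem hxP _
  have hzb : z ^ b = x ^ 2 ^ n := by rw [hzdef, ← pow_mul, hab]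
  set zs : s.st := ⟨z, hz⟩
  set P2 := (P : Subgroup H).subgroupOf s.st
  set T0 := ((P : Subgroup H) ⊓ L).subgroupOf s.st with hT0
  set T10 := ((P : Subgroup H) ⊓ M).subgroupOf s.st with hT10
  set T := T0.map σ with hT
  set T1 := T10.map σ with hT1
  set B1 := (((P : Subgroup H) ⊓ B).subgroupOf s.st).map σ with hB1
  let f : MulAut S → ℤˣ := fun φ => if φ ∈ B1 then 1 else -1
  have hmemB : ∀ d : s.st, (d : H) ∈ (P : Subgroup H) ⊓ M → (σ d ∈ B1 ↔ (d : H) ∈ B) := by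
    refine fun d hd => ⟨?_, fun h => ⟨d, ⟨hd.1, h⟩, rfl⟩⟩
    rintro ⟨d', hd', he⟩
    have hdm : ((d * d'⁻¹ : s.st) : H) ∈ M ⊓ s.ker :=
      ⟨M.mul_mem hd.2 (M.inv_mem (hB.le hd'.2)),
        (hσ _).mp (by rw [map_mul, map_inv, he, mul_inv_cancel])⟩
    have h1 := B.mul_mem (hs hdm) hd'.2
    simpa using h1
  have hf : ∀ d : s.st, (d : H) ∈ (P : Subgroup H) ⊓ M → (f (σ d) = 1 ↔ (d : H) ∈ B) := fun d hd => by
    show (if σ d ∈ B1 then (1 : ℤˣ) else -1) = 1 ↔ _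
    rw [← hmemB d hd]
    by_cases h : σ d ∈ B1 <;> simp [h]
  have hfd : ∀ φ, f φ = 1 ∨ f φ = -1 := fun φ => by
    show (if φ ∈ B1 then (1 : ℤˣ) else -1) = 1 ∨ (if φ ∈ B1 then (1 : ℤˣ) else -1) = -1
    by_cases h : φ ∈ B1 <;> simp [h]
  have hzn : ∀ d : s.st, (d : H) ∈ (P : Subgroup H) ⊓ M →
      ((zs * d * zs⁻¹ : s.st) : H) ∈ (P : Subgroup H) ⊓ M := fun d hd =>
    ⟨(P : Subgroup H).mul_mem ((P : Subgroup H).mul_mem hzP hd.1) ((P : Subgroup H).inv_mem hzP), hMn.conj_mem _ hd.2 _⟩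
  have hC' : Ctx s.r k β T T1 (σ zs) f := by
    refine ⟨hk, hrk, ?_, ?_, map_mono (fun d hd => ⟨hd.1, hML hd.2⟩), ?_, ?_, ?_, ?_, ?_, ?_, ?_, ?_, ?_⟩
    · refine ((P.isPGroup'.comap_subtype (K := s.st)).map σ).to_le (sup_le (map_mono fun d hd => hd.1) ?_)
      exact zpowers_le.mpr ⟨zs, hzP, rfl⟩
    · intro φ hφ
      have hle : T ⊔ zpowers (σ zs) ≤ σ.range :=
        sup_le (map_le_range _ _) (zpowers_le.mpr ⟨zs, rfl⟩)
      obtain ⟨d, rfl⟩ := hle hφ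
      exact hiso d
    · rintro _ ⟨t, ht, rfl⟩ _ ⟨d, hd, rfl⟩
      exact ⟨t * d * t⁻¹, ⟨(P : Subgroup H).mul_mem ((P : Subgroup H).mul_mem ht.1 hd.1) ((P : Subgroup H).inv_mem ht.1), hMn.conj_mem _ hd.2 _⟩, by simp⟩
    · rintro _ ⟨d, hd, rfl⟩
      exact ⟨zs * d * zs⁻¹, hzn d hd, by simp⟩
    · rintro _ ⟨d, hd, rfl⟩ _ ⟨d', hd', rfl⟩
      have hdd : ((d * d' : s.st) : H) ∈ (P : Subgroup H) ⊓ M := mul_mem hd hd'
      rcases hfd (σ d) with h1 | h1 <;> rcases hfd (σ d') with h2 | h2 <;> rw [h1, h2]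
      · rw [← map_mul, one_mul, hf _ hdd, Subgroup.coe_mul, hB.mul_iff (a := (d : H)) (b := (d' : H)) hd.2 hd'.2]
        exact iff_of_true ((hf d hd).mp h1) ((hf d' hd').mp h2)
      · rw [← map_mul, one_mul]
        refine (hfd _).resolve_left fun h => ?_
        rw [hf _ hdd, Subgroup.coe_mul, hB.mul_iff (a := (d : H)) (b := (d' : H)) hd.2 hd'.2] at h
        exact absurd ((hf d' hd').mpr (h.mp ((hf d hd).mp h1))) (by rw [h2]; decide)
      · rw [← map_mul, mul_one]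
        refine (hfd _).resolve_left fun h => ?_
        rw [hf _ hdd, Subgroup.coe_mul, hB.mul_iff (a := (d : H)) (b := (d' : H)) hd.2 hd'.2] at h
        exact absurd ((hf d hd).mpr (h.mpr ((hf d' hd').mp h2))) (by rw [h1]; decide)
      · rw [← map_mul, neg_mul_neg, one_mul, hf _ hdd, Subgroup.coe_mul, hB.mul_iff (a := (d : H)) (b := (d' : H)) hd.2 hd'.2]
        exact iff_of_false (fun h => absurd ((hf d hd).mpr h) (by rw [h1]; decide))
          (fun h => absurd ((hf d' hd').mpr h) (by rw [h2]; decide))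
    · intro φ _
      rcases hfd φ with h1 | h1 <;> rw [h1] <;> decide
    · rintro _ ⟨t, ht, rfl⟩ _ ⟨d, hd, rfl⟩
      have hd2 : ((t * d * t⁻¹ : s.st) : H) ∈ (P : Subgroup H) ⊓ M :=
        ⟨(P : Subgroup H).mul_mem ((P : Subgroup H).mul_mem ht.1 hd.1) ((P : Subgroup H).inv_mem ht.1), hMn.conj_mem _ hd.2 _⟩
      rw [← map_inv, ← map_mul, ← map_mul]
      have hiff : (((t * d * t⁻¹ : s.st) : H) ∈ B ↔ (d : H) ∈ B) := by
        refine ⟨fun h => ?_, fun h => hB.inv _ ht.2 _ h⟩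
        have := hB.inv _ (L.inv_mem ht.2) _ h
        simpa [mul_assoc] using this
      show (if _ ∈ B1 then (1 : ℤˣ) else -1) = if _ ∈ B1 then (1 : ℤˣ) else -1
      rw [if_congr ((hmemB _ hd2).trans (hiff.trans (hmemB _ hd).symm)) rfl rfl]
    · rw [← map_pow, show zs ^ 2 ^ k = 1 from Subtype.ext (by
        show z ^ 2 ^ k = 1
        rw [hzdef, ← pow_mul, ha, ← pow_add, show n + 1 - k + k = n + 1 by omega, (hb.def2 x (hP2 x hxP)).1]),
        map_one]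
    · rw [← hb2, ← map_pow, show zs ^ b = ⟨_, hcx'⟩ from Subtype.ext hzb]
      exact hsmc
    · rw [← hb2, ← map_pow, show zs ^ b = ⟨_, hcx'⟩ from Subtype.ext hzb]
      exact fun h => hcx ((hσ _).mp h)
    · rw [← hb2, ← map_pow, show zs ^ b = ⟨_, hcx'⟩ from Subtype.ext hzb]
      exact hfix
  -- the dichotomy at the translate
  set v := nrm x u a with hv
  have hvz : v * z = (u * x) ^ a := by rw [hv, nrm, hzdef, inv_mul_cancel_right]
  have hvM : v ∈ (P : Subgroup H) ⊓ M := by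
    refine ⟨?_, nrm_mem hMn x hu.2 _⟩
    exact (P : Subgroup H).mul_mem (Subgroup.pow_mem _ ((P : Subgroup H).mul_mem hu.1 hxP) _) ((P : Subgroup H).inv_mem (Subgroup.pow_mem _ hxP _))
  have hvs : v ∈ s.st := hMs hvM.2
  set ws : s.st := zs⁻¹ * ⟨v, hvs⟩ * zs with hws
  have hw : σ ws ∈ T1 := ⟨ws, ⟨(P : Subgroup H).mul_mem ((P : Subgroup H).mul_mem ((P : Subgroup H).inv_mem hzP) hvM.1) hzP,
    by simpa [hws, zs] using hMn.conj_mem _ hvM.2 z⁻¹⟩, rfl⟩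
  have hux : u * x ∈ (P : Subgroup H) := mul_mem hu.1 hxP
  have hcux : (u * x) ^ 2 ^ n ∈ s.st := hLs (hb.top _ (hP2 _ hux))
  have hpow : (zs * ws) ^ b = ⟨_, hcux⟩ := by
    refine Subtype.ext ?_
    show (z * (z⁻¹ * v * z)) ^ b = (u * x) ^ 2 ^ n
    rw [show z * (z⁻¹ * v * z) = v * z by group, hvz, ← pow_mul, hab]
  have hsm : Small s.r β ((σ zs * σ ws) ^ 2 ^ (k - 1)) := by
    rw [← hb2, ← map_mul, ← map_pow, hpow]
    exact (hact _ (hP2 _ hux) hcux).1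
  rcases hC'.dichotomy hF (s.prime.odd_of_ne_two s.odd) hw hsm with h1 | ⟨hk2, h2⟩
  · exfalso
    apply huB
    rw [← hb2, ← map_mul, ← map_pow, ← map_pow, hpow, show zs ^ b = ⟨_, hcx'⟩ from Subtype.ext hzb,
      ← map_inv, ← map_mul] at h1
    exact (hf _ ⟨(P : Subgroup H).mul_mem (Subgroup.pow_mem _ hux _) ((P : Subgroup H).inv_mem (Subgroup.pow_mem _ hxP _)), nrm_mem hMn x hu.2 _⟩).mp h1
  -- the case `k = 2`
  have hb' : b = 2 := by rw [hb2, hk2]; rfl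
  set D := next ρ L M with hDdef
  suffices hcomm : ∀ h ∈ mid ρ n L M, h * z * h⁻¹ * z⁻¹ ∈ B by
    have hgv : nrm x g a ∈ mid ρ n L M := nrm_mem (mid_normal hb hMn) x hg a
    have h3 := hcomm _ hgv
    set g' := nrm x g a
    rw [← hab, hb', nrm_mul_eq, ← hzdef, nrm, show (g' * z) ^ 2 * (z ^ 2)⁻¹ =
      (g' * z * g'⁻¹ * z⁻¹) * (z * (g' * g') * z⁻¹) by rw [sq, sq]; group]
    exact B.mul_mem h3 (next_le_admis hB (hDn.conj_mem _ (sq_mem_next (mid_le hgv)) z))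
  -- small generators in the Sylow subgroup
  set D0 := closure {t : H | t ∈ (P : Subgroup H) ∧ ∃ y : H, IsPGroup 2 (zpowers y) ∧ t = y ^ 2 ^ n}
    with hD0
  have hD0T : D0 ≤ (P : Subgroup H) ⊓ L := by
    rw [hD0, closure_le]
    rintro _ ⟨h1, y, hy, rfl⟩
    exact ⟨h1, hb.top y hy⟩
  have hcl : closure {g : H | ∃ y : H, IsPGroup 2 (zpowers y) ∧ g = y ^ 2 ^ n} ≤ C0 ⊔ D0 := by
    rw [closure_le]
    rintro _ ⟨y, hy, rfl⟩
    have hc2 : IsPGroup 2 (zpowers (y ^ 2 ^ n)) := hy.to_le (zpowers_le.mpr (pow_mem (mem_zpowers y) _))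
    obtain ⟨c0, hc0, hcP⟩ := hb.exists_conj P (hb.top y hy) hc2
    have hy' : IsPGroup 2 (zpowers (c0 * y * c0⁻¹)) := by
      have := hy.map (MulAut.conj c0).toMonoidHom
      rwa [MonoidHom.map_zpowers] at this
    have hmem : c0 * y ^ 2 ^ n * c0⁻¹ ∈ C0 ⊔ D0 :=
      mem_sup_right (subset_closure ⟨hcP, _, hy', by rw [conj_pow]⟩)
    have h3 := (C0 ⊔ D0).mul_mem ((C0 ⊔ D0).mul_mem (inv_mem (mem_sup_left hc0)) hmem) (mem_sup_left hc0)
    rw [show c0⁻¹ * (c0 * y ^ 2 ^ n * c0⁻¹) * c0 = y ^ 2 ^ n by group] at h3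
    exact h3
  have hD0σ : ∀ d : H, ∀ hd : d ∈ D0,
      σ ⟨d, hLs (hD0T hd).2⟩ ∈ closure {h : MulAut S | h ∈ T ∧ Small s.r β h} := by
    intro d hd
    induction hd using Subgroup.closure_induction with
    | mem d hd =>
      obtain ⟨hdP, y, hy, rfl⟩ := hd
      exact subset_closure ⟨⟨⟨_, hLs (hb.top y hy)⟩, ⟨hdP, hb.top y hy⟩, rfl⟩, (hact y hy _).1⟩
    | one =>
      rw [show (⟨(1 : H), hLs (hD0T (one_mem _)).2⟩ : s.st) = 1 from rfl, map_one]
      exact one_mem _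
    | mul d d' hd hd' ih ih' =>
      have := mul_mem ih ih'
      rwa [← map_mul] at this
    | inv d hd ih =>
      have := inv_mem ih
      rwa [← map_inv] at this
  intro h hh
  obtain ⟨v1, hv1, d, hd, rfl⟩ := mem_sup_of_normal_right.mp hh
  have hdz : d * z * d⁻¹ * z⁻¹ ∈ D := by
    rw [show d * z * d⁻¹ * z⁻¹ = d * (z * d⁻¹ * z⁻¹) by group]
    exact mul_mem hd (hDn.conj_mem _ (inv_mem hd) z)
  rw [show v1 * d * z * (v1 * d)⁻¹ * z⁻¹ =
    (v1 * (d * z * d⁻¹ * z⁻¹) * v1⁻¹) * (v1 * z * v1⁻¹ * z⁻¹) by group]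
  refine B.mul_mem (next_le_admis hB (hDn.conj_mem _ hdz v1)) ?_
  obtain ⟨c0, hc0, d0, hd0, rfl⟩ := mem_sup_of_normal_left.mp (hcl hv1.1)
  have hd0M : d0 ∈ M := by
    have := M.mul_mem (M.inv_mem (hC hc0)) hv1.2
    rwa [inv_mul_cancel_left] at this
  have hcz : c0 * z * c0⁻¹ * z⁻¹ ∈ C0 := by
    rw [show c0 * z * c0⁻¹ * z⁻¹ = c0 * (z * c0⁻¹ * z⁻¹) by group]
    exact mul_mem hc0 (hb.nC.conj_mem _ (inv_mem hc0) z)
  rw [show c0 * d0 * z * (c0 * d0)⁻¹ * z⁻¹ =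
    (c0 * (d0 * z * d0⁻¹ * z⁻¹) * c0⁻¹) * (c0 * z * c0⁻¹ * z⁻¹) by group]
  refine B.mul_mem (hB.inv c0 (hb.le hc0) _ ?_) (next_le_admis hB (le_next hb hC hcz))
  set ds : s.st := ⟨d0, hLs (hD0T hd0).2⟩
  have h4 := (h2 (σ ds) (hD0σ d0 hd0)).2
  rw [← map_inv, ← map_inv, ← map_mul, ← map_mul, ← map_mul] at h4
  refine (hf (ds * zs * ds⁻¹ * zs⁻¹) ⟨?_, ?_⟩).mp h4
  · exact (P : Subgroup H).mul_mem ((P : Subgroup H).mul_mem ((P : Subgroup H).mul_mem (hD0T hd0).1 hzP) ((P : Subgroup H).inv_mem (hD0T hd0).1)) ((P : Subgroup H).inv_mem hzP)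
  · show d0 * z * d0⁻¹ * z⁻¹ ∈ M
    rw [show d0 * z * d0⁻¹ * z⁻¹ = d0 * (z * d0⁻¹ * z⁻¹) by group]
    exact mul_mem hd0M (hMn.conj_mem _ (inv_mem hd0M) z)

/-- On the part generated by top powers the norms fall into the next layer. -/
theorem nrm_mem_next (hb : Base ρ n C0 L) (hMn : M.Normal) (hC : C0 ≤ M) (hML : M ≤ L) {x : H}
    (hx : IsPGroup 2 (zpowers x)) {g : H} (hg : g ∈ mid ρ n L M) : nrm x g (2 ^ n) ∈ next ρ L M := by
  classical
  haveI : Fact (Nat.Prime 2) := ⟨Nat.prime_two⟩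
  haveI hDn := next_normal hb hMn
  set D := next ρ L M with hD
  have hcommD : ∀ a ∈ M, ∀ b ∈ M, a * b * a⁻¹ * b⁻¹ ∈ D := fun a ha b hb' => comm_mem_next ha hb'
  obtain ⟨P, hP⟩ := hx.exists_le_sylow
  have hxP : x ∈ (P : Subgroup H) := hP (mem_zpowers x)
  refine mem_next.mpr ⟨nrm_mem hMn x (mid_le hg) _, fun B hB => ?_⟩
  obtain ⟨s, hs⟩ := hB.ker
  by_cases hall : ∀ u ∈ (P : Subgroup H) ⊓ M, nrm x u (2 ^ n) ∈ B
  · obtain ⟨t, ht, c0, hc0, rfl⟩ := hb.exists_decomp P (hML (mid_le hg))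
    have htM : t ∈ M := by
      have := M.mul_mem (mid_le hg) (M.inv_mem (hC hc0))
      rwa [mul_inv_cancel_right] at this
    have h3 := nrm_hom hMn hcommD x htM (hC hc0) (2 ^ n)
    rw [← map_mul] at h3
    have h4 := QuotientGroup.eq.mp h3.symm
    have h5 := B.mul_mem (B.mul_mem (hall t ⟨ht.1, htM⟩)
      (next_le_admis hB (le_next hb hC (nrm_mem hb.nC x hc0 (2 ^ n))))) (next_le_admis hB h4)
    rwa [mul_inv_cancel_left] at h5
  push Not at hall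
  obtain ⟨u, hu, huB⟩ := hall
  by_cases hcx : x ^ 2 ^ n ∈ s.ker
  swap
  · exact nrm_mem_admis hb hMn hC hML P hxP hB hs hcx hu huB hg
  have hux : u * x ∈ (P : Subgroup H) := mul_mem hu.1 hxP
  have hcux : (u * x) ^ 2 ^ n ∉ s.ker := fun h =>
    huB (hs ⟨nrm_mem hMn x hu.2 _, s.ker.mul_mem h (s.ker.inv_mem hcx)⟩)
  have huB' : nrm (u * x) u⁻¹ (2 ^ n) ∉ B := fun h => by
    refine huB ?_
    have := B.inv_mem h
    rwa [nrm, inv_mul_cancel_left, mul_inv_rev, inv_inv] at this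
  have h1 := nrm_mem_admis hb hMn hC hML P hux hB hs hcux ⟨(P : Subgroup H).inv_mem hu.1, M.inv_mem hu.2⟩ huB' hg
  have h2 : nrm (u * x) g (2 ^ n) = nrm x (g * u) (2 ^ n) * (nrm x u (2 ^ n))⁻¹ := by
    rw [nrm, nrm, nrm, mul_assoc g u x]; group
  have hgu := M.mul_mem (mid_le hg) hu.2
  rw [h2] at h1
  have h3 := nrm_hom hMn hcommD x (mid_le hg) hu.2 (2 ^ n)
  have h6 : (nrm x g (2 ^ n))⁻¹ * (nrm x (g * u) (2 ^ n) * (nrm x u (2 ^ n))⁻¹) ∈ D := by
    rw [← QuotientGroup.eq_one_iff]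
    show QuotientGroup.mk' D _ = 1
    rw [map_mul, map_mul, map_inv, map_inv, h3]
    group
  have h7 := B.mul_mem h1 (B.inv_mem (next_le_admis hB h6))
  rwa [mul_inv_rev, inv_inv, mul_inv_cancel_left] at h7

end Cfsg.Agent.Grp.Bry
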