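import Mathlib
import Cfsg.Agent.Lib.Grp.BryTwo.Layers
import Cfsg.Agent.Lib.Grp.DerivedLengthLinear
import Cfsg.Agent.Lib.Grp.HHPLength

/-!
A deficient representation is killed, on elements of odd order, by a normal subgroup with small quotient.
-/

set_option autoImplicit false
set_option linter.style.haveILetI false
set_option linter.unusedSectionVars false

namespace Cfsg.Agent.Grp.Bry

open Module Subgroup

universe u

/-- The field of coefficients. -/
abbrev K2 : Type := AlgebraicClosure (ZMod 2)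

instance : Fact (Nat.Prime 2) := ⟨Nat.prime_two⟩

instance : CharP K2 2 :=
  charP_of_injective_algebraMap (algebraMap (ZMod 2) (AlgebraicClosure (ZMod 2))).injective 2

/-- The bound for reduced deficient groups. -/
def BStmt (n : ℕ) : Prop :=
  ∀ (H : Type u) [Group H] [Finite H] (W : Type u) [AddCommGroup W] [Module K2 W] [FiniteDimensional K2 W]
    (ρ : H →* Module.End K2 W), Function.Injective ρ → Cfsg.IsPSolvable 2 H → Cfsg.pCore 2 H = ⊥ →
    Def2 ρ n → Cfsg.PLengthLE 2 n H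

theorem sub_one_pow_two_pow {K : Type*} [Field K] [CharP K 2] {V : Type*} [AddCommGroup V] [Module K V]
    (a : Module.End K V) : ∀ m : ℕ, (a - 1) ^ 2 ^ m = a ^ 2 ^ m - 1
  | 0 => by simp
  | m + 1 => by
    rw [pow_succ, pow_mul, sub_one_pow_two_pow a m, pow_mul]
    set b := a ^ 2 ^ m
    have h2 : b + b = 0 := LinearMap.ext fun v => by
      rw [LinearMap.add_apply, ← two_smul K (b v), CharTwo.two_eq_zero, zero_smul, LinearMap.zero_apply]
    have h3 : (1 : Module.End K V) + 1 = 0 := LinearMap.ext fun v => by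
      rw [LinearMap.add_apply, ← two_smul K ((1 : Module.End K V) v), CharTwo.two_eq_zero, zero_smul,
        LinearMap.zero_apply]
    rw [sq, sq, sub_mul, mul_sub, mul_one, one_mul]
    calc b * b - b - (b - 1) = b * b - (b + b) + (1 + 1) - 1 := by abel
      _ = b * b - 1 := by rw [h2, h3, sub_zero, add_zero]

section PLength

variable {G : Type*} [Group G] [Finite G] {A : Type*} [Group A] [Finite A] {B : Type*} [Group B] [Finite B]

/-- A subdirect product has no larger `2`-length than its factors. -/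
theorem pLengthLE_of_kers (f1 : G →* A) (f2 : G →* B) (hk : f1.ker ⊓ f2.ker = ⊥) {l : ℕ}
    (h1 : Cfsg.PLengthLE 2 l A) (h2 : Cfsg.PLengthLE 2 l B) : Cfsg.PLengthLE 2 l G := by
  let U : ℕ → Subgroup G := fun k => (uSer 2 A k).comap f1 ⊓ (uSer 2 B k).comap f2
  have hn : ∀ k, (U k).Normal := fun k =>
    haveI := ((Cfsg.upperPSeries 2 A k).2.comap f1)
    haveI := ((Cfsg.upperPSeries 2 B k).2.comap f2)
    Subgroup.normal_inf_normal _ _
  have hdvd : ∀ k, (U k).relIndex (U (k + 1)) ∣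
      (uSer 2 A k).relIndex (uSer 2 A (k + 1)) * (uSer 2 B k).relIndex (uSer 2 B (k + 1)) := by
    intro k
    set C1 := (uSer 2 A k).comap f1
    set C2 := (uSer 2 B k).comap f2
    set X := U (k + 1)
    have hle : U k ≤ C1 ⊓ X := le_inf inf_le_left
      (inf_le_inf (comap_mono (uSer_le_succ k)) (comap_mono (uSer_le_succ k)))
    rw [← relIndex_mul_relIndex (U k) (C1 ⊓ X) X hle inf_le_right, mul_comm, inf_relIndex_right]
    refine Nat.mul_dvd_mul ?_ ?_
    · rw [relIndex_comap]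
      exact relIndex_dvd_of_normal_le (Cfsg.upperPSeries 2 A k).2
        ((map_mono inf_le_left).trans (map_comap_le _ _))
    · have e : (U k).relIndex (C1 ⊓ X) = C2.relIndex (C1 ⊓ X) := by
        rw [← inf_relIndex_right, ← inf_relIndex_right C2]
        congr 1
        refine le_antisymm (inf_le_inf_right _ inf_le_right) (le_inf (le_inf ?_ inf_le_left) inf_le_right)
        exact inf_le_right.trans inf_le_left
      rw [e, relIndex_comap]
      exact relIndex_dvd_of_normal_le (Cfsg.upperPSeries 2 B k).2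
        ((map_mono (inf_le_right.trans inf_le_right)).trans (map_comap_le _ _))
  have key : ∀ k, U k ≤ uSer 2 G k := by
    intro k
    induction k with
    | zero =>
      show (uSer 2 A 0).comap f1 ⊓ (uSer 2 B 0).comap f2 ≤ uSer 2 G 0
      rw [uSer_zero, uSer_zero, uSer_zero, MonoidHom.comap_bot, MonoidHom.comap_bot, hk]
    | succ k ih =>
      rcases Nat.even_or_odd k with he | ho
      · refine le_uSer_succ_even he (hn _) ih fun hd => ?_
        rcases Nat.prime_two.dvd_mul.mp (hd.trans (hdvd k)) with h | h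
        · exact uSer_relIndex_even he h
        · exact uSer_relIndex_even he h
      · refine le_uSer_succ_odd ho (hn _) ih ?_
        obtain ⟨i, hi⟩ := uSer_relIndex_odd (p := 2) (G := A) ho
        obtain ⟨j, hj⟩ := uSer_relIndex_odd (p := 2) (G := B) ho
        obtain ⟨m, -, hm⟩ := (Nat.dvd_prime_pow Nat.prime_two).mp
          (show (U k).relIndex (U (k + 1)) ∣ 2 ^ (i + j) by rw [pow_add, ← hi, ← hj]; exact hdvd k)
        exact ⟨m, hm⟩
  have h1' : uSer 2 A (2 * l + 1) = ⊤ := h1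
  have h2' : uSer 2 B (2 * l + 1) = ⊤ := h2
  have h3 : (⊤ : Subgroup G) ≤ U (2 * l + 1) := by
    show ⊤ ≤ (uSer 2 A (2 * l + 1)).comap f1 ⊓ (uSer 2 B (2 * l + 1)).comap f2
    rw [h1', h2', comap_top, comap_top, inf_idem]
  exact top_le_iff.mp (h3.trans (key _))

end PLength

theorem pLengthLE_quotient_inf {H : Type*} [Group H] [Finite H] (N1 N2 : Subgroup H) [N1.Normal] [N2.Normal]
    {l : ℕ} (h1 : Cfsg.PLengthLE 2 l (H ⧸ N1)) (h2 : Cfsg.PLengthLE 2 l (H ⧸ N2)) :
    Cfsg.PLengthLE 2 l (H ⧸ N1 ⊓ N2) := by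
  refine pLengthLE_of_kers (QuotientGroup.map (N1 ⊓ N2) N1 (MonoidHom.id H) inf_le_left)
    (QuotientGroup.map (N1 ⊓ N2) N2 (MonoidHom.id H) inf_le_right) ((eq_bot_iff_forall _).mpr fun q hq => ?_) h1 h2
  obtain ⟨g, rfl⟩ := QuotientGroup.mk'_surjective (N1 ⊓ N2) q
  exact (QuotientGroup.eq_one_iff g).mpr ⟨(QuotientGroup.eq_one_iff g).mp hq.1, (QuotientGroup.eq_one_iff g).mp hq.2⟩

theorem pLengthLE_quotient_top {H : Type*} [Group H] [Finite H] (l : ℕ) :
    Cfsg.PLengthLE 2 l (H ⧸ (⊤ : Subgroup H)) :=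
  haveI : Subsingleton (H ⧸ (⊤ : Subgroup H)) := QuotientGroup.subsingleton_quotient_top
  pLengthLE_mono (Nat.zero_le l) (HHP.pLengthLE_zero_of_exponent fun _ _ _ => Subsingleton.elim _ _)

/-- The representation-theoretic step. -/
theorem module_kernel {n : ℕ} (hB : BStmt.{u} n) {H : Type u} [Group H] [Finite H]
    (hH : Cfsg.IsPSolvable 2 H) : ∀ (d : ℕ) (W : Type u) [AddCommGroup W] [Module K2 W] [FiniteDimensional K2 W]
      (ρ : H →* Module.End K2 W), finrank K2 W = d →
      (∀ x : H, IsPGroup 2 (zpowers x) → (ρ x - 1) ^ (2 ^ (n + 1) - 1) = 0) →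
      ∃ (N : Subgroup H) (_ : N.Normal), Cfsg.PLengthLE 2 n (H ⧸ N) ∧ ∀ y ∈ N, Odd (orderOf y) → ρ y = 1 := by
  intro d
  induction d using Nat.strong_induction_on with
  | _ d ih =>
  intro W _ _ _ ρ hd hdef
  rcases Nat.eq_zero_or_pos d with rfl | hpos
  · haveI := Module.finrank_zero_iff.mp hd
    exact ⟨⊤, inferInstance, pLengthLE_quotient_top n, fun _ _ _ => LinearMap.ext fun _ => Subsingleton.elim _ _⟩
  haveI : Nontrivial W := Module.nontrivial_of_finrank_pos (R := K2) (hd.symm ▸ hpos)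
  by_cases hred : ∃ U : Submodule K2 W, U ≠ ⊥ ∧ U ≠ ⊤ ∧ ∀ g, ∀ v ∈ U, ρ g v ∈ U
  · obtain ⟨U, hU0, hU1, hUi⟩ := hred
    let σ1 : H →* Module.End K2 U :=
      { toFun := fun g => (ρ g).restrict (hUi g)
        map_one' := LinearMap.ext fun v => Subtype.ext (by simp [LinearMap.restrict_apply])
        map_mul' := fun a b => LinearMap.ext fun v => Subtype.ext (by simp [LinearMap.restrict_apply]) }
    let σ2 : H →* Module.End K2 (W ⧸ U) :=
      { toFun := fun g => U.mapQ U (ρ g) (fun v hv => hUi g v hv)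
        map_one' := by ext v; simp
        map_mul' := fun a b => by ext v; simp }
    have e1 : ∀ (g : H) (j : ℕ) (v : U), ((((σ1 g - 1) ^ j) v : U) : W) = ((ρ g - 1) ^ j) v := by
      intro g j
      induction j with
      | zero => intro v; rfl
      | succ j ihj =>
        intro v
        rw [pow_succ, Module.End.mul_apply, pow_succ, Module.End.mul_apply, ihj]
        congr 1
    have e2 : ∀ (g : H) (j : ℕ) (v : W), ((σ2 g - 1) ^ j) (Submodule.Quotient.mk v) =
        Submodule.Quotient.mk (((ρ g - 1) ^ j) v) := by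
      intro g j
      induction j with
      | zero => intro v; rfl
      | succ j ihj =>
        intro v
        rw [pow_succ, Module.End.mul_apply, pow_succ, Module.End.mul_apply, ← ihj]
        congr 1
    obtain ⟨N1, hN1, hl1, hk1⟩ := ih _ (hd ▸ Submodule.finrank_lt hU1) U σ1 rfl fun x hx =>
      LinearMap.ext fun v => Subtype.ext (by rw [e1, hdef x hx]; rfl)
    obtain ⟨N2, hN2, hl2, hk2⟩ := ih (finrank K2 (W ⧸ U)) (by
        have h := U.finrank_quotient_add_finrank
        have h0 : 0 < finrank K2 U := by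
          haveI := Submodule.nontrivial_iff_ne_bot.mpr hU0
          exact Module.finrank_pos
        omega) (W ⧸ U) σ2 rfl fun x hx => LinearMap.ext fun v => by
      obtain ⟨w, rfl⟩ := Submodule.Quotient.mk_surjective U v
      rw [e2, hdef x hx]; rfl
    refine ⟨N1 ⊓ N2, inferInstance, pLengthLE_quotient_inf N1 N2 hl1 hl2, fun y hy hyo => ?_⟩
    have h1 : (ρ y - 1) * (ρ y - 1) = 0 := LinearMap.ext fun v => by
      have h3 : (ρ y - 1) v ∈ U := by
        rw [← Submodule.Quotient.mk_eq_zero, LinearMap.sub_apply, Submodule.Quotient.mk_sub, sub_eq_zero]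
        exact LinearMap.congr_fun (hk2 y hy.2 hyo) (Submodule.Quotient.mk v)
      have h4 : ∀ u ∈ U, ρ y u = u := fun u hu =>
        congrArg Subtype.val (LinearMap.congr_fun (hk1 y hy.1 hyo) ⟨u, hu⟩)
      rw [Module.End.mul_apply, LinearMap.sub_apply, h4 _ h3, Module.End.one_apply, sub_self,
        LinearMap.zero_apply]
    have h2 : ρ y ^ 2 = 1 := by
      have := sub_one_pow_two_pow (ρ y) 1
      rw [pow_one, sq, h1] at this
      exact eq_of_sub_eq_zero this.symm
    obtain ⟨j, hj⟩ := hyo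
    have h3 : ρ y ^ orderOf y = 1 := by rw [← map_pow, pow_orderOf_eq_one, map_one]
    rwa [hj, pow_succ, pow_mul, h2, one_pow, one_mul] at h3
  push Not at hred
  set N := ρ.ker with hN
  let ρb : H ⧸ N →* Module.End K2 W := QuotientGroup.lift N ρ le_rfl
  have hρb : ∀ g : H, ρb (g : H ⧸ N) = ρ g := fun g => rfl
  have hinj : Function.Injective ρb := fun a b hab => by
    obtain ⟨a, rfl⟩ := QuotientGroup.mk_surjective a
    obtain ⟨b, rfl⟩ := QuotientGroup.mk_surjective b
    rw [hρb, hρb] at hab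
    rw [QuotientGroup.eq, hN, MonoidHom.mem_ker, map_mul, ← hab, ← map_mul, inv_mul_cancel, map_one]
  refine ⟨N, inferInstance, ?_, fun y hy _ => hy⟩
  refine hB _ W ρb hinj (isPSolvable_map hH (QuotientGroup.mk' N) (QuotientGroup.mk'_surjective N)) ?_ ?_
  · set P := Cfsg.pCore 2 (H ⧸ N)
    haveI hPn : P.Normal := pCore_isNormal
    obtain ⟨v, hv, hfix⟩ := DerivedLength.exists_fixed_mod (p := 2) (pCore_isPGroup : IsPGroup 2 P)
      (ρb.comp P.subtype) (⊥ : Submodule K2 W) (fun g x hx => by rw [(Submodule.mem_bot K2).mp hx, map_zero]; exact zero_mem _) bot_ne_top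
    let Fx : Submodule K2 W := ⨅ g : P, LinearMap.eqLocus (ρb g) 1
    have hmem : ∀ w, w ∈ Fx ↔ ∀ g ∈ P, ρb g w = w := fun w => by
      simp [Fx, Submodule.mem_iInf, LinearMap.mem_eqLocus]
    have hFtop : Fx = ⊤ := by
      by_contra hne
      have hFx0 : Fx ≠ ⊥ := (Submodule.ne_bot_iff _).mpr ⟨v, (hmem v).mpr fun g hg => sub_eq_zero.mp
        ((Submodule.mem_bot K2).mp (hfix ⟨g, hg⟩)), fun h => hv (h ▸ zero_mem _)⟩
      obtain ⟨g, w, hw, hgw⟩ := hred Fx hFx0 hne
      refine hgw ((hmem _).mpr fun p hp => ?_)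
      have hp' : (g : H ⧸ N)⁻¹ * p * g ∈ P := by
        have := hPn.conj_mem p hp (g : H ⧸ N)⁻¹
        rwa [inv_inv] at this
      rw [← hρb g, ← Module.End.mul_apply, ← map_mul,
        show p * (g : H ⧸ N) = (g : H ⧸ N) * ((g : H ⧸ N)⁻¹ * p * g) by group, map_mul,
        Module.End.mul_apply, (hmem w).mp hw _ hp']
    refine (eq_bot_iff_forall _).mpr fun g hg => hinj ?_
    rw [map_one]
    exact LinearMap.ext fun w => (hmem w).mp (hFtop ▸ Submodule.mem_top) g hg
  · intro q hq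
    obtain ⟨y, rfl⟩ := QuotientGroup.mk'_surjective N q
    obtain ⟨a, -, hap, hay⟩ := exists_pElement_lift (p := 2) (QuotientGroup.mk' N) (y := y) hq
    rw [← hay, QuotientGroup.mk'_apply, hρb]
    refine ⟨hinj ?_, hdef a hap⟩
    rw [map_pow, map_one, hρb]
    have h1 : (ρ a - 1) ^ 2 ^ (n + 1) = 0 := by
      rw [show 2 ^ (n + 1) = 2 ^ (n + 1) - 1 + 1 by have := Nat.one_le_two_pow (n := n + 1); omega,
        pow_succ, hdef a hap, zero_mul]
    rw [sub_one_pow_two_pow] at h1
    exact eq_of_sub_eq_zero h1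

/-- The step for a normal section of exponent two on which the norms vanish. -/
theorem norm_kernel {n : ℕ} (hB : BStmt.{u} n) {H : Type u} [Group H] [Finite H]
    (hH : Cfsg.IsPSolvable 2 H) {M F : Subgroup H} (hMn : M.Normal) (hFn : F.Normal) (hFM : F ≤ M)
    (hcomm : ∀ a ∈ M, ∀ b ∈ M, a * b * a⁻¹ * b⁻¹ ∈ F) (hsq : ∀ a ∈ M, a * a ∈ F)
    (hnrm : ∀ x : H, IsPGroup 2 (zpowers x) → ∀ g ∈ M, nrm x g (2 ^ (n + 1)) ∈ F) :
    ∃ (N : Subgroup H) (_ : N.Normal), Cfsg.PLengthLE 2 n (H ⧸ N) ∧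
      ∀ y ∈ N, Odd (orderOf y) → ∀ g ∈ M, y * g * y⁻¹ * g⁻¹ ∈ F := by
  classical
  obtain ⟨S, _, _, f, σ, hfs, hfk, hσ⟩ := HHP.exists_section_action (⊤ : Subgroup H) M F hFM
    (fun a ha b hb => by rw [commutatorElement_def]; exact hcomm a ha b hb)
    (fun d _ => by rw [normalizer_eq_top]; exact mem_top d) (fun d _ a ha => hFn.conj_mem a ha d)
  set χ : H →* MulAut S := σ.comp (Subgroup.topEquiv : (⊤ : Subgroup H) ≃* H).symm.toMonoidHom with hχ
  have hχf : ∀ (h : H) (a : M), χ h (f a) = f ⟨h * a * h⁻¹, hMn.conj_mem _ a.2 h⟩ := fun h a =>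
    hσ ⟨h, mem_top h⟩ a _ rfl
  have hker : ∀ a : M, f a = 1 ↔ (a : H) ∈ F := fun a => by
    rw [← MonoidHom.mem_ker, hfk, mem_subgroupOf]
  have hS : ∀ w : S, w ^ 2 = 1 := fun w => by
    obtain ⟨a, rfl⟩ := hfs w
    rw [← map_pow, hker, SubgroupClass.coe_pow, sq]
    exact hsq a a.2
  obtain ⟨W, _, _, _, L, hL, hLn, -⟩ := HHExc.exists_linearization (p := 2) hS
  have hdef : ∀ x : H, IsPGroup 2 (zpowers x) → ((L.comp χ) x - 1) ^ (2 ^ (n + 1) - 1) = 0 := by
    intro x hx
    refine hLn _ (n + 1) fun w => ?_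
    obtain ⟨g, rfl⟩ := hfs w
    have e : ∀ j : ℕ, f ⟨nrm x g j, nrm_mem hMn x g.2 j⟩ = ∏ i ∈ Finset.range j, (χ x ^ i) (f g) := by
      intro j
      induction j with
      | zero =>
        rw [Finset.prod_range_zero, hker]
        show nrm x (g : H) 0 ∈ F
        simp [nrm]
      | succ j ih =>
        rw [Finset.prod_range_succ, ← ih, ← map_pow, hχf, ← map_mul]
        exact congrArg f (Subtype.ext (nrm_succ x (g : H) j))
    rw [← e, hker]
    exact hnrm x hx g g.2
  obtain ⟨N, hN, hl, hk⟩ := module_kernel hB hH _ W (L.comp χ) rfl hdef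
  refine ⟨N, hN, hl, fun y hy hyo g hg => ?_⟩
  have h1 : χ y = 1 := hL (by rw [map_one]; exact hk y hy hyo)
  have h2 := hχf y ⟨g, hg⟩
  rw [h1, MulAut.one_apply, eq_comm, ← mul_inv_eq_one, ← map_inv, ← map_mul, hker] at h2
  exact h2

end Cfsg.Agent.Grp.Bry
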