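import Mathlib
import Cfsg.Agent.Lib.Grp.BryTwo.Module
import Cfsg.Agent.Lib.Grp.GrossTwo.Main

/-!
The exponent of a Sylow `2`-subgroup bounds the `2`-length.
-/

set_option autoImplicit false
set_option linter.style.haveILetI false
set_option linter.unusedSectionVars false

namespace Cfsg.Agent.Grp.Bry

open Subgroup

universe u

/-- The bound for groups with a Sylow subgroup of exponent dividing `2 ^ n`. -/
def TStmt (n : ℕ) : Prop :=
  ∀ (G : Type u) [Group G] [Finite G], Cfsg.IsPSolvable 2 G →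
    (∀ (P : Sylow 2 G), ∀ x ∈ (P : Subgroup G), x ^ 2 ^ n = 1) → Cfsg.PLengthLE 2 n G

/-- An element of odd order stabilizing a commuting step fixes it. -/
theorem eq_one_of_odd_step {G : Type*} [Group G] {y w e : G} {k : ℕ} (hy : Odd (orderOf y))
    (hye : Commute y e) (h : y * w * y⁻¹ = e * w) (h2 : e ^ 2 ^ k = 1) : e = 1 := by
  have hn : ∀ m : ℕ, y ^ m * w * (y ^ m)⁻¹ = e ^ m * w := by
    intro m
    induction m with
    | zero => simp
    | succ m ih =>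
      calc y ^ (m + 1) * w * (y ^ (m + 1))⁻¹ = y * (y ^ m * w * (y ^ m)⁻¹) * y⁻¹ := by
            rw [pow_succ']; group
        _ = (y * e ^ m * y⁻¹) * (y * w * y⁻¹) := by rw [ih]; group
        _ = e ^ (m + 1) * w := by
            rw [h, (hye.pow_right m).eq, mul_inv_cancel_right, pow_succ, mul_assoc]
  have h1 := hn (orderOf y)
  rw [pow_orderOf_eq_one, inv_one, one_mul, mul_one] at h1
  have h3 := pow_gcd_eq_one.mpr ⟨h2, mul_eq_right.mp h1.symm⟩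
  rwa [((Nat.coprime_two_left.mpr hy).pow_left k : Nat.Coprime (2 ^ k) (orderOf y)), pow_one] at h3

theorem exists_odd_part {G : Type*} [Group G] [Finite G] (g : G) : ∃ k : ℕ, Odd (orderOf (g ^ 2 ^ k)) := by
  obtain ⟨k, m, hm, hkm⟩ := Nat.exists_eq_pow_mul_and_not_dvd (orderOf_pos g).ne' 2 (by norm_num)
  refine ⟨k, ?_⟩
  rw [orderOf_pow' _ (pow_ne_zero _ two_ne_zero), hkm, Nat.gcd_eq_right (dvd_mul_right _ _),
    Nat.mul_div_cancel_left _ (pow_pos two_pos _), Nat.odd_iff, ← Nat.two_dvd_ne_zero]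
  exact hm

section Layered

variable {H : Type u} [Group H] [Finite H] {W : Type u} [AddCommGroup W] [Module K2 W] [FiniteDimensional K2 W]
  {ρ : H →* Module.End K2 W} {m : ℕ} {C0 L : Subgroup H}

/-- Kernels for one layer give kernels for all. -/
theorem layers_of {l : ℕ} (hb : Base ρ m C0 L)
    (step : ∀ M : Subgroup H, M.Normal → C0 ≤ M → M ≤ L → M ≠ C0 → ∃ F : Subgroup H, F ≤ M ∧
      ∃ (N1 : Subgroup H) (_ : N1.Normal) (N2 : Subgroup H) (_ : N2.Normal),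
        Cfsg.PLengthLE 2 l (H ⧸ N1) ∧ Cfsg.PLengthLE 2 l (H ⧸ N2) ∧
        (∀ y ∈ N1, Odd (orderOf y) → ∀ g ∈ M, y * g * y⁻¹ * g⁻¹ ∈ F) ∧
        ∀ y ∈ N2, Odd (orderOf y) → ∀ g ∈ F, y * g * y⁻¹ * g⁻¹ ∈ next ρ L M) :
    ∀ M : Subgroup H, M.Normal → C0 ≤ M → M ≤ L →
      ∃ (N : Subgroup H) (_ : N.Normal), Cfsg.PLengthLE 2 l (H ⧸ N) ∧
        ∀ y ∈ N, Odd (orderOf y) → ∀ g ∈ M, y * g * y⁻¹ * g⁻¹ ∈ C0 := by
  intro M
  induction M using WellFoundedLT.induction with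
  | _ M ih =>
  intro hMn hC hML
  haveI := hb.nC
  by_cases hne : M = C0
  · refine ⟨⊤, inferInstance, pLengthLE_quotient_top l, fun y _ _ g hg => ?_⟩
    subst hne
    exact mul_mem (hMn.conj_mem g hg y) (inv_mem hg)
  have hlt := next_lt hb hMn hC hML hne
  set D := next ρ L M with hD
  haveI hDn : D.Normal := next_normal hb hMn
  obtain ⟨N3, hN3, hl3, hk3⟩ := ih D hlt hDn (le_next hb hC) (hlt.le.trans hML)
  obtain ⟨F, mid_le, N1, hN1, N2, hN2, hl1, hl2, hk1, hk2⟩ := step M hMn hC hML hne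
  refine ⟨N1 ⊓ N2 ⊓ N3, inferInstance, pLengthLE_quotient_inf _ _ (pLengthLE_quotient_inf N1 N2 hl1 hl2) hl3,
    fun y hy hyo => ?_⟩
  -- coprime action along a chain
  have chain : ∀ A B : Subgroup H, A ≤ L → B ≤ L → (∀ g ∈ A, y * g * y⁻¹ * g⁻¹ ∈ B) →
      (∀ g ∈ B, y * g * y⁻¹ * g⁻¹ ∈ C0) → ∀ g ∈ A, y * g * y⁻¹ * g⁻¹ ∈ C0 := by
    intro A B hA hBL h1 h2 g hg
    set π := QuotientGroup.mk' C0 with hπ
    set d := y * g * y⁻¹ * g⁻¹ with hd
    obtain ⟨k, hk⟩ := hb.pw d (hBL (h1 g hg))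
    refine (QuotientGroup.eq_one_iff d).mp ?_
    refine eq_one_of_odd_step (y := π y) (w := π g) (k := k) (Odd.of_dvd_nat hyo (orderOf_map_dvd π y)) ?_ ?_ ?_
    · show π y * π d = π d * π y
      have h3 : π (y * d * y⁻¹ * d⁻¹) = 1 := (QuotientGroup.eq_one_iff _).mpr (h2 d (h1 g hg))
      rw [map_mul, map_mul, map_mul, map_inv, map_inv] at h3
      exact mul_inv_eq_iff_eq_mul.mp (mul_inv_eq_one.mp h3)
    · show π y * π g * (π y)⁻¹ = π d * π g
      rw [← map_inv, ← map_mul, ← map_mul, ← map_mul, hd, inv_mul_cancel_right]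
    · show π d ^ 2 ^ k = 1
      rw [← map_pow]
      exact (QuotientGroup.eq_one_iff _).mpr hk
  exact chain M F hML (mid_le.trans hML) (fun g hg => hk1 y hy.1.1 hyo g hg)
    (chain F D (mid_le.trans hML) (hlt.le.trans hML) (fun g hg => hk2 y hy.1.2 hyo g hg)
      (fun g hg => hk3 y hy.2 hyo g hg))

/-- Elements of odd order of a suitable subgroup centralize every layer. -/
theorem layers (hB : BStmt.{u} m) (hH : Cfsg.IsPSolvable 2 H) (hb : Base ρ (m + 1) C0 L) :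
    ∀ M : Subgroup H, M.Normal → C0 ≤ M → M ≤ L →
      ∃ (N : Subgroup H) (_ : N.Normal), Cfsg.PLengthLE 2 m (H ⧸ N) ∧
        ∀ y ∈ N, Odd (orderOf y) → ∀ g ∈ M, y * g * y⁻¹ * g⁻¹ ∈ C0 := by
  refine layers_of hb fun M hMn hC hML _ => ?_
  haveI hDn : (next ρ L M).Normal := next_normal hb hMn
  haveI hFn : (mid ρ (m + 1) L M).Normal := mid_normal hb hMn
  have hDF : next ρ L M ≤ mid ρ (m + 1) L M := le_sup_right
  have hcommD : ∀ a ∈ M, ∀ b ∈ M, a * b * a⁻¹ * b⁻¹ ∈ next ρ L M := fun a ha b hb' => comm_mem_next ha hb'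
  obtain ⟨N1, hN1, hl1, hk1⟩ := norm_kernel hB hH hMn hFn mid_le (fun a ha b hb' => hDF (hcommD a ha b hb'))
    (fun a ha => hDF (sq_mem_next ha)) (fun x hx g hg => nrm_mem_mid hb hMn hC hML hx hg)
  obtain ⟨N2, hN2, hl2, hk2⟩ := norm_kernel hB hH hFn hDn hDF
    (fun a ha b hb' => hcommD a (mid_le ha) b (mid_le hb')) (fun a ha => sq_mem_next (mid_le ha))
    (fun x hx g hg => nrm_mem_next hb hMn hC hML hx hg)
  exact ⟨_, mid_le, N1, hN1, N2, hN2, hl1, hl2, hk1, hk2⟩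

end Layered

/-- A normal subgroup without odd core whose quotient has shorter length shortens the length above the core. -/
theorem pLengthLE_quotient_core {R : Type u} [Group R] [Finite R] (N : Subgroup R) [N.Normal] {l : ℕ}
    [(Cfsg.pCore 2 R).Normal] (hN : N ⊓ Cfsg.pPrimeCore 2 R = ⊥) (hR : Cfsg.PLengthLE 2 (l + 1) R)
    (hq : Cfsg.PLengthLE 2 l (R ⧸ N)) : Cfsg.PLengthLE 2 l (R ⧸ Cfsg.pCore 2 R) := by
  haveI : (uSer 2 R 2).Normal := (Cfsg.upperPSeries 2 R 2).2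
  haveI : (uSer 2 R 1).Normal := (Cfsg.upperPSeries 2 R 1).2
  have hu1 : uSer 2 R 1 ≤ Cfsg.pPrimeCore 2 R := by
    refine le_pPrimeCore (Cfsg.upperPSeries 2 R 1).2 ?_
    have h := uSer_relIndex_even (p := 2) (G := R) Even.zero
    rw [uSer_zero, relIndex_bot_left] at h
    exact (Nat.prime_two.coprime_iff_not_dvd.mpr h).symm
  have h2 : IsPGroup 2 ↥(N ⊓ uSer 2 R 2) := by
    rintro ⟨g, hgN, hg2⟩
    have hg2' : g ∈ uSer 2 R (1 + 1) := hg2
    rw [uSer_succ_odd odd_one, mem_comap] at hg2'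
    obtain ⟨k, hk⟩ := pCore_isPGroup ⟨_, hg2'⟩
    refine ⟨k, Subtype.ext ?_⟩
    have hk' : g ^ 2 ^ k ∈ uSer 2 R 1 := (QuotientGroup.eq_one_iff _).mp (congrArg Subtype.val hk)
    exact mem_bot.mp (hN ▸ ⟨N.pow_mem hgN _, hu1 hk'⟩)
  have h3 := pLengthLE_quotient_inf N (uSer 2 R 2) hq (pLengthLE_quotient_two hR)
  exact pLengthLE_of_surjective (QuotientGroup.map (N ⊓ uSer 2 R 2) (Cfsg.pCore 2 R) (MonoidHom.id R)
    (le_pCore (Subgroup.normal_inf_normal _ _) h2)) (fun q => by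
      obtain ⟨a, rfl⟩ := QuotientGroup.mk_surjective q
      exact ⟨(a : R ⧸ N ⊓ uSer 2 R 2), rfl⟩) h3

theorem bStmt_zero : BStmt.{u} 0 := by
  intro H _ _ W _ _ _ ρ hρ _ _ hdef
  refine HHP.pLengthLE_zero_of_exponent fun P x hx => ?_
  have h := (hdef x (P.isPGroup'.to_le (zpowers_le.mpr hx))).2
  rw [show 2 ^ (0 + 1) - 1 = 1 from rfl, pow_one, sub_eq_zero, ← map_one ρ] at h
  rw [hρ h, one_pow]

theorem tStmt_succ {m : ℕ} (hB : BStmt.{u} m) : TStmt.{u} (m + 1) := by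
  intro G _ _ hG hexp
  classical
  obtain ⟨Γ, V, _, _, _, _, q, ι, χ, hq, hι, hχ, hV, -, hker, hO, -⟩ := HHP.exists_action (p := 2) hG
  obtain ⟨W, _, _, _, L, hL, hLn, -⟩ := HHExc.exists_linearization (p := 2) hV
  obtain ⟨H, hH⟩ : ∃ H, H = (χ.comp q).range := ⟨_, rfl⟩
  let f : G →* H := (χ.comp q).codRestrict H (fun g => hH ▸ ⟨g, rfl⟩)
  have hf : Function.Surjective f := fun ⟨y, hy⟩ => by
    rw [hH] at hy
    obtain ⟨g, rfl⟩ := hy
    exact ⟨g, rfl⟩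
  have hfk : f.ker ≤ uSer 2 G 2 := fun g hg => hker (congrArg Subtype.val (MonoidHom.mem_ker.mp hg))
  have hHs : Cfsg.IsPSolvable 2 H := isPSolvable_map hG f hf
  have hOH : Cfsg.pCore 2 H = ⊥ := by subst hH; exact hO
  have hdef : Def2 (L.comp H.subtype) m := by
    intro y hy
    obtain ⟨y', rfl⟩ := hf y
    obtain ⟨a, -, hap, hay⟩ := exists_pElement_lift (p := 2) f (y := y') hy
    rw [← hay]
    refine ⟨?_, hLn _ (m + 1) (HHP.norm_prod_eq_one q hq ι hι χ hχ hV hexp hap)⟩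
    obtain ⟨P, hP⟩ := hap.exists_le_sylow
    rw [← map_pow, hexp P a (hP (mem_zpowers a)), map_one]
  have hl := hB H W (L.comp H.subtype) (hL.comp H.subtype_injective) hHs hOH hdef
  haveI : (uSer 2 G 2).Normal := (Cfsg.upperPSeries 2 G 2).2
  let g : H →* G ⧸ uSer 2 G 2 := f.liftOfSurjective hf ⟨QuotientGroup.mk' _, by rwa [QuotientGroup.ker_mk']⟩
  have hg : Function.Surjective g := fun q' => by
    obtain ⟨a, rfl⟩ := QuotientGroup.mk'_surjective _ q'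
    exact ⟨f a, f.liftOfRightInverse_comp_apply _ (Function.rightInverse_surjInv hf) _ a⟩
  rw [show m + 1 = 1 + m by ring]
  exact pLengthLE_extension (uSer 2 G 2) (a := 1) (uSer_mono (by norm_num)) (pLengthLE_of_surjective g hg hl)

/-- The length is decided above the sections and by the kernel on the layers inside. -/
theorem pLengthLE_glue {H : Type u} [Group H] [Finite H] (hH : Cfsg.IsPSolvable 2 H) (K0H : Subgroup H)
    [K0H.Normal] {m : ℕ} [(Cfsg.pPrimeCore 2 H).Normal] [(Cfsg.pCore 2 (H ⧸ Cfsg.pPrimeCore 2 H)).Normal]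
    (hlH : Cfsg.PLengthLE 2 (m + 1) (H ⧸ K0H)) (N : Subgroup H) [hN : N.Normal]
    (hlN : Cfsg.PLengthLE 2 m (H ⧸ N))
    (hkN : ∀ y ∈ N, Odd (orderOf y) → ∀ g ∈ (Cfsg.pCore 2 (H ⧸ Cfsg.pPrimeCore 2 H)).comap
      (QuotientGroup.mk' (Cfsg.pPrimeCore 2 H)) ⊓ K0H, y * g * y⁻¹ * g⁻¹ ∈ Cfsg.pPrimeCore 2 H ⊓ K0H) :
    Cfsg.PLengthLE 2 (m + 1) H := by
  classical
  set C := Cfsg.pPrimeCore 2 H with hCdef
  have hCn : C.Normal := pPrimeCore_isNormal
  set π := QuotientGroup.mk' C with hπ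
  have hπs : Function.Surjective π := QuotientGroup.mk'_surjective _
  set L := (Cfsg.pCore 2 (H ⧸ C)).comap π ⊓ K0H
  set C0 := C ⊓ K0H
  have hπC : ∀ g ∈ C, π g = 1 := fun g hg => (QuotientGroup.eq_one_iff g).mpr hg
  -- the quotient by the odd core
  have hKs : Cfsg.IsPSolvable 2 (H ⧸ C) := isPSolvable_map hH π hπs
  have hOK : Cfsg.pPrimeCore 2 (H ⧸ C) = ⊥ := pPrimeCore_quotient_bot
  set U := Cfsg.pCore 2 (H ⧸ C) with hU
  have hU2 : IsPGroup 2 U := pCore_isPGroup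
  set K0 := K0H.map π with hK0
  haveI : K0.Normal := (inferInstance : K0H.Normal).map π hπs
  set Nb := N.map π with hNb
  haveI : Nb.Normal := hN.map π hπs
  have hcent : ∀ y ∈ Nb, Odd (orderOf y) → ∀ w ∈ U, w ∈ K0 → Commute y w := by
    rintro _ ⟨a, ha, rfl⟩ hyo w hwU ⟨g, hg, rfl⟩
    obtain ⟨k, hk⟩ := exists_odd_part a
    have hgL : g ∈ L := ⟨hwU, hg⟩
    have h1 := hkN _ (N.pow_mem ha _) hk g hgL
    have h2 : π (a ^ 2 ^ k * g * (a ^ 2 ^ k)⁻¹ * g⁻¹) = 1 := hπC _ h1.1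
    rw [map_mul, map_mul, map_mul, map_inv, map_inv, map_pow] at h2
    have h3 : Commute (π a ^ 2 ^ k) (π g) := mul_inv_eq_iff_eq_mul.mp (mul_inv_eq_one.mp h2)
    obtain ⟨j, hj⟩ := exists_pow_eq_self_of_coprime (x := π a) (n := 2 ^ k)
      ((Nat.coprime_two_left.mpr hyo).pow_left k)
    rw [← hj]
    exact h3.pow_left j
  have key : ∀ y ∈ Nb, Odd (orderOf y) → (∀ w ∈ U, y * w * y⁻¹ * w⁻¹ ∈ K0) → y = 1 := by
    intro y hy hyo hyw
    have hyC : y ∈ centralizer (U : Set (H ⧸ C)) := by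
      refine mem_centralizer_iff.mpr fun w hw => ?_
      set d := y * w * y⁻¹ * w⁻¹ with hd
      have hdU : d ∈ U := U.mul_mem ((inferInstance : U.Normal).conj_mem w hw y) (U.inv_mem hw)
      obtain ⟨k, hk⟩ := hU2 ⟨d, hdU⟩
      have hd1 : d = 1 := eq_one_of_odd_step hyo (hcent y hy hyo d hdU (hyw w hw)) (w := w)
        (by rw [hd, inv_mul_cancel_right]) (congrArg Subtype.val hk :)
      exact (mul_inv_eq_iff_eq_mul.mp (mul_inv_eq_one.mp hd1)).symm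
    obtain ⟨k, hk⟩ := hU2 ⟨y, centralizer_pCore_le_of_pSolvable hKs hOK hyC⟩
    have h3 := pow_gcd_eq_one.mpr ⟨(congrArg Subtype.val hk : y ^ 2 ^ k = 1), pow_orderOf_eq_one y⟩
    rwa [((Nat.coprime_two_left.mpr hyo).pow_left k : Nat.Coprime (2 ^ k) (orderOf y)), pow_one] at h3
  set X := Nb ⊓ K0 with hX
  haveI : X.Normal := inferInstance
  have hX2 : IsPGroup 2 X := by
    rintro ⟨x, hx⟩
    obtain ⟨k, hk⟩ := exists_odd_part x
    have hxk := X.pow_mem hx (2 ^ k)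
    refine ⟨k, Subtype.ext ?_⟩
    show x ^ 2 ^ k = 1
    refine key _ hxk.1 hk fun w _ => ?_
    rw [show x ^ 2 ^ k * w * (x ^ 2 ^ k)⁻¹ * w⁻¹ = x ^ 2 ^ k * (w * (x ^ 2 ^ k)⁻¹ * w⁻¹) by group]
    exact K0.mul_mem hxk.2 ((inferInstance : K0.Normal).conj_mem _ (K0.inv_mem hxk.2) w)
  have hXU : X ≤ U := le_pCore inferInstance hX2
  -- lengths of the quotients
  set R := (H ⧸ C) ⧸ X
  set μ := QuotientGroup.mk' X with hμ
  have hμs : Function.Surjective μ := QuotientGroup.mk'_surjective _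
  have hl0 : Cfsg.PLengthLE 2 (m + 1) ((H ⧸ C) ⧸ K0) :=
    pLengthLE_of_surjective (QuotientGroup.map K0H K0 π (le_comap_map π K0H)) (fun q => by
      obtain ⟨b, rfl⟩ := QuotientGroup.mk_surjective q
      obtain ⟨a, rfl⟩ := hπs b
      exact ⟨(a : H ⧸ K0H), rfl⟩)
      hlH
  have hl1 : Cfsg.PLengthLE 2 m ((H ⧸ C) ⧸ Nb) :=
    pLengthLE_of_surjective (QuotientGroup.map N Nb π (le_comap_map π N)) (fun q => by
      obtain ⟨b, rfl⟩ := QuotientGroup.mk_surjective q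
      obtain ⟨a, rfl⟩ := hπs b
      exact ⟨(a : H ⧸ N), rfl⟩) hlN
  have hR : Cfsg.PLengthLE 2 (m + 1) R :=
    pLengthLE_quotient_inf Nb K0 (pLengthLE_mono (Nat.le_succ m) hl1) hl0
  haveI : (Nb.map μ).Normal := (inferInstance : Nb.Normal).map μ hμs
  have hlR1 : Cfsg.PLengthLE 2 m (R ⧸ Nb.map μ) :=
    pLengthLE_of_surjective (QuotientGroup.map Nb (Nb.map μ) μ (le_comap_map μ Nb)) (fun q => by
      obtain ⟨b, rfl⟩ := QuotientGroup.mk_surjective q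
      obtain ⟨a, rfl⟩ := hμs b
      exact ⟨(a : (H ⧸ C) ⧸ Nb), rfl⟩) hl1
  haveI : (Cfsg.pCore 2 R).Normal := pCore_isNormal
  have hbot : Nb.map μ ⊓ Cfsg.pPrimeCore 2 R = ⊥ := by
    set W' := (Nb.map μ ⊓ Cfsg.pPrimeCore 2 R).comap μ with hW'
    haveI : (Cfsg.pPrimeCore 2 R).Normal := pPrimeCore_isNormal
    haveI hWn : W'.Normal := (Subgroup.normal_inf_normal _ _).comap μ
    have hW'N : W' ≤ Nb := by
      refine (comap_mono inf_le_left).trans ?_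
      rw [comap_map_eq, hμ, QuotientGroup.ker_mk']
      exact sup_le le_rfl inf_le_left
    have hodd : ∀ r ∈ Cfsg.pPrimeCore 2 R, ∀ k : ℕ, r ^ 2 ^ k = 1 → r = 1 := fun r hr k hk => by
      have h3 := pow_gcd_eq_one.mpr ⟨hk, (congrArg Subtype.val
        (pow_card_eq_one' (x := (⟨r, hr⟩ : Cfsg.pPrimeCore 2 R))) : r ^ Nat.card (Cfsg.pPrimeCore 2 R) = 1)⟩
      rwa [((Nat.prime_two.coprime_iff_not_dvd.mpr pPrimeCore_not_dvd).pow_left k :
        Nat.Coprime (2 ^ k) (Nat.card (Cfsg.pPrimeCore 2 R))), pow_one] at h3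
    have hWU : ∀ d ∈ W', d ∈ U → d ∈ K0 := fun d hd hdU => by
      obtain ⟨k, hk⟩ := hU2 ⟨d, hdU⟩
      have hd1 : d ^ 2 ^ k = 1 := congrArg Subtype.val hk
      have := hodd (μ d) hd.2 k (by rw [← map_pow, hd1, map_one])
      exact ((QuotientGroup.eq_one_iff d).mp this).2
    refine (eq_bot_iff_forall _).mpr fun r hr => ?_
    obtain ⟨a, rfl⟩ := hμs r
    obtain ⟨k, hk⟩ := exists_odd_part a
    have haW : a ^ 2 ^ k ∈ W' := W'.pow_mem hr _
    have h1 : a ^ 2 ^ k = 1 := key _ (hW'N haW) hk fun w hw => by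
      refine hWU _ ?_ (U.mul_mem ((inferInstance : U.Normal).conj_mem w hw _) (U.inv_mem hw))
      rw [show a ^ 2 ^ k * w * (a ^ 2 ^ k)⁻¹ * w⁻¹ = a ^ 2 ^ k * (w * (a ^ 2 ^ k)⁻¹ * w⁻¹) by group]
      exact W'.mul_mem haW (hWn.conj_mem _ (W'.inv_mem haW) w)
    exact hodd _ hr.2 k (by rw [← map_pow, h1, map_one])
  have hq := pLengthLE_quotient_core (Nb.map μ) hbot hR hlR1
  have hcoreU : (Cfsg.pCore 2 R).comap μ ≤ U := le_pCore ((pCore_isNormal).comap μ)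
    (pCore_isPGroup.comap_of_ker_isPGroup μ (by rwa [hμ, QuotientGroup.ker_mk']))
  let τ : R →* (H ⧸ C) ⧸ U := QuotientGroup.map X U (MonoidHom.id _) hXU
  have hτk : Cfsg.pCore 2 R ≤ τ.ker := fun r hr => by
    obtain ⟨a, rfl⟩ := hμs r
    exact (QuotientGroup.eq_one_iff a).mpr (hcoreU hr)
  have hlU : Cfsg.PLengthLE 2 m ((H ⧸ C) ⧸ U) :=
    pLengthLE_of_surjective (QuotientGroup.lift (Cfsg.pCore 2 R) τ hτk) (fun q => by
      obtain ⟨a, rfl⟩ := QuotientGroup.mk_surjective q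
      exact ⟨((μ a : R) : R ⧸ Cfsg.pCore 2 R), rfl⟩) hq
  have hUu : U ≤ uSer 2 (H ⧸ C) (2 * 1 + 1) := by
    refine le_trans ?_ (uSer_mono (show 1 + 1 ≤ 2 * 1 + 1 by norm_num))
    refine le_uSer_succ_odd odd_one inferInstance (S := ⊥) bot_le ?_
    rw [relIndex_bot_left]
    exact hU2.exists_card_eq
  have hlK := pLengthLE_extension U hUu hlU
  have hfin : Cfsg.PLengthLE 2 (0 + (1 + m)) H := by
    refine pLengthLE_extension C ?_ hlK
    refine le_uSer_succ_even Even.zero hCn (S := ⊥) bot_le ?_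
    rw [relIndex_bot_left]
    exact pPrimeCore_not_dvd
  rwa [Nat.zero_add, Nat.add_comm] at hfin

theorem bStmt_succ {m : ℕ} (hB : BStmt.{u} m) (hT : TStmt.{u} (m + 1)) : BStmt.{u} (m + 1) := by
  intro H _ _ W _ _ _ ρ hρ hH hO hdef
  classical
  haveI := isSolvable_of_two hH
  set C := Cfsg.pPrimeCore 2 H with hCdef
  haveI hCn : C.Normal := pPrimeCore_isNormal
  set π := QuotientGroup.mk' C with hπ
  have hπs : Function.Surjective π := QuotientGroup.mk'_surjective _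
  set K0H := secStab ρ with hK0H
  haveI : (Cfsg.pCore 2 (H ⧸ C)).Normal := pCore_isNormal
  set L := (Cfsg.pCore 2 (H ⧸ C)).comap π ⊓ K0H with hLdef
  haveI hLn : L.Normal := inferInstance
  set C0 := C ⊓ K0H with hC0def
  haveI hC0n : C0.Normal := inferInstance
  have hπC : ∀ g ∈ C, π g = 1 := fun g hg => (QuotientGroup.eq_one_iff g).mpr hg
  have hpow : ∀ x : H, IsPGroup 2 (zpowers x) → x ^ 2 ^ (m + 1) ∈ K0H := fun x hx => pow_mem_secStab hdef hx
  have hb : Base ρ (m + 1) C0 L := by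
    refine ⟨hdef, hC0n, hLn, fun g hg => ⟨?_, hg.2⟩, inf_le_right, fun h => pPrimeCore_not_dvd
      (h.trans (card_dvd_of_le inf_le_left)), fun g hg => ?_, fun x hx => ⟨?_, hpow x hx⟩,
      fun t _ ht hker => eq_one_of_forall_ker hρ hO ht hker⟩
    · show π g ∈ Cfsg.pCore 2 (H ⧸ C)
      rw [hπC g hg.1]; exact one_mem _
    · obtain ⟨k, hk⟩ := pCore_isPGroup (⟨π g, hg.1⟩ : Cfsg.pCore 2 (H ⧸ C))
      refine ⟨k, (QuotientGroup.eq_one_iff _).mp ?_, Subgroup.pow_mem _ hg.2 _⟩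
      exact congrArg Subtype.val hk
    · exact Gross.top_pow_mem hρ hH hO (Nat.le_add_left 1 m) hdef hx
  obtain ⟨N, hN, hlN, hkN⟩ := layers hB hH hb L hLn hb.le le_rfl
  exact pLengthLE_glue hH K0H (hT _ (isPSolvable_map hH (QuotientGroup.mk' K0H) (QuotientGroup.mk'_surjective _))
    (HHP.exponent_quotient_of_mem K0H hpow)) N hlN hkN

theorem stmt_all : ∀ n : ℕ, BStmt.{u} n ∧ TStmt.{u} n
  | 0 => ⟨bStmt_zero, fun _ _ _ _ hexp => HHP.pLengthLE_zero_of_exponent hexp⟩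
  | n + 1 => ⟨bStmt_succ (stmt_all n).1 (tStmt_succ (stmt_all n).1), tStmt_succ (stmt_all n).1⟩

/-- The exponent of a Sylow `2`-subgroup bounds the `2`-length. -/
theorem pLengthLE_exponent_two {G : Type u} [Group G] [Finite G] (hG : Cfsg.IsPSolvable 2 G) (e : ℕ)
    (hexp : ∀ (P : Sylow 2 G), ∀ x ∈ (P : Subgroup G), x ^ 2 ^ e = 1) : Cfsg.PLengthLE 2 e G :=
  (stmt_all e).2 G hG hexp

end Cfsg.Agent.Grp.Bry
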